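import Cfsg.Agent.J3Type.Cert.MainPart0
import Cfsg.Agent.J3Type.Cert.MainPart1
import Cfsg.Agent.J3Type.Cert.MainPart2
import Cfsg.Agent.J3Type.Cert.MainPart3
import Cfsg.Agent.J3Type.Cert.MainPart4
import Cfsg.Agent.J3Type.Cert.MainPart5
import Cfsg.Agent.J3Type.Cert.MainPart6
import Cfsg.Agent.J3Type.Cert.MainPart7
import Cfsg.Agent.J3Type.Cert.MainPart8
import Cfsg.Agent.J3Type.Cert.MainPart9
import Cfsg.Agent.J3Type.Cert.MainPart10
import Cfsg.Agent.J3Type.Cert.MainPart11
import Cfsg.Agent.J3Type.Cert.MainPart12
import Cfsg.Agent.J3Type.Cert.MainPart13
import Cfsg.Agent.J3Type.Cert.MainPart14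
import Cfsg.Agent.J3Type.Cert.MainPart15
import Cfsg.Agent.J3Type.Cert.MainPart16
import Cfsg.Agent.J3Type.Cert.MainPart17
import Cfsg.Agent.J3Type.Cert.MainPart18
import Cfsg.Agent.J3Type.Cert.MainPart19
import Cfsg.Agent.J3Type.Cert.MainPart20

/-!
The certificate is valid.
-/

set_option autoImplicit false
set_option Elab.async false

namespace Cfsg.Lib.J3Type.Main

open Cfsg.Lib.CosetCert


theorem steps0_len : steps0.length = 256 := by decide +kernel

theorem steps1_len : steps1.length = 256 := by decide +kernel

theorem steps2_len : steps2.length = 256 := by decide +kernel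

theorem steps3_len : steps3.length = 256 := by decide +kernel

theorem steps4_len : steps4.length = 256 := by decide +kernel

theorem steps5_len : steps5.length = 256 := by decide +kernel

theorem steps6_len : steps6.length = 256 := by decide +kernel

theorem steps7_len : steps7.length = 256 := by decide +kernel

theorem steps8_len : steps8.length = 256 := by decide +kernel

theorem steps9_len : steps9.length = 256 := by decide +kernel

theorem steps10_len : steps10.length = 256 := by decide +kernel

theorem steps11_len : steps11.length = 256 := by decide +kernel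

theorem steps12_len : steps12.length = 256 := by decide +kernel

theorem steps13_len : steps13.length = 256 := by decide +kernel

theorem steps14_len : steps14.length = 256 := by decide +kernel

theorem steps15_len : steps15.length = 256 := by decide +kernel

theorem steps16_len : steps16.length = 256 := by decide +kernel

theorem steps17_len : steps17.length = 256 := by decide +kernel

theorem steps18_len : steps18.length = 256 := by decide +kernel

theorem steps19_len : steps19.length = 256 := by decide +kernel

theorem steps20_len : steps20.length = 256 := by decide +kernel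

theorem steps21_len : steps21.length = 256 := by decide +kernel

theorem steps22_len : steps22.length = 256 := by decide +kernel

theorem steps23_len : steps23.length = 256 := by decide +kernel

theorem steps24_len : steps24.length = 256 := by decide +kernel

theorem steps25_len : steps25.length = 256 := by decide +kernel

theorem steps26_len : steps26.length = 256 := by decide +kernel

theorem steps27_len : steps27.length = 256 := by decide +kernel

theorem steps28_len : steps28.length = 256 := by decide +kernel

theorem steps29_len : steps29.length = 256 := by decide +kernel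

theorem steps30_len : steps30.length = 256 := by decide +kernel

theorem steps31_len : steps31.length = 256 := by decide +kernel

theorem steps32_len : steps32.length = 256 := by decide +kernel

theorem steps33_len : steps33.length = 256 := by decide +kernel

theorem steps34_len : steps34.length = 256 := by decide +kernel

theorem steps35_len : steps35.length = 256 := by decide +kernel

theorem steps36_len : steps36.length = 256 := by decide +kernel

theorem steps37_len : steps37.length = 256 := by decide +kernel

theorem steps38_len : steps38.length = 256 := by decide +kernel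

theorem steps39_len : steps39.length = 256 := by decide +kernel

theorem steps40_len : steps40.length = 256 := by decide +kernel

theorem steps41_len : steps41.length = 256 := by decide +kernel

theorem steps42_len : steps42.length = 256 := by decide +kernel

theorem steps43_len : steps43.length = 256 := by decide +kernel

theorem steps44_len : steps44.length = 256 := by decide +kernel

theorem steps45_len : steps45.length = 256 := by decide +kernel

theorem steps46_len : steps46.length = 256 := by decide +kernel

theorem steps47_len : steps47.length = 256 := by decide +kernel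

theorem steps48_len : steps48.length = 256 := by decide +kernel

theorem steps49_len : steps49.length = 256 := by decide +kernel

theorem steps50_len : steps50.length = 256 := by decide +kernel

theorem steps51_len : steps51.length = 256 := by decide +kernel

theorem steps52_len : steps52.length = 256 := by decide +kernel

theorem steps53_len : steps53.length = 256 := by decide +kernel

theorem steps54_len : steps54.length = 256 := by decide +kernel

theorem steps55_len : steps55.length = 256 := by decide +kernel

theorem steps56_len : steps56.length = 256 := by decide +kernel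

theorem steps57_len : steps57.length = 256 := by decide +kernel

theorem steps58_len : steps58.length = 256 := by decide +kernel

theorem steps59_len : steps59.length = 256 := by decide +kernel

theorem steps60_len : steps60.length = 256 := by decide +kernel

theorem steps61_len : steps61.length = 256 := by decide +kernel

theorem steps62_len : steps62.length = 256 := by decide +kernel

theorem steps63_len : steps63.length = 256 := by decide +kernel

theorem steps64_len : steps64.length = 256 := by decide +kernel

theorem steps65_len : steps65.length = 256 := by decide +kernel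

theorem steps66_len : steps66.length = 256 := by decide +kernel

theorem steps67_len : steps67.length = 256 := by decide +kernel

theorem steps68_len : steps68.length = 256 := by decide +kernel

theorem steps69_len : steps69.length = 256 := by decide +kernel

theorem steps70_len : steps70.length = 256 := by decide +kernel

theorem steps71_len : steps71.length = 256 := by decide +kernel

theorem steps72_len : steps72.length = 256 := by decide +kernel

theorem steps73_len : steps73.length = 256 := by decide +kernel

theorem steps74_len : steps74.length = 256 := by decide +kernel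

theorem steps75_len : steps75.length = 256 := by decide +kernel

theorem steps76_len : steps76.length = 256 := by decide +kernel

theorem steps77_len : steps77.length = 256 := by decide +kernel

theorem steps78_len : steps78.length = 256 := by decide +kernel

theorem steps79_len : steps79.length = 256 := by decide +kernel

theorem steps80_len : steps80.length = 256 := by decide +kernel

theorem steps81_len : steps81.length = 256 := by decide +kernel

theorem steps82_len : steps82.length = 256 := by decide +kernel

theorem steps83_len : steps83.length = 256 := by decide +kernel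

theorem steps84_len : steps84.length = 256 := by decide +kernel

theorem steps85_len : steps85.length = 256 := by decide +kernel

theorem steps86_len : steps86.length = 256 := by decide +kernel

theorem steps87_len : steps87.length = 256 := by decide +kernel

theorem steps88_len : steps88.length = 256 := by decide +kernel

theorem steps89_len : steps89.length = 256 := by decide +kernel

theorem steps90_len : steps90.length = 256 := by decide +kernel

theorem steps91_len : steps91.length = 256 := by decide +kernel

theorem steps92_len : steps92.length = 256 := by decide +kernel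

theorem steps93_len : steps93.length = 256 := by decide +kernel

theorem steps94_len : steps94.length = 256 := by decide +kernel

theorem steps95_len : steps95.length = 256 := by decide +kernel

theorem steps96_len : steps96.length = 256 := by decide +kernel

theorem steps97_len : steps97.length = 256 := by decide +kernel

theorem steps98_len : steps98.length = 256 := by decide +kernel

theorem steps99_len : steps99.length = 256 := by decide +kernel

theorem steps100_len : steps100.length = 256 := by decide +kernel

theorem steps101_len : steps101.length = 256 := by decide +kernel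

theorem steps102_len : steps102.length = 256 := by decide +kernel

theorem steps103_len : steps103.length = 256 := by decide +kernel

theorem steps104_len : steps104.length = 256 := by decide +kernel

theorem steps105_len : steps105.length = 256 := by decide +kernel

theorem steps106_len : steps106.length = 256 := by decide +kernel

theorem steps107_len : steps107.length = 256 := by decide +kernel

theorem steps108_len : steps108.length = 256 := by decide +kernel

theorem steps109_len : steps109.length = 256 := by decide +kernel

theorem steps110_len : steps110.length = 256 := by decide +kernel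

theorem steps111_len : steps111.length = 256 := by decide +kernel

theorem steps112_len : steps112.length = 256 := by decide +kernel

theorem steps113_len : steps113.length = 256 := by decide +kernel

theorem steps114_len : steps114.length = 256 := by decide +kernel

theorem steps115_len : steps115.length = 256 := by decide +kernel

theorem steps116_len : steps116.length = 256 := by decide +kernel

theorem steps117_len : steps117.length = 256 := by decide +kernel

theorem steps118_len : steps118.length = 256 := by decide +kernel

theorem steps119_len : steps119.length = 256 := by decide +kernel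

theorem steps120_len : steps120.length = 256 := by decide +kernel

theorem steps121_len : steps121.length = 256 := by decide +kernel

theorem steps122_len : steps122.length = 256 := by decide +kernel

theorem steps123_len : steps123.length = 256 := by decide +kernel

theorem steps124_len : steps124.length = 256 := by decide +kernel

theorem steps125_len : steps125.length = 256 := by decide +kernel

theorem steps126_len : steps126.length = 256 := by decide +kernel

theorem steps127_len : steps127.length = 256 := by decide +kernel

theorem steps128_len : steps128.length = 256 := by decide +kernel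

theorem steps129_len : steps129.length = 256 := by decide +kernel

theorem steps130_len : steps130.length = 256 := by decide +kernel

theorem steps131_len : steps131.length = 256 := by decide +kernel

theorem steps132_len : steps132.length = 256 := by decide +kernel

theorem steps133_len : steps133.length = 256 := by decide +kernel

theorem steps134_len : steps134.length = 256 := by decide +kernel

theorem steps135_len : steps135.length = 256 := by decide +kernel

theorem steps136_len : steps136.length = 256 := by decide +kernel

theorem steps137_len : steps137.length = 256 := by decide +kernel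

theorem steps138_len : steps138.length = 256 := by decide +kernel

theorem steps139_len : steps139.length = 256 := by decide +kernel

theorem steps140_len : steps140.length = 256 := by decide +kernel

theorem steps141_len : steps141.length = 256 := by decide +kernel

theorem steps142_len : steps142.length = 256 := by decide +kernel

theorem steps143_len : steps143.length = 256 := by decide +kernel

theorem steps144_len : steps144.length = 256 := by decide +kernel

theorem steps145_len : steps145.length = 256 := by decide +kernel

theorem steps146_len : steps146.length = 256 := by decide +kernel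

theorem steps147_len : steps147.length = 256 := by decide +kernel

theorem steps148_len : steps148.length = 256 := by decide +kernel

theorem steps149_len : steps149.length = 256 := by decide +kernel

theorem steps150_len : steps150.length = 256 := by decide +kernel

theorem steps151_len : steps151.length = 256 := by decide +kernel

theorem steps152_len : steps152.length = 256 := by decide +kernel

theorem steps153_len : steps153.length = 256 := by decide +kernel

theorem steps154_len : steps154.length = 256 := by decide +kernel

theorem steps155_len : steps155.length = 256 := by decide +kernel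

theorem steps156_len : steps156.length = 256 := by decide +kernel

theorem steps157_len : steps157.length = 256 := by decide +kernel

theorem steps158_len : steps158.length = 256 := by decide +kernel

theorem steps159_len : steps159.length = 256 := by decide +kernel

theorem steps160_len : steps160.length = 256 := by decide +kernel

theorem steps161_len : steps161.length = 256 := by decide +kernel

theorem steps162_len : steps162.length = 256 := by decide +kernel

theorem steps163_len : steps163.length = 256 := by decide +kernel

theorem steps164_len : steps164.length = 256 := by decide +kernel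

theorem steps165_len : steps165.length = 256 := by decide +kernel

theorem steps166_len : steps166.length = 256 := by decide +kernel

theorem steps167_len : steps167.length = 256 := by decide +kernel

theorem steps168_len : steps168.length = 256 := by decide +kernel

theorem steps169_len : steps169.length = 256 := by decide +kernel

theorem steps170_len : steps170.length = 256 := by decide +kernel

theorem steps171_len : steps171.length = 256 := by decide +kernel

theorem steps172_len : steps172.length = 256 := by decide +kernel

theorem steps173_len : steps173.length = 256 := by decide +kernel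

theorem steps174_len : steps174.length = 256 := by decide +kernel

theorem steps175_len : steps175.length = 256 := by decide +kernel

theorem steps176_len : steps176.length = 256 := by decide +kernel

theorem steps177_len : steps177.length = 256 := by decide +kernel

theorem steps178_len : steps178.length = 256 := by decide +kernel

theorem steps179_len : steps179.length = 256 := by decide +kernel

theorem steps180_len : steps180.length = 256 := by decide +kernel

theorem steps181_len : steps181.length = 256 := by decide +kernel

theorem steps182_len : steps182.length = 256 := by decide +kernel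

theorem steps183_len : steps183.length = 256 := by decide +kernel

theorem steps184_len : steps184.length = 256 := by decide +kernel

theorem steps185_len : steps185.length = 256 := by decide +kernel

theorem steps186_len : steps186.length = 256 := by decide +kernel

theorem steps187_len : steps187.length = 256 := by decide +kernel

theorem steps188_len : steps188.length = 256 := by decide +kernel

theorem steps189_len : steps189.length = 256 := by decide +kernel

theorem steps190_len : steps190.length = 256 := by decide +kernel

theorem steps191_len : steps191.length = 256 := by decide +kernel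

theorem steps192_len : steps192.length = 256 := by decide +kernel

theorem steps193_len : steps193.length = 256 := by decide +kernel

theorem steps194_len : steps194.length = 256 := by decide +kernel

theorem steps195_len : steps195.length = 256 := by decide +kernel

theorem steps196_len : steps196.length = 256 := by decide +kernel

theorem steps197_len : steps197.length = 256 := by decide +kernel

theorem steps198_len : steps198.length = 256 := by decide +kernel

theorem steps199_len : steps199.length = 256 := by decide +kernel

theorem steps200_len : steps200.length = 256 := by decide +kernel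

theorem steps201_len : steps201.length = 256 := by decide +kernel

theorem steps202_len : steps202.length = 256 := by decide +kernel

theorem steps203_len : steps203.length = 256 := by decide +kernel

theorem steps204_len : steps204.length = 256 := by decide +kernel

theorem steps205_len : steps205.length = 256 := by decide +kernel

theorem steps206_len : steps206.length = 256 := by decide +kernel

theorem steps207_len : steps207.length = 256 := by decide +kernel

theorem steps208_len : steps208.length = 256 := by decide +kernel

theorem steps209_len : steps209.length = 256 := by decide +kernel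

theorem steps210_len : steps210.length = 256 := by decide +kernel

theorem steps211_len : steps211.length = 256 := by decide +kernel

theorem steps212_len : steps212.length = 256 := by decide +kernel

theorem steps213_len : steps213.length = 256 := by decide +kernel

theorem steps214_len : steps214.length = 256 := by decide +kernel

theorem steps215_len : steps215.length = 256 := by decide +kernel

theorem steps216_len : steps216.length = 256 := by decide +kernel

theorem steps217_len : steps217.length = 256 := by decide +kernel

theorem steps218_len : steps218.length = 256 := by decide +kernel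

theorem steps219_len : steps219.length = 256 := by decide +kernel

theorem steps220_len : steps220.length = 256 := by decide +kernel

theorem steps221_len : steps221.length = 256 := by decide +kernel

theorem steps222_len : steps222.length = 256 := by decide +kernel

theorem steps223_len : steps223.length = 256 := by decide +kernel

theorem steps224_len : steps224.length = 256 := by decide +kernel

theorem steps225_len : steps225.length = 256 := by decide +kernel

theorem steps226_len : steps226.length = 256 := by decide +kernel

theorem steps227_len : steps227.length = 256 := by decide +kernel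

theorem steps228_len : steps228.length = 256 := by decide +kernel

theorem steps229_len : steps229.length = 256 := by decide +kernel

theorem steps230_len : steps230.length = 256 := by decide +kernel

theorem steps231_len : steps231.length = 256 := by decide +kernel

theorem steps232_len : steps232.length = 256 := by decide +kernel

theorem steps233_len : steps233.length = 256 := by decide +kernel

theorem steps234_len : steps234.length = 256 := by decide +kernel

theorem steps235_len : steps235.length = 256 := by decide +kernel

theorem steps236_len : steps236.length = 256 := by decide +kernel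

theorem steps237_len : steps237.length = 256 := by decide +kernel

theorem steps238_len : steps238.length = 256 := by decide +kernel

theorem steps239_len : steps239.length = 256 := by decide +kernel

theorem steps240_len : steps240.length = 256 := by decide +kernel

theorem steps241_len : steps241.length = 256 := by decide +kernel

theorem steps242_len : steps242.length = 256 := by decide +kernel

theorem steps243_len : steps243.length = 256 := by decide +kernel

theorem steps244_len : steps244.length = 256 := by decide +kernel

theorem steps245_len : steps245.length = 256 := by decide +kernel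

theorem steps246_len : steps246.length = 256 := by decide +kernel

theorem steps247_len : steps247.length = 256 := by decide +kernel

theorem steps248_len : steps248.length = 256 := by decide +kernel

theorem steps249_len : steps249.length = 256 := by decide +kernel

theorem steps250_len : steps250.length = 256 := by decide +kernel

theorem steps251_len : steps251.length = 256 := by decide +kernel

theorem steps252_len : steps252.length = 256 := by decide +kernel

theorem steps253_len : steps253.length = 256 := by decide +kernel

theorem steps254_len : steps254.length = 256 := by decide +kernel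

theorem steps255_len : steps255.length = 256 := by decide +kernel

theorem steps256_len : steps256.length = 256 := by decide +kernel

theorem steps257_len : steps257.length = 256 := by decide +kernel

theorem steps258_len : steps258.length = 256 := by decide +kernel

theorem steps259_len : steps259.length = 256 := by decide +kernel

theorem steps260_len : steps260.length = 256 := by decide +kernel

theorem steps261_len : steps261.length = 256 := by decide +kernel

theorem steps262_len : steps262.length = 256 := by decide +kernel

theorem steps263_len : steps263.length = 256 := by decide +kernel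

theorem steps264_len : steps264.length = 256 := by decide +kernel

theorem steps265_len : steps265.length = 256 := by decide +kernel

theorem steps266_len : steps266.length = 256 := by decide +kernel

theorem steps267_len : steps267.length = 256 := by decide +kernel

theorem steps268_len : steps268.length = 256 := by decide +kernel

theorem steps269_len : steps269.length = 256 := by decide +kernel

theorem steps270_len : steps270.length = 256 := by decide +kernel

theorem steps271_len : steps271.length = 256 := by decide +kernel

theorem steps272_len : steps272.length = 256 := by decide +kernel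

theorem steps273_len : steps273.length = 256 := by decide +kernel

theorem steps274_len : steps274.length = 256 := by decide +kernel

theorem steps275_len : steps275.length = 256 := by decide +kernel

theorem steps276_len : steps276.length = 256 := by decide +kernel

theorem steps277_len : steps277.length = 256 := by decide +kernel

theorem steps278_len : steps278.length = 256 := by decide +kernel

theorem steps279_len : steps279.length = 256 := by decide +kernel

theorem steps280_len : steps280.length = 256 := by decide +kernel

theorem steps281_len : steps281.length = 256 := by decide +kernel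

theorem steps282_len : steps282.length = 256 := by decide +kernel

theorem steps283_len : steps283.length = 256 := by decide +kernel

theorem steps284_len : steps284.length = 256 := by decide +kernel

theorem steps285_len : steps285.length = 256 := by decide +kernel

theorem steps286_len : steps286.length = 256 := by decide +kernel

theorem steps287_len : steps287.length = 256 := by decide +kernel

theorem steps288_len : steps288.length = 256 := by decide +kernel

theorem steps289_len : steps289.length = 256 := by decide +kernel

theorem steps290_len : steps290.length = 256 := by decide +kernel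

theorem steps291_len : steps291.length = 256 := by decide +kernel

theorem steps292_len : steps292.length = 256 := by decide +kernel

theorem steps293_len : steps293.length = 256 := by decide +kernel

theorem steps294_len : steps294.length = 256 := by decide +kernel

theorem steps295_len : steps295.length = 256 := by decide +kernel

theorem steps296_len : steps296.length = 256 := by decide +kernel

theorem steps297_len : steps297.length = 256 := by decide +kernel

theorem steps298_len : steps298.length = 256 := by decide +kernel

theorem steps299_len : steps299.length = 256 := by decide +kernel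

theorem steps300_len : steps300.length = 256 := by decide +kernel

theorem steps301_len : steps301.length = 256 := by decide +kernel

theorem steps302_len : steps302.length = 256 := by decide +kernel

theorem steps303_len : steps303.length = 256 := by decide +kernel

theorem steps304_len : steps304.length = 256 := by decide +kernel

theorem steps305_len : steps305.length = 256 := by decide +kernel

theorem steps306_len : steps306.length = 256 := by decide +kernel

theorem steps307_len : steps307.length = 256 := by decide +kernel

theorem steps308_len : steps308.length = 256 := by decide +kernel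

theorem steps309_len : steps309.length = 256 := by decide +kernel

theorem steps310_len : steps310.length = 256 := by decide +kernel

theorem steps311_len : steps311.length = 256 := by decide +kernel

theorem steps312_len : steps312.length = 256 := by decide +kernel

theorem steps313_len : steps313.length = 256 := by decide +kernel

theorem steps314_len : steps314.length = 256 := by decide +kernel

theorem steps315_len : steps315.length = 256 := by decide +kernel

theorem steps316_len : steps316.length = 256 := by decide +kernel

theorem steps317_len : steps317.length = 256 := by decide +kernel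

theorem steps318_len : steps318.length = 256 := by decide +kernel

theorem steps319_len : steps319.length = 256 := by decide +kernel

theorem steps320_len : steps320.length = 256 := by decide +kernel

theorem steps321_len : steps321.length = 256 := by decide +kernel

theorem steps322_len : steps322.length = 256 := by decide +kernel

theorem steps323_len : steps323.length = 256 := by decide +kernel

theorem steps324_len : steps324.length = 256 := by decide +kernel

theorem steps325_len : steps325.length = 256 := by decide +kernel

theorem steps326_len : steps326.length = 256 := by decide +kernel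

theorem steps327_len : steps327.length = 256 := by decide +kernel

theorem steps328_len : steps328.length = 256 := by decide +kernel

theorem steps329_len : steps329.length = 256 := by decide +kernel

theorem steps330_len : steps330.length = 256 := by decide +kernel

theorem steps331_len : steps331.length = 256 := by decide +kernel

theorem steps332_len : steps332.length = 256 := by decide +kernel

theorem steps333_len : steps333.length = 256 := by decide +kernel

theorem steps334_len : steps334.length = 256 := by decide +kernel

theorem steps335_len : steps335.length = 256 := by decide +kernel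

theorem steps336_len : steps336.length = 256 := by decide +kernel

theorem steps337_len : steps337.length = 256 := by decide +kernel

theorem steps338_len : steps338.length = 256 := by decide +kernel

theorem steps339_len : steps339.length = 256 := by decide +kernel

theorem steps340_len : steps340.length = 256 := by decide +kernel

theorem steps341_len : steps341.length = 256 := by decide +kernel

theorem steps342_len : steps342.length = 256 := by decide +kernel

theorem steps343_len : steps343.length = 256 := by decide +kernel

theorem steps344_len : steps344.length = 256 := by decide +kernel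

theorem steps345_len : steps345.length = 256 := by decide +kernel

theorem steps346_len : steps346.length = 256 := by decide +kernel

theorem steps347_len : steps347.length = 256 := by decide +kernel

theorem steps348_len : steps348.length = 256 := by decide +kernel

theorem steps349_len : steps349.length = 256 := by decide +kernel

theorem steps350_len : steps350.length = 256 := by decide +kernel

theorem steps351_len : steps351.length = 256 := by decide +kernel

theorem steps352_len : steps352.length = 256 := by decide +kernel

theorem steps353_len : steps353.length = 256 := by decide +kernel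

theorem steps354_len : steps354.length = 256 := by decide +kernel

theorem steps355_len : steps355.length = 256 := by decide +kernel

theorem steps356_len : steps356.length = 256 := by decide +kernel

theorem steps357_len : steps357.length = 256 := by decide +kernel

theorem steps358_len : steps358.length = 256 := by decide +kernel

theorem steps359_len : steps359.length = 256 := by decide +kernel

theorem steps360_len : steps360.length = 256 := by decide +kernel

theorem steps361_len : steps361.length = 256 := by decide +kernel

theorem steps362_len : steps362.length = 256 := by decide +kernel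

theorem steps363_len : steps363.length = 256 := by decide +kernel

theorem steps364_len : steps364.length = 256 := by decide +kernel

theorem steps365_len : steps365.length = 256 := by decide +kernel

theorem steps366_len : steps366.length = 256 := by decide +kernel

theorem steps367_len : steps367.length = 256 := by decide +kernel

theorem steps368_len : steps368.length = 256 := by decide +kernel

theorem steps369_len : steps369.length = 256 := by decide +kernel

theorem steps370_len : steps370.length = 256 := by decide +kernel

theorem steps371_len : steps371.length = 256 := by decide +kernel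

theorem steps372_len : steps372.length = 256 := by decide +kernel

theorem steps373_len : steps373.length = 256 := by decide +kernel

theorem steps374_len : steps374.length = 256 := by decide +kernel

theorem steps375_len : steps375.length = 256 := by decide +kernel

theorem steps376_len : steps376.length = 256 := by decide +kernel

theorem steps377_len : steps377.length = 256 := by decide +kernel

theorem steps378_len : steps378.length = 256 := by decide +kernel

theorem steps379_len : steps379.length = 256 := by decide +kernel

theorem steps380_len : steps380.length = 256 := by decide +kernel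

theorem steps381_len : steps381.length = 256 := by decide +kernel

theorem steps382_len : steps382.length = 256 := by decide +kernel

theorem steps383_len : steps383.length = 256 := by decide +kernel

theorem steps384_len : steps384.length = 256 := by decide +kernel

theorem steps385_len : steps385.length = 256 := by decide +kernel

theorem steps386_len : steps386.length = 256 := by decide +kernel

theorem steps387_len : steps387.length = 256 := by decide +kernel

theorem steps388_len : steps388.length = 256 := by decide +kernel

theorem steps389_len : steps389.length = 256 := by decide +kernel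

theorem steps390_len : steps390.length = 256 := by decide +kernel

theorem steps391_len : steps391.length = 256 := by decide +kernel

theorem steps392_len : steps392.length = 256 := by decide +kernel

theorem steps393_len : steps393.length = 256 := by decide +kernel

theorem steps394_len : steps394.length = 256 := by decide +kernel

theorem steps395_len : steps395.length = 256 := by decide +kernel

theorem steps396_len : steps396.length = 256 := by decide +kernel

theorem steps397_len : steps397.length = 256 := by decide +kernel

theorem steps398_len : steps398.length = 256 := by decide +kernel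

theorem steps399_len : steps399.length = 256 := by decide +kernel

theorem steps400_len : steps400.length = 256 := by decide +kernel

theorem steps401_len : steps401.length = 256 := by decide +kernel

theorem steps402_len : steps402.length = 256 := by decide +kernel

theorem steps403_len : steps403.length = 256 := by decide +kernel

theorem steps404_len : steps404.length = 256 := by decide +kernel

theorem steps405_len : steps405.length = 256 := by decide +kernel

theorem steps406_len : steps406.length = 256 := by decide +kernel

theorem steps407_len : steps407.length = 256 := by decide +kernel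

theorem steps408_len : steps408.length = 256 := by decide +kernel

theorem steps409_len : steps409.length = 256 := by decide +kernel

theorem steps410_len : steps410.length = 256 := by decide +kernel

theorem steps411_len : steps411.length = 256 := by decide +kernel

theorem steps412_len : steps412.length = 256 := by decide +kernel

theorem steps413_len : steps413.length = 256 := by decide +kernel

theorem steps414_len : steps414.length = 256 := by decide +kernel

theorem steps415_len : steps415.length = 256 := by decide +kernel

theorem steps416_len : steps416.length = 256 := by decide +kernel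

theorem steps417_len : steps417.length = 256 := by decide +kernel

theorem steps418_len : steps418.length = 256 := by decide +kernel

theorem steps419_len : steps419.length = 256 := by decide +kernel

theorem steps420_len : steps420.length = 256 := by decide +kernel

theorem steps421_len : steps421.length = 256 := by decide +kernel

theorem steps422_len : steps422.length = 256 := by decide +kernel

theorem steps423_len : steps423.length = 256 := by decide +kernel

theorem steps424_len : steps424.length = 256 := by decide +kernel

theorem steps425_len : steps425.length = 256 := by decide +kernel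

theorem steps426_len : steps426.length = 256 := by decide +kernel

theorem steps427_len : steps427.length = 256 := by decide +kernel

theorem steps428_len : steps428.length = 256 := by decide +kernel

theorem steps429_len : steps429.length = 256 := by decide +kernel

theorem steps430_len : steps430.length = 256 := by decide +kernel

theorem steps431_len : steps431.length = 256 := by decide +kernel

theorem steps432_len : steps432.length = 256 := by decide +kernel

theorem steps433_len : steps433.length = 256 := by decide +kernel

theorem steps434_len : steps434.length = 256 := by decide +kernel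

theorem steps435_len : steps435.length = 256 := by decide +kernel

theorem steps436_len : steps436.length = 256 := by decide +kernel

theorem steps437_len : steps437.length = 256 := by decide +kernel

theorem steps438_len : steps438.length = 256 := by decide +kernel

theorem steps439_len : steps439.length = 256 := by decide +kernel

theorem steps440_len : steps440.length = 256 := by decide +kernel

theorem steps441_len : steps441.length = 256 := by decide +kernel

theorem steps442_len : steps442.length = 256 := by decide +kernel

theorem steps443_len : steps443.length = 256 := by decide +kernel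

theorem steps444_len : steps444.length = 256 := by decide +kernel

theorem steps445_len : steps445.length = 256 := by decide +kernel

theorem steps446_len : steps446.length = 256 := by decide +kernel

theorem steps447_len : steps447.length = 256 := by decide +kernel

theorem steps448_len : steps448.length = 256 := by decide +kernel

theorem steps449_len : steps449.length = 256 := by decide +kernel

theorem steps450_len : steps450.length = 256 := by decide +kernel

theorem steps451_len : steps451.length = 256 := by decide +kernel

theorem steps452_len : steps452.length = 256 := by decide +kernel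

theorem steps453_len : steps453.length = 256 := by decide +kernel

theorem steps454_len : steps454.length = 256 := by decide +kernel

theorem steps455_len : steps455.length = 256 := by decide +kernel

theorem steps456_len : steps456.length = 256 := by decide +kernel

theorem steps457_len : steps457.length = 256 := by decide +kernel

theorem steps458_len : steps458.length = 256 := by decide +kernel

theorem steps459_len : steps459.length = 256 := by decide +kernel

theorem steps460_len : steps460.length = 256 := by decide +kernel

theorem steps461_len : steps461.length = 256 := by decide +kernel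

theorem steps462_len : steps462.length = 256 := by decide +kernel

theorem steps463_len : steps463.length = 256 := by decide +kernel

theorem steps464_len : steps464.length = 256 := by decide +kernel

theorem steps465_len : steps465.length = 256 := by decide +kernel

theorem steps466_len : steps466.length = 256 := by decide +kernel

theorem steps467_len : steps467.length = 256 := by decide +kernel

theorem steps468_len : steps468.length = 256 := by decide +kernel

theorem steps469_len : steps469.length = 256 := by decide +kernel

theorem steps470_len : steps470.length = 256 := by decide +kernel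

theorem steps471_len : steps471.length = 256 := by decide +kernel

theorem steps472_len : steps472.length = 256 := by decide +kernel

theorem steps473_len : steps473.length = 256 := by decide +kernel

theorem steps474_len : steps474.length = 256 := by decide +kernel

theorem steps475_len : steps475.length = 256 := by decide +kernel

theorem steps476_len : steps476.length = 256 := by decide +kernel

theorem steps477_len : steps477.length = 256 := by decide +kernel

theorem steps478_len : steps478.length = 256 := by decide +kernel

theorem steps479_len : steps479.length = 256 := by decide +kernel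

theorem steps480_len : steps480.length = 256 := by decide +kernel

theorem steps481_len : steps481.length = 256 := by decide +kernel

theorem steps482_len : steps482.length = 256 := by decide +kernel

theorem steps483_len : steps483.length = 256 := by decide +kernel

theorem steps484_len : steps484.length = 256 := by decide +kernel

theorem steps485_len : steps485.length = 256 := by decide +kernel

theorem steps486_len : steps486.length = 256 := by decide +kernel

theorem steps487_len : steps487.length = 256 := by decide +kernel

theorem steps488_len : steps488.length = 256 := by decide +kernel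

theorem steps489_len : steps489.length = 256 := by decide +kernel

theorem steps490_len : steps490.length = 256 := by decide +kernel

theorem steps491_len : steps491.length = 256 := by decide +kernel

theorem steps492_len : steps492.length = 256 := by decide +kernel

theorem steps493_len : steps493.length = 256 := by decide +kernel

theorem steps494_len : steps494.length = 256 := by decide +kernel

theorem steps495_len : steps495.length = 256 := by decide +kernel

theorem steps496_len : steps496.length = 256 := by decide +kernel

theorem steps497_len : steps497.length = 256 := by decide +kernel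

theorem steps498_len : steps498.length = 256 := by decide +kernel

theorem steps499_len : steps499.length = 256 := by decide +kernel

theorem steps500_len : steps500.length = 256 := by decide +kernel

theorem steps501_len : steps501.length = 256 := by decide +kernel

theorem steps502_len : steps502.length = 256 := by decide +kernel

theorem steps503_len : steps503.length = 256 := by decide +kernel

theorem steps504_len : steps504.length = 256 := by decide +kernel

theorem steps505_len : steps505.length = 256 := by decide +kernel

theorem steps506_len : steps506.length = 256 := by decide +kernel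

theorem steps507_len : steps507.length = 256 := by decide +kernel

theorem steps508_len : steps508.length = 256 := by decide +kernel

theorem steps509_len : steps509.length = 256 := by decide +kernel

theorem steps510_len : steps510.length = 256 := by decide +kernel

theorem steps511_len : steps511.length = 256 := by decide +kernel

theorem steps512_len : steps512.length = 256 := by decide +kernel

theorem steps513_len : steps513.length = 256 := by decide +kernel

theorem steps514_len : steps514.length = 256 := by decide +kernel

theorem steps515_len : steps515.length = 256 := by decide +kernel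

theorem steps516_len : steps516.length = 256 := by decide +kernel

theorem steps517_len : steps517.length = 256 := by decide +kernel

theorem steps518_len : steps518.length = 256 := by decide +kernel

theorem steps519_len : steps519.length = 256 := by decide +kernel

theorem steps520_len : steps520.length = 256 := by decide +kernel

theorem steps521_len : steps521.length = 256 := by decide +kernel

theorem steps522_len : steps522.length = 256 := by decide +kernel

theorem steps523_len : steps523.length = 256 := by decide +kernel

theorem steps524_len : steps524.length = 256 := by decide +kernel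

theorem steps525_len : steps525.length = 256 := by decide +kernel

theorem steps526_len : steps526.length = 256 := by decide +kernel

theorem steps527_len : steps527.length = 256 := by decide +kernel

theorem steps528_len : steps528.length = 256 := by decide +kernel

theorem steps529_len : steps529.length = 256 := by decide +kernel

theorem steps530_len : steps530.length = 256 := by decide +kernel

theorem steps531_len : steps531.length = 256 := by decide +kernel

theorem steps532_len : steps532.length = 256 := by decide +kernel

theorem steps533_len : steps533.length = 256 := by decide +kernel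

theorem steps534_len : steps534.length = 256 := by decide +kernel

theorem steps535_len : steps535.length = 256 := by decide +kernel

theorem steps536_len : steps536.length = 256 := by decide +kernel

theorem steps537_len : steps537.length = 256 := by decide +kernel

theorem steps538_len : steps538.length = 256 := by decide +kernel

theorem steps539_len : steps539.length = 256 := by decide +kernel

theorem steps540_len : steps540.length = 256 := by decide +kernel

theorem steps541_len : steps541.length = 256 := by decide +kernel

theorem steps542_len : steps542.length = 256 := by decide +kernel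

theorem steps543_len : steps543.length = 256 := by decide +kernel

theorem steps544_len : steps544.length = 256 := by decide +kernel

theorem steps545_len : steps545.length = 256 := by decide +kernel

theorem steps546_len : steps546.length = 256 := by decide +kernel

theorem steps547_len : steps547.length = 256 := by decide +kernel

theorem steps548_len : steps548.length = 256 := by decide +kernel

theorem steps549_len : steps549.length = 256 := by decide +kernel

theorem steps550_len : steps550.length = 256 := by decide +kernel

theorem steps551_len : steps551.length = 256 := by decide +kernel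

theorem steps552_len : steps552.length = 256 := by decide +kernel

theorem steps553_len : steps553.length = 256 := by decide +kernel

theorem steps554_len : steps554.length = 256 := by decide +kernel

theorem steps555_len : steps555.length = 256 := by decide +kernel

theorem steps556_len : steps556.length = 256 := by decide +kernel

theorem steps557_len : steps557.length = 256 := by decide +kernel

theorem steps558_len : steps558.length = 256 := by decide +kernel

theorem steps559_len : steps559.length = 256 := by decide +kernel

theorem steps560_len : steps560.length = 256 := by decide +kernel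

theorem steps561_len : steps561.length = 256 := by decide +kernel

theorem steps562_len : steps562.length = 256 := by decide +kernel

theorem steps563_len : steps563.length = 256 := by decide +kernel

theorem steps564_len : steps564.length = 256 := by decide +kernel

theorem steps565_len : steps565.length = 256 := by decide +kernel

theorem steps566_len : steps566.length = 256 := by decide +kernel

theorem steps567_len : steps567.length = 256 := by decide +kernel

theorem steps568_len : steps568.length = 256 := by decide +kernel

theorem steps569_len : steps569.length = 256 := by decide +kernel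

theorem steps570_len : steps570.length = 256 := by decide +kernel

theorem steps571_len : steps571.length = 256 := by decide +kernel

theorem steps572_len : steps572.length = 256 := by decide +kernel

theorem steps573_len : steps573.length = 256 := by decide +kernel

theorem steps574_len : steps574.length = 256 := by decide +kernel

theorem steps575_len : steps575.length = 256 := by decide +kernel

theorem steps576_len : steps576.length = 256 := by decide +kernel

theorem steps577_len : steps577.length = 256 := by decide +kernel

theorem steps578_len : steps578.length = 256 := by decide +kernel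

theorem steps579_len : steps579.length = 256 := by decide +kernel

theorem steps580_len : steps580.length = 256 := by decide +kernel

theorem steps581_len : steps581.length = 256 := by decide +kernel

theorem steps582_len : steps582.length = 256 := by decide +kernel

theorem steps583_len : steps583.length = 256 := by decide +kernel

theorem steps584_len : steps584.length = 256 := by decide +kernel

theorem steps585_len : steps585.length = 256 := by decide +kernel

theorem steps586_len : steps586.length = 256 := by decide +kernel

theorem steps587_len : steps587.length = 256 := by decide +kernel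

theorem steps588_len : steps588.length = 256 := by decide +kernel

theorem steps589_len : steps589.length = 256 := by decide +kernel

theorem steps590_len : steps590.length = 256 := by decide +kernel

theorem steps591_len : steps591.length = 256 := by decide +kernel

theorem steps592_len : steps592.length = 256 := by decide +kernel

theorem steps593_len : steps593.length = 256 := by decide +kernel

theorem steps594_len : steps594.length = 256 := by decide +kernel

theorem steps595_len : steps595.length = 256 := by decide +kernel

theorem steps596_len : steps596.length = 256 := by decide +kernel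

theorem steps597_len : steps597.length = 256 := by decide +kernel

theorem steps598_len : steps598.length = 256 := by decide +kernel

theorem steps599_len : steps599.length = 256 := by decide +kernel

theorem steps600_len : steps600.length = 256 := by decide +kernel

theorem steps601_len : steps601.length = 256 := by decide +kernel

theorem steps602_len : steps602.length = 256 := by decide +kernel

theorem steps603_len : steps603.length = 256 := by decide +kernel

theorem steps604_len : steps604.length = 256 := by decide +kernel

theorem steps605_len : steps605.length = 256 := by decide +kernel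

theorem steps606_len : steps606.length = 256 := by decide +kernel

theorem steps607_len : steps607.length = 256 := by decide +kernel

theorem steps608_len : steps608.length = 256 := by decide +kernel

theorem steps609_len : steps609.length = 256 := by decide +kernel

theorem steps610_len : steps610.length = 256 := by decide +kernel

theorem steps611_len : steps611.length = 256 := by decide +kernel

theorem steps612_len : steps612.length = 256 := by decide +kernel

theorem steps613_len : steps613.length = 256 := by decide +kernel

theorem steps614_len : steps614.length = 256 := by decide +kernel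

theorem steps615_len : steps615.length = 256 := by decide +kernel

theorem steps616_len : steps616.length = 256 := by decide +kernel

theorem steps617_len : steps617.length = 256 := by decide +kernel

theorem steps618_len : steps618.length = 256 := by decide +kernel

theorem steps619_len : steps619.length = 256 := by decide +kernel

theorem steps620_len : steps620.length = 256 := by decide +kernel

theorem steps621_len : steps621.length = 256 := by decide +kernel

theorem steps622_len : steps622.length = 256 := by decide +kernel

theorem steps623_len : steps623.length = 256 := by decide +kernel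

theorem steps624_len : steps624.length = 256 := by decide +kernel

theorem steps625_len : steps625.length = 256 := by decide +kernel

theorem steps626_len : steps626.length = 256 := by decide +kernel

theorem steps627_len : steps627.length = 256 := by decide +kernel

theorem steps628_len : steps628.length = 256 := by decide +kernel

theorem steps629_len : steps629.length = 256 := by decide +kernel

theorem steps630_len : steps630.length = 256 := by decide +kernel

theorem steps631_len : steps631.length = 256 := by decide +kernel

theorem steps632_len : steps632.length = 256 := by decide +kernel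

theorem steps633_len : steps633.length = 256 := by decide +kernel

theorem steps634_len : steps634.length = 256 := by decide +kernel

theorem steps635_len : steps635.length = 256 := by decide +kernel

theorem steps636_len : steps636.length = 256 := by decide +kernel

theorem steps637_len : steps637.length = 256 := by decide +kernel

theorem steps638_len : steps638.length = 256 := by decide +kernel

theorem steps639_len : steps639.length = 256 := by decide +kernel

theorem steps640_len : steps640.length = 256 := by decide +kernel

theorem steps641_len : steps641.length = 256 := by decide +kernel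

theorem steps642_len : steps642.length = 256 := by decide +kernel

theorem steps643_len : steps643.length = 256 := by decide +kernel

theorem steps644_len : steps644.length = 256 := by decide +kernel

theorem steps645_len : steps645.length = 256 := by decide +kernel

theorem steps646_len : steps646.length = 256 := by decide +kernel

theorem steps647_len : steps647.length = 256 := by decide +kernel

theorem steps648_len : steps648.length = 256 := by decide +kernel

theorem steps649_len : steps649.length = 256 := by decide +kernel

theorem steps650_len : steps650.length = 256 := by decide +kernel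

theorem steps651_len : steps651.length = 256 := by decide +kernel

theorem steps652_len : steps652.length = 256 := by decide +kernel

theorem steps653_len : steps653.length = 256 := by decide +kernel

theorem steps654_len : steps654.length = 256 := by decide +kernel

theorem steps655_len : steps655.length = 256 := by decide +kernel

theorem steps656_len : steps656.length = 256 := by decide +kernel

theorem steps657_len : steps657.length = 256 := by decide +kernel

theorem steps658_len : steps658.length = 256 := by decide +kernel

theorem steps659_len : steps659.length = 256 := by decide +kernel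

theorem steps660_len : steps660.length = 256 := by decide +kernel

theorem steps661_len : steps661.length = 256 := by decide +kernel

theorem steps662_len : steps662.length = 256 := by decide +kernel

theorem steps663_len : steps663.length = 256 := by decide +kernel

theorem steps664_len : steps664.length = 256 := by decide +kernel

theorem steps665_len : steps665.length = 256 := by decide +kernel

theorem steps666_len : steps666.length = 256 := by decide +kernel

theorem steps667_len : steps667.length = 256 := by decide +kernel

theorem steps668_len : steps668.length = 256 := by decide +kernel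

theorem steps669_len : steps669.length = 256 := by decide +kernel

theorem steps670_len : steps670.length = 256 := by decide +kernel

theorem steps671_len : steps671.length = 256 := by decide +kernel

theorem steps672_len : steps672.length = 256 := by decide +kernel

theorem steps673_len : steps673.length = 256 := by decide +kernel

theorem steps674_len : steps674.length = 256 := by decide +kernel

theorem steps675_len : steps675.length = 256 := by decide +kernel

theorem steps676_len : steps676.length = 256 := by decide +kernel

theorem steps677_len : steps677.length = 256 := by decide +kernel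

theorem steps678_len : steps678.length = 256 := by decide +kernel

theorem steps679_len : steps679.length = 256 := by decide +kernel

theorem steps680_len : steps680.length = 256 := by decide +kernel

theorem steps681_len : steps681.length = 256 := by decide +kernel

theorem steps682_len : steps682.length = 256 := by decide +kernel

theorem steps683_len : steps683.length = 256 := by decide +kernel

theorem steps684_len : steps684.length = 256 := by decide +kernel

theorem steps685_len : steps685.length = 256 := by decide +kernel

theorem steps686_len : steps686.length = 256 := by decide +kernel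

theorem steps687_len : steps687.length = 256 := by decide +kernel

theorem steps688_len : steps688.length = 256 := by decide +kernel

theorem steps689_len : steps689.length = 256 := by decide +kernel

theorem steps690_len : steps690.length = 256 := by decide +kernel

theorem steps691_len : steps691.length = 256 := by decide +kernel

theorem steps692_len : steps692.length = 256 := by decide +kernel

theorem steps693_len : steps693.length = 256 := by decide +kernel

theorem steps694_len : steps694.length = 256 := by decide +kernel

theorem steps695_len : steps695.length = 256 := by decide +kernel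

theorem steps696_len : steps696.length = 256 := by decide +kernel

theorem steps697_len : steps697.length = 256 := by decide +kernel

theorem steps698_len : steps698.length = 256 := by decide +kernel

theorem steps699_len : steps699.length = 256 := by decide +kernel

theorem steps700_len : steps700.length = 256 := by decide +kernel

theorem steps701_len : steps701.length = 256 := by decide +kernel

theorem steps702_len : steps702.length = 256 := by decide +kernel

theorem steps703_len : steps703.length = 256 := by decide +kernel

theorem steps704_len : steps704.length = 256 := by decide +kernel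

theorem steps705_len : steps705.length = 256 := by decide +kernel

theorem steps706_len : steps706.length = 256 := by decide +kernel

theorem steps707_len : steps707.length = 256 := by decide +kernel

theorem steps708_len : steps708.length = 256 := by decide +kernel

theorem steps709_len : steps709.length = 256 := by decide +kernel

theorem steps710_len : steps710.length = 256 := by decide +kernel

theorem steps711_len : steps711.length = 256 := by decide +kernel

theorem steps712_len : steps712.length = 256 := by decide +kernel

theorem steps713_len : steps713.length = 256 := by decide +kernel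

theorem steps714_len : steps714.length = 256 := by decide +kernel

theorem steps715_len : steps715.length = 256 := by decide +kernel

theorem steps716_len : steps716.length = 256 := by decide +kernel

theorem steps717_len : steps717.length = 256 := by decide +kernel

theorem steps718_len : steps718.length = 256 := by decide +kernel

theorem steps719_len : steps719.length = 256 := by decide +kernel

theorem steps720_len : steps720.length = 256 := by decide +kernel

theorem steps721_len : steps721.length = 256 := by decide +kernel

theorem steps722_len : steps722.length = 256 := by decide +kernel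

theorem steps723_len : steps723.length = 256 := by decide +kernel

theorem steps724_len : steps724.length = 256 := by decide +kernel

theorem steps725_len : steps725.length = 256 := by decide +kernel

theorem steps726_len : steps726.length = 256 := by decide +kernel

theorem steps727_len : steps727.length = 256 := by decide +kernel

theorem steps728_len : steps728.length = 256 := by decide +kernel

theorem steps729_len : steps729.length = 256 := by decide +kernel

theorem steps730_len : steps730.length = 256 := by decide +kernel

theorem steps731_len : steps731.length = 256 := by decide +kernel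

theorem steps732_len : steps732.length = 256 := by decide +kernel

theorem steps733_len : steps733.length = 256 := by decide +kernel

theorem steps734_len : steps734.length = 256 := by decide +kernel

theorem steps735_len : steps735.length = 256 := by decide +kernel

theorem steps736_len : steps736.length = 256 := by decide +kernel

theorem steps737_len : steps737.length = 256 := by decide +kernel

theorem steps738_len : steps738.length = 256 := by decide +kernel

theorem steps739_len : steps739.length = 256 := by decide +kernel

theorem steps740_len : steps740.length = 256 := by decide +kernel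

theorem steps741_len : steps741.length = 256 := by decide +kernel

theorem steps742_len : steps742.length = 256 := by decide +kernel

theorem steps743_len : steps743.length = 256 := by decide +kernel

theorem steps744_len : steps744.length = 256 := by decide +kernel

theorem steps745_len : steps745.length = 256 := by decide +kernel

theorem steps746_len : steps746.length = 256 := by decide +kernel

theorem steps747_len : steps747.length = 256 := by decide +kernel

theorem steps748_len : steps748.length = 256 := by decide +kernel

theorem steps749_len : steps749.length = 256 := by decide +kernel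

theorem steps750_len : steps750.length = 256 := by decide +kernel

theorem steps751_len : steps751.length = 256 := by decide +kernel

theorem steps752_len : steps752.length = 256 := by decide +kernel

theorem steps753_len : steps753.length = 256 := by decide +kernel

theorem steps754_len : steps754.length = 256 := by decide +kernel

theorem steps755_len : steps755.length = 256 := by decide +kernel

theorem steps756_len : steps756.length = 256 := by decide +kernel

theorem steps757_len : steps757.length = 256 := by decide +kernel

theorem steps758_len : steps758.length = 256 := by decide +kernel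

theorem steps759_len : steps759.length = 256 := by decide +kernel

theorem steps760_len : steps760.length = 256 := by decide +kernel

theorem steps761_len : steps761.length = 256 := by decide +kernel

theorem steps762_len : steps762.length = 256 := by decide +kernel

theorem steps763_len : steps763.length = 256 := by decide +kernel

theorem steps764_len : steps764.length = 256 := by decide +kernel

theorem steps765_len : steps765.length = 256 := by decide +kernel

theorem steps766_len : steps766.length = 256 := by decide +kernel

theorem steps767_len : steps767.length = 256 := by decide +kernel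

theorem steps768_len : steps768.length = 256 := by decide +kernel

theorem steps769_len : steps769.length = 256 := by decide +kernel

theorem steps770_len : steps770.length = 256 := by decide +kernel

theorem steps771_len : steps771.length = 256 := by decide +kernel

theorem steps772_len : steps772.length = 256 := by decide +kernel

theorem steps773_len : steps773.length = 256 := by decide +kernel

theorem steps774_len : steps774.length = 256 := by decide +kernel

theorem steps775_len : steps775.length = 256 := by decide +kernel

theorem steps776_len : steps776.length = 256 := by decide +kernel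

theorem steps777_len : steps777.length = 256 := by decide +kernel

theorem steps778_len : steps778.length = 256 := by decide +kernel

theorem steps779_len : steps779.length = 256 := by decide +kernel

theorem steps780_len : steps780.length = 256 := by decide +kernel

theorem steps781_len : steps781.length = 256 := by decide +kernel

theorem steps782_len : steps782.length = 256 := by decide +kernel

theorem steps783_len : steps783.length = 256 := by decide +kernel

theorem steps784_len : steps784.length = 256 := by decide +kernel

theorem steps785_len : steps785.length = 256 := by decide +kernel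

theorem steps786_len : steps786.length = 256 := by decide +kernel

theorem steps787_len : steps787.length = 256 := by decide +kernel

theorem steps788_len : steps788.length = 256 := by decide +kernel

theorem steps789_len : steps789.length = 256 := by decide +kernel

theorem steps790_len : steps790.length = 256 := by decide +kernel

theorem steps791_len : steps791.length = 256 := by decide +kernel

theorem steps792_len : steps792.length = 256 := by decide +kernel

theorem steps793_len : steps793.length = 256 := by decide +kernel

theorem steps794_len : steps794.length = 256 := by decide +kernel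

theorem steps795_len : steps795.length = 256 := by decide +kernel

theorem steps796_len : steps796.length = 256 := by decide +kernel

theorem steps797_len : steps797.length = 256 := by decide +kernel

theorem steps798_len : steps798.length = 256 := by decide +kernel

theorem steps799_len : steps799.length = 256 := by decide +kernel

theorem steps800_len : steps800.length = 256 := by decide +kernel

theorem steps801_len : steps801.length = 256 := by decide +kernel

theorem steps802_len : steps802.length = 256 := by decide +kernel

theorem steps803_len : steps803.length = 256 := by decide +kernel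

theorem steps804_len : steps804.length = 256 := by decide +kernel

theorem steps805_len : steps805.length = 256 := by decide +kernel

theorem steps806_len : steps806.length = 256 := by decide +kernel

theorem steps807_len : steps807.length = 256 := by decide +kernel

theorem steps808_len : steps808.length = 256 := by decide +kernel

theorem steps809_len : steps809.length = 256 := by decide +kernel

theorem steps810_len : steps810.length = 256 := by decide +kernel

theorem steps811_len : steps811.length = 256 := by decide +kernel

theorem steps812_len : steps812.length = 256 := by decide +kernel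

theorem steps813_len : steps813.length = 256 := by decide +kernel

theorem steps814_len : steps814.length = 256 := by decide +kernel

theorem steps815_len : steps815.length = 256 := by decide +kernel

theorem steps816_len : steps816.length = 256 := by decide +kernel

theorem steps817_len : steps817.length = 256 := by decide +kernel

theorem steps818_len : steps818.length = 75 := by decide +kernel

def cat0_0 : List (ℕ × ℕ) := steps0 ++ steps1

theorem cat0_0_len : cat0_0.length = 512 := by rw [cat0_0, List.length_append, steps0_len, steps1_len]

theorem cat0_0_ok : cert.stepsOK 0 cat0_0 = true ∧ ruleBound spec.length cat0_0 = true :=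
  stepsOK_cat steps0_ok steps1_ok (by rw [steps0_len])

def cat0_1 : List (ℕ × ℕ) := steps2 ++ steps3

theorem cat0_1_len : cat0_1.length = 512 := by rw [cat0_1, List.length_append, steps2_len, steps3_len]

theorem cat0_1_ok : cert.stepsOK 512 cat0_1 = true ∧ ruleBound spec.length cat0_1 = true :=
  stepsOK_cat steps2_ok steps3_ok (by rw [steps2_len])

def cat0_2 : List (ℕ × ℕ) := steps4 ++ steps5

theorem cat0_2_len : cat0_2.length = 512 := by rw [cat0_2, List.length_append, steps4_len, steps5_len]

theorem cat0_2_ok : cert.stepsOK 1024 cat0_2 = true ∧ ruleBound spec.length cat0_2 = true :=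
  stepsOK_cat steps4_ok steps5_ok (by rw [steps4_len])

def cat0_3 : List (ℕ × ℕ) := steps6 ++ steps7

theorem cat0_3_len : cat0_3.length = 512 := by rw [cat0_3, List.length_append, steps6_len, steps7_len]

theorem cat0_3_ok : cert.stepsOK 1536 cat0_3 = true ∧ ruleBound spec.length cat0_3 = true :=
  stepsOK_cat steps6_ok steps7_ok (by rw [steps6_len])

def cat0_4 : List (ℕ × ℕ) := steps8 ++ steps9

theorem cat0_4_len : cat0_4.length = 512 := by rw [cat0_4, List.length_append, steps8_len, steps9_len]

theorem cat0_4_ok : cert.stepsOK 2048 cat0_4 = true ∧ ruleBound spec.length cat0_4 = true :=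
  stepsOK_cat steps8_ok steps9_ok (by rw [steps8_len])

def cat0_5 : List (ℕ × ℕ) := steps10 ++ steps11

theorem cat0_5_len : cat0_5.length = 512 := by rw [cat0_5, List.length_append, steps10_len, steps11_len]

theorem cat0_5_ok : cert.stepsOK 2560 cat0_5 = true ∧ ruleBound spec.length cat0_5 = true :=
  stepsOK_cat steps10_ok steps11_ok (by rw [steps10_len])

def cat0_6 : List (ℕ × ℕ) := steps12 ++ steps13

theorem cat0_6_len : cat0_6.length = 512 := by rw [cat0_6, List.length_append, steps12_len, steps13_len]

theorem cat0_6_ok : cert.stepsOK 3072 cat0_6 = true ∧ ruleBound spec.length cat0_6 = true :=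
  stepsOK_cat steps12_ok steps13_ok (by rw [steps12_len])

def cat0_7 : List (ℕ × ℕ) := steps14 ++ steps15

theorem cat0_7_len : cat0_7.length = 512 := by rw [cat0_7, List.length_append, steps14_len, steps15_len]

theorem cat0_7_ok : cert.stepsOK 3584 cat0_7 = true ∧ ruleBound spec.length cat0_7 = true :=
  stepsOK_cat steps14_ok steps15_ok (by rw [steps14_len])

def cat0_8 : List (ℕ × ℕ) := steps16 ++ steps17

theorem cat0_8_len : cat0_8.length = 512 := by rw [cat0_8, List.length_append, steps16_len, steps17_len]

theorem cat0_8_ok : cert.stepsOK 4096 cat0_8 = true ∧ ruleBound spec.length cat0_8 = true :=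
  stepsOK_cat steps16_ok steps17_ok (by rw [steps16_len])

def cat0_9 : List (ℕ × ℕ) := steps18 ++ steps19

theorem cat0_9_len : cat0_9.length = 512 := by rw [cat0_9, List.length_append, steps18_len, steps19_len]

theorem cat0_9_ok : cert.stepsOK 4608 cat0_9 = true ∧ ruleBound spec.length cat0_9 = true :=
  stepsOK_cat steps18_ok steps19_ok (by rw [steps18_len])

def cat0_10 : List (ℕ × ℕ) := steps20 ++ steps21

theorem cat0_10_len : cat0_10.length = 512 := by rw [cat0_10, List.length_append, steps20_len, steps21_len]

theorem cat0_10_ok : cert.stepsOK 5120 cat0_10 = true ∧ ruleBound spec.length cat0_10 = true :=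
  stepsOK_cat steps20_ok steps21_ok (by rw [steps20_len])

def cat0_11 : List (ℕ × ℕ) := steps22 ++ steps23

theorem cat0_11_len : cat0_11.length = 512 := by rw [cat0_11, List.length_append, steps22_len, steps23_len]

theorem cat0_11_ok : cert.stepsOK 5632 cat0_11 = true ∧ ruleBound spec.length cat0_11 = true :=
  stepsOK_cat steps22_ok steps23_ok (by rw [steps22_len])

def cat0_12 : List (ℕ × ℕ) := steps24 ++ steps25

theorem cat0_12_len : cat0_12.length = 512 := by rw [cat0_12, List.length_append, steps24_len, steps25_len]

theorem cat0_12_ok : cert.stepsOK 6144 cat0_12 = true ∧ ruleBound spec.length cat0_12 = true :=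
  stepsOK_cat steps24_ok steps25_ok (by rw [steps24_len])

def cat0_13 : List (ℕ × ℕ) := steps26 ++ steps27

theorem cat0_13_len : cat0_13.length = 512 := by rw [cat0_13, List.length_append, steps26_len, steps27_len]

theorem cat0_13_ok : cert.stepsOK 6656 cat0_13 = true ∧ ruleBound spec.length cat0_13 = true :=
  stepsOK_cat steps26_ok steps27_ok (by rw [steps26_len])

def cat0_14 : List (ℕ × ℕ) := steps28 ++ steps29

theorem cat0_14_len : cat0_14.length = 512 := by rw [cat0_14, List.length_append, steps28_len, steps29_len]

theorem cat0_14_ok : cert.stepsOK 7168 cat0_14 = true ∧ ruleBound spec.length cat0_14 = true :=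
  stepsOK_cat steps28_ok steps29_ok (by rw [steps28_len])

def cat0_15 : List (ℕ × ℕ) := steps30 ++ steps31

theorem cat0_15_len : cat0_15.length = 512 := by rw [cat0_15, List.length_append, steps30_len, steps31_len]

theorem cat0_15_ok : cert.stepsOK 7680 cat0_15 = true ∧ ruleBound spec.length cat0_15 = true :=
  stepsOK_cat steps30_ok steps31_ok (by rw [steps30_len])

def cat0_16 : List (ℕ × ℕ) := steps32 ++ steps33

theorem cat0_16_len : cat0_16.length = 512 := by rw [cat0_16, List.length_append, steps32_len, steps33_len]

theorem cat0_16_ok : cert.stepsOK 8192 cat0_16 = true ∧ ruleBound spec.length cat0_16 = true :=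
  stepsOK_cat steps32_ok steps33_ok (by rw [steps32_len])

def cat0_17 : List (ℕ × ℕ) := steps34 ++ steps35

theorem cat0_17_len : cat0_17.length = 512 := by rw [cat0_17, List.length_append, steps34_len, steps35_len]

theorem cat0_17_ok : cert.stepsOK 8704 cat0_17 = true ∧ ruleBound spec.length cat0_17 = true :=
  stepsOK_cat steps34_ok steps35_ok (by rw [steps34_len])

def cat0_18 : List (ℕ × ℕ) := steps36 ++ steps37

theorem cat0_18_len : cat0_18.length = 512 := by rw [cat0_18, List.length_append, steps36_len, steps37_len]

theorem cat0_18_ok : cert.stepsOK 9216 cat0_18 = true ∧ ruleBound spec.length cat0_18 = true :=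
  stepsOK_cat steps36_ok steps37_ok (by rw [steps36_len])

def cat0_19 : List (ℕ × ℕ) := steps38 ++ steps39

theorem cat0_19_len : cat0_19.length = 512 := by rw [cat0_19, List.length_append, steps38_len, steps39_len]

theorem cat0_19_ok : cert.stepsOK 9728 cat0_19 = true ∧ ruleBound spec.length cat0_19 = true :=
  stepsOK_cat steps38_ok steps39_ok (by rw [steps38_len])

def cat0_20 : List (ℕ × ℕ) := steps40 ++ steps41

theorem cat0_20_len : cat0_20.length = 512 := by rw [cat0_20, List.length_append, steps40_len, steps41_len]

theorem cat0_20_ok : cert.stepsOK 10240 cat0_20 = true ∧ ruleBound spec.length cat0_20 = true :=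
  stepsOK_cat steps40_ok steps41_ok (by rw [steps40_len])

def cat0_21 : List (ℕ × ℕ) := steps42 ++ steps43

theorem cat0_21_len : cat0_21.length = 512 := by rw [cat0_21, List.length_append, steps42_len, steps43_len]

theorem cat0_21_ok : cert.stepsOK 10752 cat0_21 = true ∧ ruleBound spec.length cat0_21 = true :=
  stepsOK_cat steps42_ok steps43_ok (by rw [steps42_len])

def cat0_22 : List (ℕ × ℕ) := steps44 ++ steps45

theorem cat0_22_len : cat0_22.length = 512 := by rw [cat0_22, List.length_append, steps44_len, steps45_len]

theorem cat0_22_ok : cert.stepsOK 11264 cat0_22 = true ∧ ruleBound spec.length cat0_22 = true :=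
  stepsOK_cat steps44_ok steps45_ok (by rw [steps44_len])

def cat0_23 : List (ℕ × ℕ) := steps46 ++ steps47

theorem cat0_23_len : cat0_23.length = 512 := by rw [cat0_23, List.length_append, steps46_len, steps47_len]

theorem cat0_23_ok : cert.stepsOK 11776 cat0_23 = true ∧ ruleBound spec.length cat0_23 = true :=
  stepsOK_cat steps46_ok steps47_ok (by rw [steps46_len])

def cat0_24 : List (ℕ × ℕ) := steps48 ++ steps49

theorem cat0_24_len : cat0_24.length = 512 := by rw [cat0_24, List.length_append, steps48_len, steps49_len]

theorem cat0_24_ok : cert.stepsOK 12288 cat0_24 = true ∧ ruleBound spec.length cat0_24 = true :=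
  stepsOK_cat steps48_ok steps49_ok (by rw [steps48_len])

def cat0_25 : List (ℕ × ℕ) := steps50 ++ steps51

theorem cat0_25_len : cat0_25.length = 512 := by rw [cat0_25, List.length_append, steps50_len, steps51_len]

theorem cat0_25_ok : cert.stepsOK 12800 cat0_25 = true ∧ ruleBound spec.length cat0_25 = true :=
  stepsOK_cat steps50_ok steps51_ok (by rw [steps50_len])

def cat0_26 : List (ℕ × ℕ) := steps52 ++ steps53

theorem cat0_26_len : cat0_26.length = 512 := by rw [cat0_26, List.length_append, steps52_len, steps53_len]

theorem cat0_26_ok : cert.stepsOK 13312 cat0_26 = true ∧ ruleBound spec.length cat0_26 = true :=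
  stepsOK_cat steps52_ok steps53_ok (by rw [steps52_len])

def cat0_27 : List (ℕ × ℕ) := steps54 ++ steps55

theorem cat0_27_len : cat0_27.length = 512 := by rw [cat0_27, List.length_append, steps54_len, steps55_len]

theorem cat0_27_ok : cert.stepsOK 13824 cat0_27 = true ∧ ruleBound spec.length cat0_27 = true :=
  stepsOK_cat steps54_ok steps55_ok (by rw [steps54_len])

def cat0_28 : List (ℕ × ℕ) := steps56 ++ steps57

theorem cat0_28_len : cat0_28.length = 512 := by rw [cat0_28, List.length_append, steps56_len, steps57_len]

theorem cat0_28_ok : cert.stepsOK 14336 cat0_28 = true ∧ ruleBound spec.length cat0_28 = true :=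
  stepsOK_cat steps56_ok steps57_ok (by rw [steps56_len])

def cat0_29 : List (ℕ × ℕ) := steps58 ++ steps59

theorem cat0_29_len : cat0_29.length = 512 := by rw [cat0_29, List.length_append, steps58_len, steps59_len]

theorem cat0_29_ok : cert.stepsOK 14848 cat0_29 = true ∧ ruleBound spec.length cat0_29 = true :=
  stepsOK_cat steps58_ok steps59_ok (by rw [steps58_len])

def cat0_30 : List (ℕ × ℕ) := steps60 ++ steps61

theorem cat0_30_len : cat0_30.length = 512 := by rw [cat0_30, List.length_append, steps60_len, steps61_len]

theorem cat0_30_ok : cert.stepsOK 15360 cat0_30 = true ∧ ruleBound spec.length cat0_30 = true :=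
  stepsOK_cat steps60_ok steps61_ok (by rw [steps60_len])

def cat0_31 : List (ℕ × ℕ) := steps62 ++ steps63

theorem cat0_31_len : cat0_31.length = 512 := by rw [cat0_31, List.length_append, steps62_len, steps63_len]

theorem cat0_31_ok : cert.stepsOK 15872 cat0_31 = true ∧ ruleBound spec.length cat0_31 = true :=
  stepsOK_cat steps62_ok steps63_ok (by rw [steps62_len])

def cat0_32 : List (ℕ × ℕ) := steps64 ++ steps65

theorem cat0_32_len : cat0_32.length = 512 := by rw [cat0_32, List.length_append, steps64_len, steps65_len]

theorem cat0_32_ok : cert.stepsOK 16384 cat0_32 = true ∧ ruleBound spec.length cat0_32 = true :=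
  stepsOK_cat steps64_ok steps65_ok (by rw [steps64_len])

def cat0_33 : List (ℕ × ℕ) := steps66 ++ steps67

theorem cat0_33_len : cat0_33.length = 512 := by rw [cat0_33, List.length_append, steps66_len, steps67_len]

theorem cat0_33_ok : cert.stepsOK 16896 cat0_33 = true ∧ ruleBound spec.length cat0_33 = true :=
  stepsOK_cat steps66_ok steps67_ok (by rw [steps66_len])

def cat0_34 : List (ℕ × ℕ) := steps68 ++ steps69

theorem cat0_34_len : cat0_34.length = 512 := by rw [cat0_34, List.length_append, steps68_len, steps69_len]

theorem cat0_34_ok : cert.stepsOK 17408 cat0_34 = true ∧ ruleBound spec.length cat0_34 = true :=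
  stepsOK_cat steps68_ok steps69_ok (by rw [steps68_len])

def cat0_35 : List (ℕ × ℕ) := steps70 ++ steps71

theorem cat0_35_len : cat0_35.length = 512 := by rw [cat0_35, List.length_append, steps70_len, steps71_len]

theorem cat0_35_ok : cert.stepsOK 17920 cat0_35 = true ∧ ruleBound spec.length cat0_35 = true :=
  stepsOK_cat steps70_ok steps71_ok (by rw [steps70_len])

def cat0_36 : List (ℕ × ℕ) := steps72 ++ steps73

theorem cat0_36_len : cat0_36.length = 512 := by rw [cat0_36, List.length_append, steps72_len, steps73_len]

theorem cat0_36_ok : cert.stepsOK 18432 cat0_36 = true ∧ ruleBound spec.length cat0_36 = true :=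
  stepsOK_cat steps72_ok steps73_ok (by rw [steps72_len])

def cat0_37 : List (ℕ × ℕ) := steps74 ++ steps75

theorem cat0_37_len : cat0_37.length = 512 := by rw [cat0_37, List.length_append, steps74_len, steps75_len]

theorem cat0_37_ok : cert.stepsOK 18944 cat0_37 = true ∧ ruleBound spec.length cat0_37 = true :=
  stepsOK_cat steps74_ok steps75_ok (by rw [steps74_len])

def cat0_38 : List (ℕ × ℕ) := steps76 ++ steps77

theorem cat0_38_len : cat0_38.length = 512 := by rw [cat0_38, List.length_append, steps76_len, steps77_len]

theorem cat0_38_ok : cert.stepsOK 19456 cat0_38 = true ∧ ruleBound spec.length cat0_38 = true :=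
  stepsOK_cat steps76_ok steps77_ok (by rw [steps76_len])

def cat0_39 : List (ℕ × ℕ) := steps78 ++ steps79

theorem cat0_39_len : cat0_39.length = 512 := by rw [cat0_39, List.length_append, steps78_len, steps79_len]

theorem cat0_39_ok : cert.stepsOK 19968 cat0_39 = true ∧ ruleBound spec.length cat0_39 = true :=
  stepsOK_cat steps78_ok steps79_ok (by rw [steps78_len])

def cat0_40 : List (ℕ × ℕ) := steps80 ++ steps81

theorem cat0_40_len : cat0_40.length = 512 := by rw [cat0_40, List.length_append, steps80_len, steps81_len]

theorem cat0_40_ok : cert.stepsOK 20480 cat0_40 = true ∧ ruleBound spec.length cat0_40 = true :=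
  stepsOK_cat steps80_ok steps81_ok (by rw [steps80_len])

def cat0_41 : List (ℕ × ℕ) := steps82 ++ steps83

theorem cat0_41_len : cat0_41.length = 512 := by rw [cat0_41, List.length_append, steps82_len, steps83_len]

theorem cat0_41_ok : cert.stepsOK 20992 cat0_41 = true ∧ ruleBound spec.length cat0_41 = true :=
  stepsOK_cat steps82_ok steps83_ok (by rw [steps82_len])

def cat0_42 : List (ℕ × ℕ) := steps84 ++ steps85

theorem cat0_42_len : cat0_42.length = 512 := by rw [cat0_42, List.length_append, steps84_len, steps85_len]

theorem cat0_42_ok : cert.stepsOK 21504 cat0_42 = true ∧ ruleBound spec.length cat0_42 = true :=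
  stepsOK_cat steps84_ok steps85_ok (by rw [steps84_len])

def cat0_43 : List (ℕ × ℕ) := steps86 ++ steps87

theorem cat0_43_len : cat0_43.length = 512 := by rw [cat0_43, List.length_append, steps86_len, steps87_len]

theorem cat0_43_ok : cert.stepsOK 22016 cat0_43 = true ∧ ruleBound spec.length cat0_43 = true :=
  stepsOK_cat steps86_ok steps87_ok (by rw [steps86_len])

def cat0_44 : List (ℕ × ℕ) := steps88 ++ steps89

theorem cat0_44_len : cat0_44.length = 512 := by rw [cat0_44, List.length_append, steps88_len, steps89_len]

theorem cat0_44_ok : cert.stepsOK 22528 cat0_44 = true ∧ ruleBound spec.length cat0_44 = true :=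
  stepsOK_cat steps88_ok steps89_ok (by rw [steps88_len])

def cat0_45 : List (ℕ × ℕ) := steps90 ++ steps91

theorem cat0_45_len : cat0_45.length = 512 := by rw [cat0_45, List.length_append, steps90_len, steps91_len]

theorem cat0_45_ok : cert.stepsOK 23040 cat0_45 = true ∧ ruleBound spec.length cat0_45 = true :=
  stepsOK_cat steps90_ok steps91_ok (by rw [steps90_len])

def cat0_46 : List (ℕ × ℕ) := steps92 ++ steps93

theorem cat0_46_len : cat0_46.length = 512 := by rw [cat0_46, List.length_append, steps92_len, steps93_len]

theorem cat0_46_ok : cert.stepsOK 23552 cat0_46 = true ∧ ruleBound spec.length cat0_46 = true :=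
  stepsOK_cat steps92_ok steps93_ok (by rw [steps92_len])

def cat0_47 : List (ℕ × ℕ) := steps94 ++ steps95

theorem cat0_47_len : cat0_47.length = 512 := by rw [cat0_47, List.length_append, steps94_len, steps95_len]

theorem cat0_47_ok : cert.stepsOK 24064 cat0_47 = true ∧ ruleBound spec.length cat0_47 = true :=
  stepsOK_cat steps94_ok steps95_ok (by rw [steps94_len])

def cat0_48 : List (ℕ × ℕ) := steps96 ++ steps97

theorem cat0_48_len : cat0_48.length = 512 := by rw [cat0_48, List.length_append, steps96_len, steps97_len]

theorem cat0_48_ok : cert.stepsOK 24576 cat0_48 = true ∧ ruleBound spec.length cat0_48 = true :=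
  stepsOK_cat steps96_ok steps97_ok (by rw [steps96_len])

def cat0_49 : List (ℕ × ℕ) := steps98 ++ steps99

theorem cat0_49_len : cat0_49.length = 512 := by rw [cat0_49, List.length_append, steps98_len, steps99_len]

theorem cat0_49_ok : cert.stepsOK 25088 cat0_49 = true ∧ ruleBound spec.length cat0_49 = true :=
  stepsOK_cat steps98_ok steps99_ok (by rw [steps98_len])

def cat0_50 : List (ℕ × ℕ) := steps100 ++ steps101

theorem cat0_50_len : cat0_50.length = 512 := by rw [cat0_50, List.length_append, steps100_len, steps101_len]

theorem cat0_50_ok : cert.stepsOK 25600 cat0_50 = true ∧ ruleBound spec.length cat0_50 = true :=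
  stepsOK_cat steps100_ok steps101_ok (by rw [steps100_len])

def cat0_51 : List (ℕ × ℕ) := steps102 ++ steps103

theorem cat0_51_len : cat0_51.length = 512 := by rw [cat0_51, List.length_append, steps102_len, steps103_len]

theorem cat0_51_ok : cert.stepsOK 26112 cat0_51 = true ∧ ruleBound spec.length cat0_51 = true :=
  stepsOK_cat steps102_ok steps103_ok (by rw [steps102_len])

def cat0_52 : List (ℕ × ℕ) := steps104 ++ steps105

theorem cat0_52_len : cat0_52.length = 512 := by rw [cat0_52, List.length_append, steps104_len, steps105_len]

theorem cat0_52_ok : cert.stepsOK 26624 cat0_52 = true ∧ ruleBound spec.length cat0_52 = true :=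
  stepsOK_cat steps104_ok steps105_ok (by rw [steps104_len])

def cat0_53 : List (ℕ × ℕ) := steps106 ++ steps107

theorem cat0_53_len : cat0_53.length = 512 := by rw [cat0_53, List.length_append, steps106_len, steps107_len]

theorem cat0_53_ok : cert.stepsOK 27136 cat0_53 = true ∧ ruleBound spec.length cat0_53 = true :=
  stepsOK_cat steps106_ok steps107_ok (by rw [steps106_len])

def cat0_54 : List (ℕ × ℕ) := steps108 ++ steps109

theorem cat0_54_len : cat0_54.length = 512 := by rw [cat0_54, List.length_append, steps108_len, steps109_len]

theorem cat0_54_ok : cert.stepsOK 27648 cat0_54 = true ∧ ruleBound spec.length cat0_54 = true :=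
  stepsOK_cat steps108_ok steps109_ok (by rw [steps108_len])

def cat0_55 : List (ℕ × ℕ) := steps110 ++ steps111

theorem cat0_55_len : cat0_55.length = 512 := by rw [cat0_55, List.length_append, steps110_len, steps111_len]

theorem cat0_55_ok : cert.stepsOK 28160 cat0_55 = true ∧ ruleBound spec.length cat0_55 = true :=
  stepsOK_cat steps110_ok steps111_ok (by rw [steps110_len])

def cat0_56 : List (ℕ × ℕ) := steps112 ++ steps113

theorem cat0_56_len : cat0_56.length = 512 := by rw [cat0_56, List.length_append, steps112_len, steps113_len]

theorem cat0_56_ok : cert.stepsOK 28672 cat0_56 = true ∧ ruleBound spec.length cat0_56 = true :=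
  stepsOK_cat steps112_ok steps113_ok (by rw [steps112_len])

def cat0_57 : List (ℕ × ℕ) := steps114 ++ steps115

theorem cat0_57_len : cat0_57.length = 512 := by rw [cat0_57, List.length_append, steps114_len, steps115_len]

theorem cat0_57_ok : cert.stepsOK 29184 cat0_57 = true ∧ ruleBound spec.length cat0_57 = true :=
  stepsOK_cat steps114_ok steps115_ok (by rw [steps114_len])

def cat0_58 : List (ℕ × ℕ) := steps116 ++ steps117

theorem cat0_58_len : cat0_58.length = 512 := by rw [cat0_58, List.length_append, steps116_len, steps117_len]

theorem cat0_58_ok : cert.stepsOK 29696 cat0_58 = true ∧ ruleBound spec.length cat0_58 = true :=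
  stepsOK_cat steps116_ok steps117_ok (by rw [steps116_len])

def cat0_59 : List (ℕ × ℕ) := steps118 ++ steps119

theorem cat0_59_len : cat0_59.length = 512 := by rw [cat0_59, List.length_append, steps118_len, steps119_len]

theorem cat0_59_ok : cert.stepsOK 30208 cat0_59 = true ∧ ruleBound spec.length cat0_59 = true :=
  stepsOK_cat steps118_ok steps119_ok (by rw [steps118_len])

def cat0_60 : List (ℕ × ℕ) := steps120 ++ steps121

theorem cat0_60_len : cat0_60.length = 512 := by rw [cat0_60, List.length_append, steps120_len, steps121_len]

theorem cat0_60_ok : cert.stepsOK 30720 cat0_60 = true ∧ ruleBound spec.length cat0_60 = true :=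
  stepsOK_cat steps120_ok steps121_ok (by rw [steps120_len])

def cat0_61 : List (ℕ × ℕ) := steps122 ++ steps123

theorem cat0_61_len : cat0_61.length = 512 := by rw [cat0_61, List.length_append, steps122_len, steps123_len]

theorem cat0_61_ok : cert.stepsOK 31232 cat0_61 = true ∧ ruleBound spec.length cat0_61 = true :=
  stepsOK_cat steps122_ok steps123_ok (by rw [steps122_len])

def cat0_62 : List (ℕ × ℕ) := steps124 ++ steps125

theorem cat0_62_len : cat0_62.length = 512 := by rw [cat0_62, List.length_append, steps124_len, steps125_len]

theorem cat0_62_ok : cert.stepsOK 31744 cat0_62 = true ∧ ruleBound spec.length cat0_62 = true :=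
  stepsOK_cat steps124_ok steps125_ok (by rw [steps124_len])

def cat0_63 : List (ℕ × ℕ) := steps126 ++ steps127

theorem cat0_63_len : cat0_63.length = 512 := by rw [cat0_63, List.length_append, steps126_len, steps127_len]

theorem cat0_63_ok : cert.stepsOK 32256 cat0_63 = true ∧ ruleBound spec.length cat0_63 = true :=
  stepsOK_cat steps126_ok steps127_ok (by rw [steps126_len])

def cat0_64 : List (ℕ × ℕ) := steps128 ++ steps129

theorem cat0_64_len : cat0_64.length = 512 := by rw [cat0_64, List.length_append, steps128_len, steps129_len]

theorem cat0_64_ok : cert.stepsOK 32768 cat0_64 = true ∧ ruleBound spec.length cat0_64 = true :=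
  stepsOK_cat steps128_ok steps129_ok (by rw [steps128_len])

def cat0_65 : List (ℕ × ℕ) := steps130 ++ steps131

theorem cat0_65_len : cat0_65.length = 512 := by rw [cat0_65, List.length_append, steps130_len, steps131_len]

theorem cat0_65_ok : cert.stepsOK 33280 cat0_65 = true ∧ ruleBound spec.length cat0_65 = true :=
  stepsOK_cat steps130_ok steps131_ok (by rw [steps130_len])

def cat0_66 : List (ℕ × ℕ) := steps132 ++ steps133

theorem cat0_66_len : cat0_66.length = 512 := by rw [cat0_66, List.length_append, steps132_len, steps133_len]

theorem cat0_66_ok : cert.stepsOK 33792 cat0_66 = true ∧ ruleBound spec.length cat0_66 = true :=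
  stepsOK_cat steps132_ok steps133_ok (by rw [steps132_len])

def cat0_67 : List (ℕ × ℕ) := steps134 ++ steps135

theorem cat0_67_len : cat0_67.length = 512 := by rw [cat0_67, List.length_append, steps134_len, steps135_len]

theorem cat0_67_ok : cert.stepsOK 34304 cat0_67 = true ∧ ruleBound spec.length cat0_67 = true :=
  stepsOK_cat steps134_ok steps135_ok (by rw [steps134_len])

def cat0_68 : List (ℕ × ℕ) := steps136 ++ steps137

theorem cat0_68_len : cat0_68.length = 512 := by rw [cat0_68, List.length_append, steps136_len, steps137_len]

theorem cat0_68_ok : cert.stepsOK 34816 cat0_68 = true ∧ ruleBound spec.length cat0_68 = true :=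
  stepsOK_cat steps136_ok steps137_ok (by rw [steps136_len])

def cat0_69 : List (ℕ × ℕ) := steps138 ++ steps139

theorem cat0_69_len : cat0_69.length = 512 := by rw [cat0_69, List.length_append, steps138_len, steps139_len]

theorem cat0_69_ok : cert.stepsOK 35328 cat0_69 = true ∧ ruleBound spec.length cat0_69 = true :=
  stepsOK_cat steps138_ok steps139_ok (by rw [steps138_len])

def cat0_70 : List (ℕ × ℕ) := steps140 ++ steps141

theorem cat0_70_len : cat0_70.length = 512 := by rw [cat0_70, List.length_append, steps140_len, steps141_len]

theorem cat0_70_ok : cert.stepsOK 35840 cat0_70 = true ∧ ruleBound spec.length cat0_70 = true :=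
  stepsOK_cat steps140_ok steps141_ok (by rw [steps140_len])

def cat0_71 : List (ℕ × ℕ) := steps142 ++ steps143

theorem cat0_71_len : cat0_71.length = 512 := by rw [cat0_71, List.length_append, steps142_len, steps143_len]

theorem cat0_71_ok : cert.stepsOK 36352 cat0_71 = true ∧ ruleBound spec.length cat0_71 = true :=
  stepsOK_cat steps142_ok steps143_ok (by rw [steps142_len])

def cat0_72 : List (ℕ × ℕ) := steps144 ++ steps145

theorem cat0_72_len : cat0_72.length = 512 := by rw [cat0_72, List.length_append, steps144_len, steps145_len]

theorem cat0_72_ok : cert.stepsOK 36864 cat0_72 = true ∧ ruleBound spec.length cat0_72 = true :=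
  stepsOK_cat steps144_ok steps145_ok (by rw [steps144_len])

def cat0_73 : List (ℕ × ℕ) := steps146 ++ steps147

theorem cat0_73_len : cat0_73.length = 512 := by rw [cat0_73, List.length_append, steps146_len, steps147_len]

theorem cat0_73_ok : cert.stepsOK 37376 cat0_73 = true ∧ ruleBound spec.length cat0_73 = true :=
  stepsOK_cat steps146_ok steps147_ok (by rw [steps146_len])

def cat0_74 : List (ℕ × ℕ) := steps148 ++ steps149

theorem cat0_74_len : cat0_74.length = 512 := by rw [cat0_74, List.length_append, steps148_len, steps149_len]

theorem cat0_74_ok : cert.stepsOK 37888 cat0_74 = true ∧ ruleBound spec.length cat0_74 = true :=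
  stepsOK_cat steps148_ok steps149_ok (by rw [steps148_len])

def cat0_75 : List (ℕ × ℕ) := steps150 ++ steps151

theorem cat0_75_len : cat0_75.length = 512 := by rw [cat0_75, List.length_append, steps150_len, steps151_len]

theorem cat0_75_ok : cert.stepsOK 38400 cat0_75 = true ∧ ruleBound spec.length cat0_75 = true :=
  stepsOK_cat steps150_ok steps151_ok (by rw [steps150_len])

def cat0_76 : List (ℕ × ℕ) := steps152 ++ steps153

theorem cat0_76_len : cat0_76.length = 512 := by rw [cat0_76, List.length_append, steps152_len, steps153_len]

theorem cat0_76_ok : cert.stepsOK 38912 cat0_76 = true ∧ ruleBound spec.length cat0_76 = true :=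
  stepsOK_cat steps152_ok steps153_ok (by rw [steps152_len])

def cat0_77 : List (ℕ × ℕ) := steps154 ++ steps155

theorem cat0_77_len : cat0_77.length = 512 := by rw [cat0_77, List.length_append, steps154_len, steps155_len]

theorem cat0_77_ok : cert.stepsOK 39424 cat0_77 = true ∧ ruleBound spec.length cat0_77 = true :=
  stepsOK_cat steps154_ok steps155_ok (by rw [steps154_len])

def cat0_78 : List (ℕ × ℕ) := steps156 ++ steps157

theorem cat0_78_len : cat0_78.length = 512 := by rw [cat0_78, List.length_append, steps156_len, steps157_len]

theorem cat0_78_ok : cert.stepsOK 39936 cat0_78 = true ∧ ruleBound spec.length cat0_78 = true :=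
  stepsOK_cat steps156_ok steps157_ok (by rw [steps156_len])

def cat0_79 : List (ℕ × ℕ) := steps158 ++ steps159

theorem cat0_79_len : cat0_79.length = 512 := by rw [cat0_79, List.length_append, steps158_len, steps159_len]

theorem cat0_79_ok : cert.stepsOK 40448 cat0_79 = true ∧ ruleBound spec.length cat0_79 = true :=
  stepsOK_cat steps158_ok steps159_ok (by rw [steps158_len])

def cat0_80 : List (ℕ × ℕ) := steps160 ++ steps161

theorem cat0_80_len : cat0_80.length = 512 := by rw [cat0_80, List.length_append, steps160_len, steps161_len]

theorem cat0_80_ok : cert.stepsOK 40960 cat0_80 = true ∧ ruleBound spec.length cat0_80 = true :=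
  stepsOK_cat steps160_ok steps161_ok (by rw [steps160_len])

def cat0_81 : List (ℕ × ℕ) := steps162 ++ steps163

theorem cat0_81_len : cat0_81.length = 512 := by rw [cat0_81, List.length_append, steps162_len, steps163_len]

theorem cat0_81_ok : cert.stepsOK 41472 cat0_81 = true ∧ ruleBound spec.length cat0_81 = true :=
  stepsOK_cat steps162_ok steps163_ok (by rw [steps162_len])

def cat0_82 : List (ℕ × ℕ) := steps164 ++ steps165

theorem cat0_82_len : cat0_82.length = 512 := by rw [cat0_82, List.length_append, steps164_len, steps165_len]

theorem cat0_82_ok : cert.stepsOK 41984 cat0_82 = true ∧ ruleBound spec.length cat0_82 = true :=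
  stepsOK_cat steps164_ok steps165_ok (by rw [steps164_len])

def cat0_83 : List (ℕ × ℕ) := steps166 ++ steps167

theorem cat0_83_len : cat0_83.length = 512 := by rw [cat0_83, List.length_append, steps166_len, steps167_len]

theorem cat0_83_ok : cert.stepsOK 42496 cat0_83 = true ∧ ruleBound spec.length cat0_83 = true :=
  stepsOK_cat steps166_ok steps167_ok (by rw [steps166_len])

def cat0_84 : List (ℕ × ℕ) := steps168 ++ steps169

theorem cat0_84_len : cat0_84.length = 512 := by rw [cat0_84, List.length_append, steps168_len, steps169_len]

theorem cat0_84_ok : cert.stepsOK 43008 cat0_84 = true ∧ ruleBound spec.length cat0_84 = true :=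
  stepsOK_cat steps168_ok steps169_ok (by rw [steps168_len])

def cat0_85 : List (ℕ × ℕ) := steps170 ++ steps171

theorem cat0_85_len : cat0_85.length = 512 := by rw [cat0_85, List.length_append, steps170_len, steps171_len]

theorem cat0_85_ok : cert.stepsOK 43520 cat0_85 = true ∧ ruleBound spec.length cat0_85 = true :=
  stepsOK_cat steps170_ok steps171_ok (by rw [steps170_len])

def cat0_86 : List (ℕ × ℕ) := steps172 ++ steps173

theorem cat0_86_len : cat0_86.length = 512 := by rw [cat0_86, List.length_append, steps172_len, steps173_len]

theorem cat0_86_ok : cert.stepsOK 44032 cat0_86 = true ∧ ruleBound spec.length cat0_86 = true :=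
  stepsOK_cat steps172_ok steps173_ok (by rw [steps172_len])

def cat0_87 : List (ℕ × ℕ) := steps174 ++ steps175

theorem cat0_87_len : cat0_87.length = 512 := by rw [cat0_87, List.length_append, steps174_len, steps175_len]

theorem cat0_87_ok : cert.stepsOK 44544 cat0_87 = true ∧ ruleBound spec.length cat0_87 = true :=
  stepsOK_cat steps174_ok steps175_ok (by rw [steps174_len])

def cat0_88 : List (ℕ × ℕ) := steps176 ++ steps177

theorem cat0_88_len : cat0_88.length = 512 := by rw [cat0_88, List.length_append, steps176_len, steps177_len]

theorem cat0_88_ok : cert.stepsOK 45056 cat0_88 = true ∧ ruleBound spec.length cat0_88 = true :=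
  stepsOK_cat steps176_ok steps177_ok (by rw [steps176_len])

def cat0_89 : List (ℕ × ℕ) := steps178 ++ steps179

theorem cat0_89_len : cat0_89.length = 512 := by rw [cat0_89, List.length_append, steps178_len, steps179_len]

theorem cat0_89_ok : cert.stepsOK 45568 cat0_89 = true ∧ ruleBound spec.length cat0_89 = true :=
  stepsOK_cat steps178_ok steps179_ok (by rw [steps178_len])

def cat0_90 : List (ℕ × ℕ) := steps180 ++ steps181

theorem cat0_90_len : cat0_90.length = 512 := by rw [cat0_90, List.length_append, steps180_len, steps181_len]

theorem cat0_90_ok : cert.stepsOK 46080 cat0_90 = true ∧ ruleBound spec.length cat0_90 = true :=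
  stepsOK_cat steps180_ok steps181_ok (by rw [steps180_len])

def cat0_91 : List (ℕ × ℕ) := steps182 ++ steps183

theorem cat0_91_len : cat0_91.length = 512 := by rw [cat0_91, List.length_append, steps182_len, steps183_len]

theorem cat0_91_ok : cert.stepsOK 46592 cat0_91 = true ∧ ruleBound spec.length cat0_91 = true :=
  stepsOK_cat steps182_ok steps183_ok (by rw [steps182_len])

def cat0_92 : List (ℕ × ℕ) := steps184 ++ steps185

theorem cat0_92_len : cat0_92.length = 512 := by rw [cat0_92, List.length_append, steps184_len, steps185_len]

theorem cat0_92_ok : cert.stepsOK 47104 cat0_92 = true ∧ ruleBound spec.length cat0_92 = true :=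
  stepsOK_cat steps184_ok steps185_ok (by rw [steps184_len])

def cat0_93 : List (ℕ × ℕ) := steps186 ++ steps187

theorem cat0_93_len : cat0_93.length = 512 := by rw [cat0_93, List.length_append, steps186_len, steps187_len]

theorem cat0_93_ok : cert.stepsOK 47616 cat0_93 = true ∧ ruleBound spec.length cat0_93 = true :=
  stepsOK_cat steps186_ok steps187_ok (by rw [steps186_len])

def cat0_94 : List (ℕ × ℕ) := steps188 ++ steps189

theorem cat0_94_len : cat0_94.length = 512 := by rw [cat0_94, List.length_append, steps188_len, steps189_len]

theorem cat0_94_ok : cert.stepsOK 48128 cat0_94 = true ∧ ruleBound spec.length cat0_94 = true :=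
  stepsOK_cat steps188_ok steps189_ok (by rw [steps188_len])

def cat0_95 : List (ℕ × ℕ) := steps190 ++ steps191

theorem cat0_95_len : cat0_95.length = 512 := by rw [cat0_95, List.length_append, steps190_len, steps191_len]

theorem cat0_95_ok : cert.stepsOK 48640 cat0_95 = true ∧ ruleBound spec.length cat0_95 = true :=
  stepsOK_cat steps190_ok steps191_ok (by rw [steps190_len])

def cat0_96 : List (ℕ × ℕ) := steps192 ++ steps193

theorem cat0_96_len : cat0_96.length = 512 := by rw [cat0_96, List.length_append, steps192_len, steps193_len]

theorem cat0_96_ok : cert.stepsOK 49152 cat0_96 = true ∧ ruleBound spec.length cat0_96 = true :=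
  stepsOK_cat steps192_ok steps193_ok (by rw [steps192_len])

def cat0_97 : List (ℕ × ℕ) := steps194 ++ steps195

theorem cat0_97_len : cat0_97.length = 512 := by rw [cat0_97, List.length_append, steps194_len, steps195_len]

theorem cat0_97_ok : cert.stepsOK 49664 cat0_97 = true ∧ ruleBound spec.length cat0_97 = true :=
  stepsOK_cat steps194_ok steps195_ok (by rw [steps194_len])

def cat0_98 : List (ℕ × ℕ) := steps196 ++ steps197

theorem cat0_98_len : cat0_98.length = 512 := by rw [cat0_98, List.length_append, steps196_len, steps197_len]

theorem cat0_98_ok : cert.stepsOK 50176 cat0_98 = true ∧ ruleBound spec.length cat0_98 = true :=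
  stepsOK_cat steps196_ok steps197_ok (by rw [steps196_len])

def cat0_99 : List (ℕ × ℕ) := steps198 ++ steps199

theorem cat0_99_len : cat0_99.length = 512 := by rw [cat0_99, List.length_append, steps198_len, steps199_len]

theorem cat0_99_ok : cert.stepsOK 50688 cat0_99 = true ∧ ruleBound spec.length cat0_99 = true :=
  stepsOK_cat steps198_ok steps199_ok (by rw [steps198_len])

def cat0_100 : List (ℕ × ℕ) := steps200 ++ steps201

theorem cat0_100_len : cat0_100.length = 512 := by rw [cat0_100, List.length_append, steps200_len, steps201_len]

theorem cat0_100_ok : cert.stepsOK 51200 cat0_100 = true ∧ ruleBound spec.length cat0_100 = true :=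
  stepsOK_cat steps200_ok steps201_ok (by rw [steps200_len])

def cat0_101 : List (ℕ × ℕ) := steps202 ++ steps203

theorem cat0_101_len : cat0_101.length = 512 := by rw [cat0_101, List.length_append, steps202_len, steps203_len]

theorem cat0_101_ok : cert.stepsOK 51712 cat0_101 = true ∧ ruleBound spec.length cat0_101 = true :=
  stepsOK_cat steps202_ok steps203_ok (by rw [steps202_len])

def cat0_102 : List (ℕ × ℕ) := steps204 ++ steps205

theorem cat0_102_len : cat0_102.length = 512 := by rw [cat0_102, List.length_append, steps204_len, steps205_len]

theorem cat0_102_ok : cert.stepsOK 52224 cat0_102 = true ∧ ruleBound spec.length cat0_102 = true :=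
  stepsOK_cat steps204_ok steps205_ok (by rw [steps204_len])

def cat0_103 : List (ℕ × ℕ) := steps206 ++ steps207

theorem cat0_103_len : cat0_103.length = 512 := by rw [cat0_103, List.length_append, steps206_len, steps207_len]

theorem cat0_103_ok : cert.stepsOK 52736 cat0_103 = true ∧ ruleBound spec.length cat0_103 = true :=
  stepsOK_cat steps206_ok steps207_ok (by rw [steps206_len])

def cat0_104 : List (ℕ × ℕ) := steps208 ++ steps209

theorem cat0_104_len : cat0_104.length = 512 := by rw [cat0_104, List.length_append, steps208_len, steps209_len]

theorem cat0_104_ok : cert.stepsOK 53248 cat0_104 = true ∧ ruleBound spec.length cat0_104 = true :=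
  stepsOK_cat steps208_ok steps209_ok (by rw [steps208_len])

def cat0_105 : List (ℕ × ℕ) := steps210 ++ steps211

theorem cat0_105_len : cat0_105.length = 512 := by rw [cat0_105, List.length_append, steps210_len, steps211_len]

theorem cat0_105_ok : cert.stepsOK 53760 cat0_105 = true ∧ ruleBound spec.length cat0_105 = true :=
  stepsOK_cat steps210_ok steps211_ok (by rw [steps210_len])

def cat0_106 : List (ℕ × ℕ) := steps212 ++ steps213

theorem cat0_106_len : cat0_106.length = 512 := by rw [cat0_106, List.length_append, steps212_len, steps213_len]

theorem cat0_106_ok : cert.stepsOK 54272 cat0_106 = true ∧ ruleBound spec.length cat0_106 = true :=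
  stepsOK_cat steps212_ok steps213_ok (by rw [steps212_len])

def cat0_107 : List (ℕ × ℕ) := steps214 ++ steps215

theorem cat0_107_len : cat0_107.length = 512 := by rw [cat0_107, List.length_append, steps214_len, steps215_len]

theorem cat0_107_ok : cert.stepsOK 54784 cat0_107 = true ∧ ruleBound spec.length cat0_107 = true :=
  stepsOK_cat steps214_ok steps215_ok (by rw [steps214_len])

def cat0_108 : List (ℕ × ℕ) := steps216 ++ steps217

theorem cat0_108_len : cat0_108.length = 512 := by rw [cat0_108, List.length_append, steps216_len, steps217_len]

theorem cat0_108_ok : cert.stepsOK 55296 cat0_108 = true ∧ ruleBound spec.length cat0_108 = true :=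
  stepsOK_cat steps216_ok steps217_ok (by rw [steps216_len])

def cat0_109 : List (ℕ × ℕ) := steps218 ++ steps219

theorem cat0_109_len : cat0_109.length = 512 := by rw [cat0_109, List.length_append, steps218_len, steps219_len]

theorem cat0_109_ok : cert.stepsOK 55808 cat0_109 = true ∧ ruleBound spec.length cat0_109 = true :=
  stepsOK_cat steps218_ok steps219_ok (by rw [steps218_len])

def cat0_110 : List (ℕ × ℕ) := steps220 ++ steps221

theorem cat0_110_len : cat0_110.length = 512 := by rw [cat0_110, List.length_append, steps220_len, steps221_len]

theorem cat0_110_ok : cert.stepsOK 56320 cat0_110 = true ∧ ruleBound spec.length cat0_110 = true :=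
  stepsOK_cat steps220_ok steps221_ok (by rw [steps220_len])

def cat0_111 : List (ℕ × ℕ) := steps222 ++ steps223

theorem cat0_111_len : cat0_111.length = 512 := by rw [cat0_111, List.length_append, steps222_len, steps223_len]

theorem cat0_111_ok : cert.stepsOK 56832 cat0_111 = true ∧ ruleBound spec.length cat0_111 = true :=
  stepsOK_cat steps222_ok steps223_ok (by rw [steps222_len])

def cat0_112 : List (ℕ × ℕ) := steps224 ++ steps225

theorem cat0_112_len : cat0_112.length = 512 := by rw [cat0_112, List.length_append, steps224_len, steps225_len]

theorem cat0_112_ok : cert.stepsOK 57344 cat0_112 = true ∧ ruleBound spec.length cat0_112 = true :=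
  stepsOK_cat steps224_ok steps225_ok (by rw [steps224_len])

def cat0_113 : List (ℕ × ℕ) := steps226 ++ steps227

theorem cat0_113_len : cat0_113.length = 512 := by rw [cat0_113, List.length_append, steps226_len, steps227_len]

theorem cat0_113_ok : cert.stepsOK 57856 cat0_113 = true ∧ ruleBound spec.length cat0_113 = true :=
  stepsOK_cat steps226_ok steps227_ok (by rw [steps226_len])

def cat0_114 : List (ℕ × ℕ) := steps228 ++ steps229

theorem cat0_114_len : cat0_114.length = 512 := by rw [cat0_114, List.length_append, steps228_len, steps229_len]

theorem cat0_114_ok : cert.stepsOK 58368 cat0_114 = true ∧ ruleBound spec.length cat0_114 = true :=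
  stepsOK_cat steps228_ok steps229_ok (by rw [steps228_len])

def cat0_115 : List (ℕ × ℕ) := steps230 ++ steps231

theorem cat0_115_len : cat0_115.length = 512 := by rw [cat0_115, List.length_append, steps230_len, steps231_len]

theorem cat0_115_ok : cert.stepsOK 58880 cat0_115 = true ∧ ruleBound spec.length cat0_115 = true :=
  stepsOK_cat steps230_ok steps231_ok (by rw [steps230_len])

def cat0_116 : List (ℕ × ℕ) := steps232 ++ steps233

theorem cat0_116_len : cat0_116.length = 512 := by rw [cat0_116, List.length_append, steps232_len, steps233_len]

theorem cat0_116_ok : cert.stepsOK 59392 cat0_116 = true ∧ ruleBound spec.length cat0_116 = true :=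
  stepsOK_cat steps232_ok steps233_ok (by rw [steps232_len])

def cat0_117 : List (ℕ × ℕ) := steps234 ++ steps235

theorem cat0_117_len : cat0_117.length = 512 := by rw [cat0_117, List.length_append, steps234_len, steps235_len]

theorem cat0_117_ok : cert.stepsOK 59904 cat0_117 = true ∧ ruleBound spec.length cat0_117 = true :=
  stepsOK_cat steps234_ok steps235_ok (by rw [steps234_len])

def cat0_118 : List (ℕ × ℕ) := steps236 ++ steps237

theorem cat0_118_len : cat0_118.length = 512 := by rw [cat0_118, List.length_append, steps236_len, steps237_len]

theorem cat0_118_ok : cert.stepsOK 60416 cat0_118 = true ∧ ruleBound spec.length cat0_118 = true :=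
  stepsOK_cat steps236_ok steps237_ok (by rw [steps236_len])

def cat0_119 : List (ℕ × ℕ) := steps238 ++ steps239

theorem cat0_119_len : cat0_119.length = 512 := by rw [cat0_119, List.length_append, steps238_len, steps239_len]

theorem cat0_119_ok : cert.stepsOK 60928 cat0_119 = true ∧ ruleBound spec.length cat0_119 = true :=
  stepsOK_cat steps238_ok steps239_ok (by rw [steps238_len])

def cat0_120 : List (ℕ × ℕ) := steps240 ++ steps241

theorem cat0_120_len : cat0_120.length = 512 := by rw [cat0_120, List.length_append, steps240_len, steps241_len]

theorem cat0_120_ok : cert.stepsOK 61440 cat0_120 = true ∧ ruleBound spec.length cat0_120 = true :=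
  stepsOK_cat steps240_ok steps241_ok (by rw [steps240_len])

def cat0_121 : List (ℕ × ℕ) := steps242 ++ steps243

theorem cat0_121_len : cat0_121.length = 512 := by rw [cat0_121, List.length_append, steps242_len, steps243_len]

theorem cat0_121_ok : cert.stepsOK 61952 cat0_121 = true ∧ ruleBound spec.length cat0_121 = true :=
  stepsOK_cat steps242_ok steps243_ok (by rw [steps242_len])

def cat0_122 : List (ℕ × ℕ) := steps244 ++ steps245

theorem cat0_122_len : cat0_122.length = 512 := by rw [cat0_122, List.length_append, steps244_len, steps245_len]

theorem cat0_122_ok : cert.stepsOK 62464 cat0_122 = true ∧ ruleBound spec.length cat0_122 = true :=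
  stepsOK_cat steps244_ok steps245_ok (by rw [steps244_len])

def cat0_123 : List (ℕ × ℕ) := steps246 ++ steps247

theorem cat0_123_len : cat0_123.length = 512 := by rw [cat0_123, List.length_append, steps246_len, steps247_len]

theorem cat0_123_ok : cert.stepsOK 62976 cat0_123 = true ∧ ruleBound spec.length cat0_123 = true :=
  stepsOK_cat steps246_ok steps247_ok (by rw [steps246_len])

def cat0_124 : List (ℕ × ℕ) := steps248 ++ steps249

theorem cat0_124_len : cat0_124.length = 512 := by rw [cat0_124, List.length_append, steps248_len, steps249_len]

theorem cat0_124_ok : cert.stepsOK 63488 cat0_124 = true ∧ ruleBound spec.length cat0_124 = true :=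
  stepsOK_cat steps248_ok steps249_ok (by rw [steps248_len])

def cat0_125 : List (ℕ × ℕ) := steps250 ++ steps251

theorem cat0_125_len : cat0_125.length = 512 := by rw [cat0_125, List.length_append, steps250_len, steps251_len]

theorem cat0_125_ok : cert.stepsOK 64000 cat0_125 = true ∧ ruleBound spec.length cat0_125 = true :=
  stepsOK_cat steps250_ok steps251_ok (by rw [steps250_len])

def cat0_126 : List (ℕ × ℕ) := steps252 ++ steps253

theorem cat0_126_len : cat0_126.length = 512 := by rw [cat0_126, List.length_append, steps252_len, steps253_len]

theorem cat0_126_ok : cert.stepsOK 64512 cat0_126 = true ∧ ruleBound spec.length cat0_126 = true :=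
  stepsOK_cat steps252_ok steps253_ok (by rw [steps252_len])

def cat0_127 : List (ℕ × ℕ) := steps254 ++ steps255

theorem cat0_127_len : cat0_127.length = 512 := by rw [cat0_127, List.length_append, steps254_len, steps255_len]

theorem cat0_127_ok : cert.stepsOK 65024 cat0_127 = true ∧ ruleBound spec.length cat0_127 = true :=
  stepsOK_cat steps254_ok steps255_ok (by rw [steps254_len])

def cat0_128 : List (ℕ × ℕ) := steps256 ++ steps257

theorem cat0_128_len : cat0_128.length = 512 := by rw [cat0_128, List.length_append, steps256_len, steps257_len]

theorem cat0_128_ok : cert.stepsOK 65536 cat0_128 = true ∧ ruleBound spec.length cat0_128 = true :=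
  stepsOK_cat steps256_ok steps257_ok (by rw [steps256_len])

def cat0_129 : List (ℕ × ℕ) := steps258 ++ steps259

theorem cat0_129_len : cat0_129.length = 512 := by rw [cat0_129, List.length_append, steps258_len, steps259_len]

theorem cat0_129_ok : cert.stepsOK 66048 cat0_129 = true ∧ ruleBound spec.length cat0_129 = true :=
  stepsOK_cat steps258_ok steps259_ok (by rw [steps258_len])

def cat0_130 : List (ℕ × ℕ) := steps260 ++ steps261

theorem cat0_130_len : cat0_130.length = 512 := by rw [cat0_130, List.length_append, steps260_len, steps261_len]

theorem cat0_130_ok : cert.stepsOK 66560 cat0_130 = true ∧ ruleBound spec.length cat0_130 = true :=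
  stepsOK_cat steps260_ok steps261_ok (by rw [steps260_len])

def cat0_131 : List (ℕ × ℕ) := steps262 ++ steps263

theorem cat0_131_len : cat0_131.length = 512 := by rw [cat0_131, List.length_append, steps262_len, steps263_len]

theorem cat0_131_ok : cert.stepsOK 67072 cat0_131 = true ∧ ruleBound spec.length cat0_131 = true :=
  stepsOK_cat steps262_ok steps263_ok (by rw [steps262_len])

def cat0_132 : List (ℕ × ℕ) := steps264 ++ steps265

theorem cat0_132_len : cat0_132.length = 512 := by rw [cat0_132, List.length_append, steps264_len, steps265_len]

theorem cat0_132_ok : cert.stepsOK 67584 cat0_132 = true ∧ ruleBound spec.length cat0_132 = true :=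
  stepsOK_cat steps264_ok steps265_ok (by rw [steps264_len])

def cat0_133 : List (ℕ × ℕ) := steps266 ++ steps267

theorem cat0_133_len : cat0_133.length = 512 := by rw [cat0_133, List.length_append, steps266_len, steps267_len]

theorem cat0_133_ok : cert.stepsOK 68096 cat0_133 = true ∧ ruleBound spec.length cat0_133 = true :=
  stepsOK_cat steps266_ok steps267_ok (by rw [steps266_len])

def cat0_134 : List (ℕ × ℕ) := steps268 ++ steps269

theorem cat0_134_len : cat0_134.length = 512 := by rw [cat0_134, List.length_append, steps268_len, steps269_len]

theorem cat0_134_ok : cert.stepsOK 68608 cat0_134 = true ∧ ruleBound spec.length cat0_134 = true :=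
  stepsOK_cat steps268_ok steps269_ok (by rw [steps268_len])

def cat0_135 : List (ℕ × ℕ) := steps270 ++ steps271

theorem cat0_135_len : cat0_135.length = 512 := by rw [cat0_135, List.length_append, steps270_len, steps271_len]

theorem cat0_135_ok : cert.stepsOK 69120 cat0_135 = true ∧ ruleBound spec.length cat0_135 = true :=
  stepsOK_cat steps270_ok steps271_ok (by rw [steps270_len])

def cat0_136 : List (ℕ × ℕ) := steps272 ++ steps273

theorem cat0_136_len : cat0_136.length = 512 := by rw [cat0_136, List.length_append, steps272_len, steps273_len]

theorem cat0_136_ok : cert.stepsOK 69632 cat0_136 = true ∧ ruleBound spec.length cat0_136 = true :=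
  stepsOK_cat steps272_ok steps273_ok (by rw [steps272_len])

def cat0_137 : List (ℕ × ℕ) := steps274 ++ steps275

theorem cat0_137_len : cat0_137.length = 512 := by rw [cat0_137, List.length_append, steps274_len, steps275_len]

theorem cat0_137_ok : cert.stepsOK 70144 cat0_137 = true ∧ ruleBound spec.length cat0_137 = true :=
  stepsOK_cat steps274_ok steps275_ok (by rw [steps274_len])

def cat0_138 : List (ℕ × ℕ) := steps276 ++ steps277

theorem cat0_138_len : cat0_138.length = 512 := by rw [cat0_138, List.length_append, steps276_len, steps277_len]

theorem cat0_138_ok : cert.stepsOK 70656 cat0_138 = true ∧ ruleBound spec.length cat0_138 = true :=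
  stepsOK_cat steps276_ok steps277_ok (by rw [steps276_len])

def cat0_139 : List (ℕ × ℕ) := steps278 ++ steps279

theorem cat0_139_len : cat0_139.length = 512 := by rw [cat0_139, List.length_append, steps278_len, steps279_len]

theorem cat0_139_ok : cert.stepsOK 71168 cat0_139 = true ∧ ruleBound spec.length cat0_139 = true :=
  stepsOK_cat steps278_ok steps279_ok (by rw [steps278_len])

def cat0_140 : List (ℕ × ℕ) := steps280 ++ steps281

theorem cat0_140_len : cat0_140.length = 512 := by rw [cat0_140, List.length_append, steps280_len, steps281_len]

theorem cat0_140_ok : cert.stepsOK 71680 cat0_140 = true ∧ ruleBound spec.length cat0_140 = true :=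
  stepsOK_cat steps280_ok steps281_ok (by rw [steps280_len])

def cat0_141 : List (ℕ × ℕ) := steps282 ++ steps283

theorem cat0_141_len : cat0_141.length = 512 := by rw [cat0_141, List.length_append, steps282_len, steps283_len]

theorem cat0_141_ok : cert.stepsOK 72192 cat0_141 = true ∧ ruleBound spec.length cat0_141 = true :=
  stepsOK_cat steps282_ok steps283_ok (by rw [steps282_len])

def cat0_142 : List (ℕ × ℕ) := steps284 ++ steps285

theorem cat0_142_len : cat0_142.length = 512 := by rw [cat0_142, List.length_append, steps284_len, steps285_len]

theorem cat0_142_ok : cert.stepsOK 72704 cat0_142 = true ∧ ruleBound spec.length cat0_142 = true :=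
  stepsOK_cat steps284_ok steps285_ok (by rw [steps284_len])

def cat0_143 : List (ℕ × ℕ) := steps286 ++ steps287

theorem cat0_143_len : cat0_143.length = 512 := by rw [cat0_143, List.length_append, steps286_len, steps287_len]

theorem cat0_143_ok : cert.stepsOK 73216 cat0_143 = true ∧ ruleBound spec.length cat0_143 = true :=
  stepsOK_cat steps286_ok steps287_ok (by rw [steps286_len])

def cat0_144 : List (ℕ × ℕ) := steps288 ++ steps289

theorem cat0_144_len : cat0_144.length = 512 := by rw [cat0_144, List.length_append, steps288_len, steps289_len]

theorem cat0_144_ok : cert.stepsOK 73728 cat0_144 = true ∧ ruleBound spec.length cat0_144 = true :=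
  stepsOK_cat steps288_ok steps289_ok (by rw [steps288_len])

def cat0_145 : List (ℕ × ℕ) := steps290 ++ steps291

theorem cat0_145_len : cat0_145.length = 512 := by rw [cat0_145, List.length_append, steps290_len, steps291_len]

theorem cat0_145_ok : cert.stepsOK 74240 cat0_145 = true ∧ ruleBound spec.length cat0_145 = true :=
  stepsOK_cat steps290_ok steps291_ok (by rw [steps290_len])

def cat0_146 : List (ℕ × ℕ) := steps292 ++ steps293

theorem cat0_146_len : cat0_146.length = 512 := by rw [cat0_146, List.length_append, steps292_len, steps293_len]

theorem cat0_146_ok : cert.stepsOK 74752 cat0_146 = true ∧ ruleBound spec.length cat0_146 = true :=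
  stepsOK_cat steps292_ok steps293_ok (by rw [steps292_len])

def cat0_147 : List (ℕ × ℕ) := steps294 ++ steps295

theorem cat0_147_len : cat0_147.length = 512 := by rw [cat0_147, List.length_append, steps294_len, steps295_len]

theorem cat0_147_ok : cert.stepsOK 75264 cat0_147 = true ∧ ruleBound spec.length cat0_147 = true :=
  stepsOK_cat steps294_ok steps295_ok (by rw [steps294_len])

def cat0_148 : List (ℕ × ℕ) := steps296 ++ steps297

theorem cat0_148_len : cat0_148.length = 512 := by rw [cat0_148, List.length_append, steps296_len, steps297_len]

theorem cat0_148_ok : cert.stepsOK 75776 cat0_148 = true ∧ ruleBound spec.length cat0_148 = true :=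
  stepsOK_cat steps296_ok steps297_ok (by rw [steps296_len])

def cat0_149 : List (ℕ × ℕ) := steps298 ++ steps299

theorem cat0_149_len : cat0_149.length = 512 := by rw [cat0_149, List.length_append, steps298_len, steps299_len]

theorem cat0_149_ok : cert.stepsOK 76288 cat0_149 = true ∧ ruleBound spec.length cat0_149 = true :=
  stepsOK_cat steps298_ok steps299_ok (by rw [steps298_len])

def cat0_150 : List (ℕ × ℕ) := steps300 ++ steps301

theorem cat0_150_len : cat0_150.length = 512 := by rw [cat0_150, List.length_append, steps300_len, steps301_len]

theorem cat0_150_ok : cert.stepsOK 76800 cat0_150 = true ∧ ruleBound spec.length cat0_150 = true :=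
  stepsOK_cat steps300_ok steps301_ok (by rw [steps300_len])

def cat0_151 : List (ℕ × ℕ) := steps302 ++ steps303

theorem cat0_151_len : cat0_151.length = 512 := by rw [cat0_151, List.length_append, steps302_len, steps303_len]

theorem cat0_151_ok : cert.stepsOK 77312 cat0_151 = true ∧ ruleBound spec.length cat0_151 = true :=
  stepsOK_cat steps302_ok steps303_ok (by rw [steps302_len])

def cat0_152 : List (ℕ × ℕ) := steps304 ++ steps305

theorem cat0_152_len : cat0_152.length = 512 := by rw [cat0_152, List.length_append, steps304_len, steps305_len]

theorem cat0_152_ok : cert.stepsOK 77824 cat0_152 = true ∧ ruleBound spec.length cat0_152 = true :=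
  stepsOK_cat steps304_ok steps305_ok (by rw [steps304_len])

def cat0_153 : List (ℕ × ℕ) := steps306 ++ steps307

theorem cat0_153_len : cat0_153.length = 512 := by rw [cat0_153, List.length_append, steps306_len, steps307_len]

theorem cat0_153_ok : cert.stepsOK 78336 cat0_153 = true ∧ ruleBound spec.length cat0_153 = true :=
  stepsOK_cat steps306_ok steps307_ok (by rw [steps306_len])

def cat0_154 : List (ℕ × ℕ) := steps308 ++ steps309

theorem cat0_154_len : cat0_154.length = 512 := by rw [cat0_154, List.length_append, steps308_len, steps309_len]

theorem cat0_154_ok : cert.stepsOK 78848 cat0_154 = true ∧ ruleBound spec.length cat0_154 = true :=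
  stepsOK_cat steps308_ok steps309_ok (by rw [steps308_len])

def cat0_155 : List (ℕ × ℕ) := steps310 ++ steps311

theorem cat0_155_len : cat0_155.length = 512 := by rw [cat0_155, List.length_append, steps310_len, steps311_len]

theorem cat0_155_ok : cert.stepsOK 79360 cat0_155 = true ∧ ruleBound spec.length cat0_155 = true :=
  stepsOK_cat steps310_ok steps311_ok (by rw [steps310_len])

def cat0_156 : List (ℕ × ℕ) := steps312 ++ steps313

theorem cat0_156_len : cat0_156.length = 512 := by rw [cat0_156, List.length_append, steps312_len, steps313_len]

theorem cat0_156_ok : cert.stepsOK 79872 cat0_156 = true ∧ ruleBound spec.length cat0_156 = true :=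
  stepsOK_cat steps312_ok steps313_ok (by rw [steps312_len])

def cat0_157 : List (ℕ × ℕ) := steps314 ++ steps315

theorem cat0_157_len : cat0_157.length = 512 := by rw [cat0_157, List.length_append, steps314_len, steps315_len]

theorem cat0_157_ok : cert.stepsOK 80384 cat0_157 = true ∧ ruleBound spec.length cat0_157 = true :=
  stepsOK_cat steps314_ok steps315_ok (by rw [steps314_len])

def cat0_158 : List (ℕ × ℕ) := steps316 ++ steps317

theorem cat0_158_len : cat0_158.length = 512 := by rw [cat0_158, List.length_append, steps316_len, steps317_len]

theorem cat0_158_ok : cert.stepsOK 80896 cat0_158 = true ∧ ruleBound spec.length cat0_158 = true :=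
  stepsOK_cat steps316_ok steps317_ok (by rw [steps316_len])

def cat0_159 : List (ℕ × ℕ) := steps318 ++ steps319

theorem cat0_159_len : cat0_159.length = 512 := by rw [cat0_159, List.length_append, steps318_len, steps319_len]

theorem cat0_159_ok : cert.stepsOK 81408 cat0_159 = true ∧ ruleBound spec.length cat0_159 = true :=
  stepsOK_cat steps318_ok steps319_ok (by rw [steps318_len])

def cat0_160 : List (ℕ × ℕ) := steps320 ++ steps321

theorem cat0_160_len : cat0_160.length = 512 := by rw [cat0_160, List.length_append, steps320_len, steps321_len]

theorem cat0_160_ok : cert.stepsOK 81920 cat0_160 = true ∧ ruleBound spec.length cat0_160 = true :=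
  stepsOK_cat steps320_ok steps321_ok (by rw [steps320_len])

def cat0_161 : List (ℕ × ℕ) := steps322 ++ steps323

theorem cat0_161_len : cat0_161.length = 512 := by rw [cat0_161, List.length_append, steps322_len, steps323_len]

theorem cat0_161_ok : cert.stepsOK 82432 cat0_161 = true ∧ ruleBound spec.length cat0_161 = true :=
  stepsOK_cat steps322_ok steps323_ok (by rw [steps322_len])

def cat0_162 : List (ℕ × ℕ) := steps324 ++ steps325

theorem cat0_162_len : cat0_162.length = 512 := by rw [cat0_162, List.length_append, steps324_len, steps325_len]

theorem cat0_162_ok : cert.stepsOK 82944 cat0_162 = true ∧ ruleBound spec.length cat0_162 = true :=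
  stepsOK_cat steps324_ok steps325_ok (by rw [steps324_len])

def cat0_163 : List (ℕ × ℕ) := steps326 ++ steps327

theorem cat0_163_len : cat0_163.length = 512 := by rw [cat0_163, List.length_append, steps326_len, steps327_len]

theorem cat0_163_ok : cert.stepsOK 83456 cat0_163 = true ∧ ruleBound spec.length cat0_163 = true :=
  stepsOK_cat steps326_ok steps327_ok (by rw [steps326_len])

def cat0_164 : List (ℕ × ℕ) := steps328 ++ steps329

theorem cat0_164_len : cat0_164.length = 512 := by rw [cat0_164, List.length_append, steps328_len, steps329_len]

theorem cat0_164_ok : cert.stepsOK 83968 cat0_164 = true ∧ ruleBound spec.length cat0_164 = true :=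
  stepsOK_cat steps328_ok steps329_ok (by rw [steps328_len])

def cat0_165 : List (ℕ × ℕ) := steps330 ++ steps331

theorem cat0_165_len : cat0_165.length = 512 := by rw [cat0_165, List.length_append, steps330_len, steps331_len]

theorem cat0_165_ok : cert.stepsOK 84480 cat0_165 = true ∧ ruleBound spec.length cat0_165 = true :=
  stepsOK_cat steps330_ok steps331_ok (by rw [steps330_len])

def cat0_166 : List (ℕ × ℕ) := steps332 ++ steps333

theorem cat0_166_len : cat0_166.length = 512 := by rw [cat0_166, List.length_append, steps332_len, steps333_len]

theorem cat0_166_ok : cert.stepsOK 84992 cat0_166 = true ∧ ruleBound spec.length cat0_166 = true :=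
  stepsOK_cat steps332_ok steps333_ok (by rw [steps332_len])

def cat0_167 : List (ℕ × ℕ) := steps334 ++ steps335

theorem cat0_167_len : cat0_167.length = 512 := by rw [cat0_167, List.length_append, steps334_len, steps335_len]

theorem cat0_167_ok : cert.stepsOK 85504 cat0_167 = true ∧ ruleBound spec.length cat0_167 = true :=
  stepsOK_cat steps334_ok steps335_ok (by rw [steps334_len])

def cat0_168 : List (ℕ × ℕ) := steps336 ++ steps337

theorem cat0_168_len : cat0_168.length = 512 := by rw [cat0_168, List.length_append, steps336_len, steps337_len]

theorem cat0_168_ok : cert.stepsOK 86016 cat0_168 = true ∧ ruleBound spec.length cat0_168 = true :=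
  stepsOK_cat steps336_ok steps337_ok (by rw [steps336_len])

def cat0_169 : List (ℕ × ℕ) := steps338 ++ steps339

theorem cat0_169_len : cat0_169.length = 512 := by rw [cat0_169, List.length_append, steps338_len, steps339_len]

theorem cat0_169_ok : cert.stepsOK 86528 cat0_169 = true ∧ ruleBound spec.length cat0_169 = true :=
  stepsOK_cat steps338_ok steps339_ok (by rw [steps338_len])

def cat0_170 : List (ℕ × ℕ) := steps340 ++ steps341

theorem cat0_170_len : cat0_170.length = 512 := by rw [cat0_170, List.length_append, steps340_len, steps341_len]

theorem cat0_170_ok : cert.stepsOK 87040 cat0_170 = true ∧ ruleBound spec.length cat0_170 = true :=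
  stepsOK_cat steps340_ok steps341_ok (by rw [steps340_len])

def cat0_171 : List (ℕ × ℕ) := steps342 ++ steps343

theorem cat0_171_len : cat0_171.length = 512 := by rw [cat0_171, List.length_append, steps342_len, steps343_len]

theorem cat0_171_ok : cert.stepsOK 87552 cat0_171 = true ∧ ruleBound spec.length cat0_171 = true :=
  stepsOK_cat steps342_ok steps343_ok (by rw [steps342_len])

def cat0_172 : List (ℕ × ℕ) := steps344 ++ steps345

theorem cat0_172_len : cat0_172.length = 512 := by rw [cat0_172, List.length_append, steps344_len, steps345_len]

theorem cat0_172_ok : cert.stepsOK 88064 cat0_172 = true ∧ ruleBound spec.length cat0_172 = true :=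
  stepsOK_cat steps344_ok steps345_ok (by rw [steps344_len])

def cat0_173 : List (ℕ × ℕ) := steps346 ++ steps347

theorem cat0_173_len : cat0_173.length = 512 := by rw [cat0_173, List.length_append, steps346_len, steps347_len]

theorem cat0_173_ok : cert.stepsOK 88576 cat0_173 = true ∧ ruleBound spec.length cat0_173 = true :=
  stepsOK_cat steps346_ok steps347_ok (by rw [steps346_len])

def cat0_174 : List (ℕ × ℕ) := steps348 ++ steps349

theorem cat0_174_len : cat0_174.length = 512 := by rw [cat0_174, List.length_append, steps348_len, steps349_len]

theorem cat0_174_ok : cert.stepsOK 89088 cat0_174 = true ∧ ruleBound spec.length cat0_174 = true :=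
  stepsOK_cat steps348_ok steps349_ok (by rw [steps348_len])

def cat0_175 : List (ℕ × ℕ) := steps350 ++ steps351

theorem cat0_175_len : cat0_175.length = 512 := by rw [cat0_175, List.length_append, steps350_len, steps351_len]

theorem cat0_175_ok : cert.stepsOK 89600 cat0_175 = true ∧ ruleBound spec.length cat0_175 = true :=
  stepsOK_cat steps350_ok steps351_ok (by rw [steps350_len])

def cat0_176 : List (ℕ × ℕ) := steps352 ++ steps353

theorem cat0_176_len : cat0_176.length = 512 := by rw [cat0_176, List.length_append, steps352_len, steps353_len]

theorem cat0_176_ok : cert.stepsOK 90112 cat0_176 = true ∧ ruleBound spec.length cat0_176 = true :=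
  stepsOK_cat steps352_ok steps353_ok (by rw [steps352_len])

def cat0_177 : List (ℕ × ℕ) := steps354 ++ steps355

theorem cat0_177_len : cat0_177.length = 512 := by rw [cat0_177, List.length_append, steps354_len, steps355_len]

theorem cat0_177_ok : cert.stepsOK 90624 cat0_177 = true ∧ ruleBound spec.length cat0_177 = true :=
  stepsOK_cat steps354_ok steps355_ok (by rw [steps354_len])

def cat0_178 : List (ℕ × ℕ) := steps356 ++ steps357

theorem cat0_178_len : cat0_178.length = 512 := by rw [cat0_178, List.length_append, steps356_len, steps357_len]

theorem cat0_178_ok : cert.stepsOK 91136 cat0_178 = true ∧ ruleBound spec.length cat0_178 = true :=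
  stepsOK_cat steps356_ok steps357_ok (by rw [steps356_len])

def cat0_179 : List (ℕ × ℕ) := steps358 ++ steps359

theorem cat0_179_len : cat0_179.length = 512 := by rw [cat0_179, List.length_append, steps358_len, steps359_len]

theorem cat0_179_ok : cert.stepsOK 91648 cat0_179 = true ∧ ruleBound spec.length cat0_179 = true :=
  stepsOK_cat steps358_ok steps359_ok (by rw [steps358_len])

def cat0_180 : List (ℕ × ℕ) := steps360 ++ steps361

theorem cat0_180_len : cat0_180.length = 512 := by rw [cat0_180, List.length_append, steps360_len, steps361_len]

theorem cat0_180_ok : cert.stepsOK 92160 cat0_180 = true ∧ ruleBound spec.length cat0_180 = true :=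
  stepsOK_cat steps360_ok steps361_ok (by rw [steps360_len])

def cat0_181 : List (ℕ × ℕ) := steps362 ++ steps363

theorem cat0_181_len : cat0_181.length = 512 := by rw [cat0_181, List.length_append, steps362_len, steps363_len]

theorem cat0_181_ok : cert.stepsOK 92672 cat0_181 = true ∧ ruleBound spec.length cat0_181 = true :=
  stepsOK_cat steps362_ok steps363_ok (by rw [steps362_len])

def cat0_182 : List (ℕ × ℕ) := steps364 ++ steps365

theorem cat0_182_len : cat0_182.length = 512 := by rw [cat0_182, List.length_append, steps364_len, steps365_len]

theorem cat0_182_ok : cert.stepsOK 93184 cat0_182 = true ∧ ruleBound spec.length cat0_182 = true :=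
  stepsOK_cat steps364_ok steps365_ok (by rw [steps364_len])

def cat0_183 : List (ℕ × ℕ) := steps366 ++ steps367

theorem cat0_183_len : cat0_183.length = 512 := by rw [cat0_183, List.length_append, steps366_len, steps367_len]

theorem cat0_183_ok : cert.stepsOK 93696 cat0_183 = true ∧ ruleBound spec.length cat0_183 = true :=
  stepsOK_cat steps366_ok steps367_ok (by rw [steps366_len])

def cat0_184 : List (ℕ × ℕ) := steps368 ++ steps369

theorem cat0_184_len : cat0_184.length = 512 := by rw [cat0_184, List.length_append, steps368_len, steps369_len]

theorem cat0_184_ok : cert.stepsOK 94208 cat0_184 = true ∧ ruleBound spec.length cat0_184 = true :=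
  stepsOK_cat steps368_ok steps369_ok (by rw [steps368_len])

def cat0_185 : List (ℕ × ℕ) := steps370 ++ steps371

theorem cat0_185_len : cat0_185.length = 512 := by rw [cat0_185, List.length_append, steps370_len, steps371_len]

theorem cat0_185_ok : cert.stepsOK 94720 cat0_185 = true ∧ ruleBound spec.length cat0_185 = true :=
  stepsOK_cat steps370_ok steps371_ok (by rw [steps370_len])

def cat0_186 : List (ℕ × ℕ) := steps372 ++ steps373

theorem cat0_186_len : cat0_186.length = 512 := by rw [cat0_186, List.length_append, steps372_len, steps373_len]

theorem cat0_186_ok : cert.stepsOK 95232 cat0_186 = true ∧ ruleBound spec.length cat0_186 = true :=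
  stepsOK_cat steps372_ok steps373_ok (by rw [steps372_len])

def cat0_187 : List (ℕ × ℕ) := steps374 ++ steps375

theorem cat0_187_len : cat0_187.length = 512 := by rw [cat0_187, List.length_append, steps374_len, steps375_len]

theorem cat0_187_ok : cert.stepsOK 95744 cat0_187 = true ∧ ruleBound spec.length cat0_187 = true :=
  stepsOK_cat steps374_ok steps375_ok (by rw [steps374_len])

def cat0_188 : List (ℕ × ℕ) := steps376 ++ steps377

theorem cat0_188_len : cat0_188.length = 512 := by rw [cat0_188, List.length_append, steps376_len, steps377_len]

theorem cat0_188_ok : cert.stepsOK 96256 cat0_188 = true ∧ ruleBound spec.length cat0_188 = true :=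
  stepsOK_cat steps376_ok steps377_ok (by rw [steps376_len])

def cat0_189 : List (ℕ × ℕ) := steps378 ++ steps379

theorem cat0_189_len : cat0_189.length = 512 := by rw [cat0_189, List.length_append, steps378_len, steps379_len]

theorem cat0_189_ok : cert.stepsOK 96768 cat0_189 = true ∧ ruleBound spec.length cat0_189 = true :=
  stepsOK_cat steps378_ok steps379_ok (by rw [steps378_len])

def cat0_190 : List (ℕ × ℕ) := steps380 ++ steps381

theorem cat0_190_len : cat0_190.length = 512 := by rw [cat0_190, List.length_append, steps380_len, steps381_len]

theorem cat0_190_ok : cert.stepsOK 97280 cat0_190 = true ∧ ruleBound spec.length cat0_190 = true :=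
  stepsOK_cat steps380_ok steps381_ok (by rw [steps380_len])

def cat0_191 : List (ℕ × ℕ) := steps382 ++ steps383

theorem cat0_191_len : cat0_191.length = 512 := by rw [cat0_191, List.length_append, steps382_len, steps383_len]

theorem cat0_191_ok : cert.stepsOK 97792 cat0_191 = true ∧ ruleBound spec.length cat0_191 = true :=
  stepsOK_cat steps382_ok steps383_ok (by rw [steps382_len])

def cat0_192 : List (ℕ × ℕ) := steps384 ++ steps385

theorem cat0_192_len : cat0_192.length = 512 := by rw [cat0_192, List.length_append, steps384_len, steps385_len]

theorem cat0_192_ok : cert.stepsOK 98304 cat0_192 = true ∧ ruleBound spec.length cat0_192 = true :=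
  stepsOK_cat steps384_ok steps385_ok (by rw [steps384_len])

def cat0_193 : List (ℕ × ℕ) := steps386 ++ steps387

theorem cat0_193_len : cat0_193.length = 512 := by rw [cat0_193, List.length_append, steps386_len, steps387_len]

theorem cat0_193_ok : cert.stepsOK 98816 cat0_193 = true ∧ ruleBound spec.length cat0_193 = true :=
  stepsOK_cat steps386_ok steps387_ok (by rw [steps386_len])

def cat0_194 : List (ℕ × ℕ) := steps388 ++ steps389

theorem cat0_194_len : cat0_194.length = 512 := by rw [cat0_194, List.length_append, steps388_len, steps389_len]

theorem cat0_194_ok : cert.stepsOK 99328 cat0_194 = true ∧ ruleBound spec.length cat0_194 = true :=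
  stepsOK_cat steps388_ok steps389_ok (by rw [steps388_len])

def cat0_195 : List (ℕ × ℕ) := steps390 ++ steps391

theorem cat0_195_len : cat0_195.length = 512 := by rw [cat0_195, List.length_append, steps390_len, steps391_len]

theorem cat0_195_ok : cert.stepsOK 99840 cat0_195 = true ∧ ruleBound spec.length cat0_195 = true :=
  stepsOK_cat steps390_ok steps391_ok (by rw [steps390_len])

def cat0_196 : List (ℕ × ℕ) := steps392 ++ steps393

theorem cat0_196_len : cat0_196.length = 512 := by rw [cat0_196, List.length_append, steps392_len, steps393_len]

theorem cat0_196_ok : cert.stepsOK 100352 cat0_196 = true ∧ ruleBound spec.length cat0_196 = true :=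
  stepsOK_cat steps392_ok steps393_ok (by rw [steps392_len])

def cat0_197 : List (ℕ × ℕ) := steps394 ++ steps395

theorem cat0_197_len : cat0_197.length = 512 := by rw [cat0_197, List.length_append, steps394_len, steps395_len]

theorem cat0_197_ok : cert.stepsOK 100864 cat0_197 = true ∧ ruleBound spec.length cat0_197 = true :=
  stepsOK_cat steps394_ok steps395_ok (by rw [steps394_len])

def cat0_198 : List (ℕ × ℕ) := steps396 ++ steps397

theorem cat0_198_len : cat0_198.length = 512 := by rw [cat0_198, List.length_append, steps396_len, steps397_len]

theorem cat0_198_ok : cert.stepsOK 101376 cat0_198 = true ∧ ruleBound spec.length cat0_198 = true :=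
  stepsOK_cat steps396_ok steps397_ok (by rw [steps396_len])

def cat0_199 : List (ℕ × ℕ) := steps398 ++ steps399

theorem cat0_199_len : cat0_199.length = 512 := by rw [cat0_199, List.length_append, steps398_len, steps399_len]

theorem cat0_199_ok : cert.stepsOK 101888 cat0_199 = true ∧ ruleBound spec.length cat0_199 = true :=
  stepsOK_cat steps398_ok steps399_ok (by rw [steps398_len])

def cat0_200 : List (ℕ × ℕ) := steps400 ++ steps401

theorem cat0_200_len : cat0_200.length = 512 := by rw [cat0_200, List.length_append, steps400_len, steps401_len]

theorem cat0_200_ok : cert.stepsOK 102400 cat0_200 = true ∧ ruleBound spec.length cat0_200 = true :=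
  stepsOK_cat steps400_ok steps401_ok (by rw [steps400_len])

def cat0_201 : List (ℕ × ℕ) := steps402 ++ steps403

theorem cat0_201_len : cat0_201.length = 512 := by rw [cat0_201, List.length_append, steps402_len, steps403_len]

theorem cat0_201_ok : cert.stepsOK 102912 cat0_201 = true ∧ ruleBound spec.length cat0_201 = true :=
  stepsOK_cat steps402_ok steps403_ok (by rw [steps402_len])

def cat0_202 : List (ℕ × ℕ) := steps404 ++ steps405

theorem cat0_202_len : cat0_202.length = 512 := by rw [cat0_202, List.length_append, steps404_len, steps405_len]

theorem cat0_202_ok : cert.stepsOK 103424 cat0_202 = true ∧ ruleBound spec.length cat0_202 = true :=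
  stepsOK_cat steps404_ok steps405_ok (by rw [steps404_len])

def cat0_203 : List (ℕ × ℕ) := steps406 ++ steps407

theorem cat0_203_len : cat0_203.length = 512 := by rw [cat0_203, List.length_append, steps406_len, steps407_len]

theorem cat0_203_ok : cert.stepsOK 103936 cat0_203 = true ∧ ruleBound spec.length cat0_203 = true :=
  stepsOK_cat steps406_ok steps407_ok (by rw [steps406_len])

def cat0_204 : List (ℕ × ℕ) := steps408 ++ steps409

theorem cat0_204_len : cat0_204.length = 512 := by rw [cat0_204, List.length_append, steps408_len, steps409_len]

theorem cat0_204_ok : cert.stepsOK 104448 cat0_204 = true ∧ ruleBound spec.length cat0_204 = true :=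
  stepsOK_cat steps408_ok steps409_ok (by rw [steps408_len])

def cat0_205 : List (ℕ × ℕ) := steps410 ++ steps411

theorem cat0_205_len : cat0_205.length = 512 := by rw [cat0_205, List.length_append, steps410_len, steps411_len]

theorem cat0_205_ok : cert.stepsOK 104960 cat0_205 = true ∧ ruleBound spec.length cat0_205 = true :=
  stepsOK_cat steps410_ok steps411_ok (by rw [steps410_len])

def cat0_206 : List (ℕ × ℕ) := steps412 ++ steps413

theorem cat0_206_len : cat0_206.length = 512 := by rw [cat0_206, List.length_append, steps412_len, steps413_len]

theorem cat0_206_ok : cert.stepsOK 105472 cat0_206 = true ∧ ruleBound spec.length cat0_206 = true :=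
  stepsOK_cat steps412_ok steps413_ok (by rw [steps412_len])

def cat0_207 : List (ℕ × ℕ) := steps414 ++ steps415

theorem cat0_207_len : cat0_207.length = 512 := by rw [cat0_207, List.length_append, steps414_len, steps415_len]

theorem cat0_207_ok : cert.stepsOK 105984 cat0_207 = true ∧ ruleBound spec.length cat0_207 = true :=
  stepsOK_cat steps414_ok steps415_ok (by rw [steps414_len])

def cat0_208 : List (ℕ × ℕ) := steps416 ++ steps417

theorem cat0_208_len : cat0_208.length = 512 := by rw [cat0_208, List.length_append, steps416_len, steps417_len]

theorem cat0_208_ok : cert.stepsOK 106496 cat0_208 = true ∧ ruleBound spec.length cat0_208 = true :=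
  stepsOK_cat steps416_ok steps417_ok (by rw [steps416_len])

def cat0_209 : List (ℕ × ℕ) := steps418 ++ steps419

theorem cat0_209_len : cat0_209.length = 512 := by rw [cat0_209, List.length_append, steps418_len, steps419_len]

theorem cat0_209_ok : cert.stepsOK 107008 cat0_209 = true ∧ ruleBound spec.length cat0_209 = true :=
  stepsOK_cat steps418_ok steps419_ok (by rw [steps418_len])

def cat0_210 : List (ℕ × ℕ) := steps420 ++ steps421

theorem cat0_210_len : cat0_210.length = 512 := by rw [cat0_210, List.length_append, steps420_len, steps421_len]

theorem cat0_210_ok : cert.stepsOK 107520 cat0_210 = true ∧ ruleBound spec.length cat0_210 = true :=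
  stepsOK_cat steps420_ok steps421_ok (by rw [steps420_len])

def cat0_211 : List (ℕ × ℕ) := steps422 ++ steps423

theorem cat0_211_len : cat0_211.length = 512 := by rw [cat0_211, List.length_append, steps422_len, steps423_len]

theorem cat0_211_ok : cert.stepsOK 108032 cat0_211 = true ∧ ruleBound spec.length cat0_211 = true :=
  stepsOK_cat steps422_ok steps423_ok (by rw [steps422_len])

def cat0_212 : List (ℕ × ℕ) := steps424 ++ steps425

theorem cat0_212_len : cat0_212.length = 512 := by rw [cat0_212, List.length_append, steps424_len, steps425_len]

theorem cat0_212_ok : cert.stepsOK 108544 cat0_212 = true ∧ ruleBound spec.length cat0_212 = true :=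
  stepsOK_cat steps424_ok steps425_ok (by rw [steps424_len])

def cat0_213 : List (ℕ × ℕ) := steps426 ++ steps427

theorem cat0_213_len : cat0_213.length = 512 := by rw [cat0_213, List.length_append, steps426_len, steps427_len]

theorem cat0_213_ok : cert.stepsOK 109056 cat0_213 = true ∧ ruleBound spec.length cat0_213 = true :=
  stepsOK_cat steps426_ok steps427_ok (by rw [steps426_len])

def cat0_214 : List (ℕ × ℕ) := steps428 ++ steps429

theorem cat0_214_len : cat0_214.length = 512 := by rw [cat0_214, List.length_append, steps428_len, steps429_len]

theorem cat0_214_ok : cert.stepsOK 109568 cat0_214 = true ∧ ruleBound spec.length cat0_214 = true :=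
  stepsOK_cat steps428_ok steps429_ok (by rw [steps428_len])

def cat0_215 : List (ℕ × ℕ) := steps430 ++ steps431

theorem cat0_215_len : cat0_215.length = 512 := by rw [cat0_215, List.length_append, steps430_len, steps431_len]

theorem cat0_215_ok : cert.stepsOK 110080 cat0_215 = true ∧ ruleBound spec.length cat0_215 = true :=
  stepsOK_cat steps430_ok steps431_ok (by rw [steps430_len])

def cat0_216 : List (ℕ × ℕ) := steps432 ++ steps433

theorem cat0_216_len : cat0_216.length = 512 := by rw [cat0_216, List.length_append, steps432_len, steps433_len]

theorem cat0_216_ok : cert.stepsOK 110592 cat0_216 = true ∧ ruleBound spec.length cat0_216 = true :=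
  stepsOK_cat steps432_ok steps433_ok (by rw [steps432_len])

def cat0_217 : List (ℕ × ℕ) := steps434 ++ steps435

theorem cat0_217_len : cat0_217.length = 512 := by rw [cat0_217, List.length_append, steps434_len, steps435_len]

theorem cat0_217_ok : cert.stepsOK 111104 cat0_217 = true ∧ ruleBound spec.length cat0_217 = true :=
  stepsOK_cat steps434_ok steps435_ok (by rw [steps434_len])

def cat0_218 : List (ℕ × ℕ) := steps436 ++ steps437

theorem cat0_218_len : cat0_218.length = 512 := by rw [cat0_218, List.length_append, steps436_len, steps437_len]

theorem cat0_218_ok : cert.stepsOK 111616 cat0_218 = true ∧ ruleBound spec.length cat0_218 = true :=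
  stepsOK_cat steps436_ok steps437_ok (by rw [steps436_len])

def cat0_219 : List (ℕ × ℕ) := steps438 ++ steps439

theorem cat0_219_len : cat0_219.length = 512 := by rw [cat0_219, List.length_append, steps438_len, steps439_len]

theorem cat0_219_ok : cert.stepsOK 112128 cat0_219 = true ∧ ruleBound spec.length cat0_219 = true :=
  stepsOK_cat steps438_ok steps439_ok (by rw [steps438_len])

def cat0_220 : List (ℕ × ℕ) := steps440 ++ steps441

theorem cat0_220_len : cat0_220.length = 512 := by rw [cat0_220, List.length_append, steps440_len, steps441_len]

theorem cat0_220_ok : cert.stepsOK 112640 cat0_220 = true ∧ ruleBound spec.length cat0_220 = true :=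
  stepsOK_cat steps440_ok steps441_ok (by rw [steps440_len])

def cat0_221 : List (ℕ × ℕ) := steps442 ++ steps443

theorem cat0_221_len : cat0_221.length = 512 := by rw [cat0_221, List.length_append, steps442_len, steps443_len]

theorem cat0_221_ok : cert.stepsOK 113152 cat0_221 = true ∧ ruleBound spec.length cat0_221 = true :=
  stepsOK_cat steps442_ok steps443_ok (by rw [steps442_len])

def cat0_222 : List (ℕ × ℕ) := steps444 ++ steps445

theorem cat0_222_len : cat0_222.length = 512 := by rw [cat0_222, List.length_append, steps444_len, steps445_len]

theorem cat0_222_ok : cert.stepsOK 113664 cat0_222 = true ∧ ruleBound spec.length cat0_222 = true :=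
  stepsOK_cat steps444_ok steps445_ok (by rw [steps444_len])

def cat0_223 : List (ℕ × ℕ) := steps446 ++ steps447

theorem cat0_223_len : cat0_223.length = 512 := by rw [cat0_223, List.length_append, steps446_len, steps447_len]

theorem cat0_223_ok : cert.stepsOK 114176 cat0_223 = true ∧ ruleBound spec.length cat0_223 = true :=
  stepsOK_cat steps446_ok steps447_ok (by rw [steps446_len])

def cat0_224 : List (ℕ × ℕ) := steps448 ++ steps449

theorem cat0_224_len : cat0_224.length = 512 := by rw [cat0_224, List.length_append, steps448_len, steps449_len]

theorem cat0_224_ok : cert.stepsOK 114688 cat0_224 = true ∧ ruleBound spec.length cat0_224 = true :=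
  stepsOK_cat steps448_ok steps449_ok (by rw [steps448_len])

def cat0_225 : List (ℕ × ℕ) := steps450 ++ steps451

theorem cat0_225_len : cat0_225.length = 512 := by rw [cat0_225, List.length_append, steps450_len, steps451_len]

theorem cat0_225_ok : cert.stepsOK 115200 cat0_225 = true ∧ ruleBound spec.length cat0_225 = true :=
  stepsOK_cat steps450_ok steps451_ok (by rw [steps450_len])

def cat0_226 : List (ℕ × ℕ) := steps452 ++ steps453

theorem cat0_226_len : cat0_226.length = 512 := by rw [cat0_226, List.length_append, steps452_len, steps453_len]

theorem cat0_226_ok : cert.stepsOK 115712 cat0_226 = true ∧ ruleBound spec.length cat0_226 = true :=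
  stepsOK_cat steps452_ok steps453_ok (by rw [steps452_len])

def cat0_227 : List (ℕ × ℕ) := steps454 ++ steps455

theorem cat0_227_len : cat0_227.length = 512 := by rw [cat0_227, List.length_append, steps454_len, steps455_len]

theorem cat0_227_ok : cert.stepsOK 116224 cat0_227 = true ∧ ruleBound spec.length cat0_227 = true :=
  stepsOK_cat steps454_ok steps455_ok (by rw [steps454_len])

def cat0_228 : List (ℕ × ℕ) := steps456 ++ steps457

theorem cat0_228_len : cat0_228.length = 512 := by rw [cat0_228, List.length_append, steps456_len, steps457_len]

theorem cat0_228_ok : cert.stepsOK 116736 cat0_228 = true ∧ ruleBound spec.length cat0_228 = true :=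
  stepsOK_cat steps456_ok steps457_ok (by rw [steps456_len])

def cat0_229 : List (ℕ × ℕ) := steps458 ++ steps459

theorem cat0_229_len : cat0_229.length = 512 := by rw [cat0_229, List.length_append, steps458_len, steps459_len]

theorem cat0_229_ok : cert.stepsOK 117248 cat0_229 = true ∧ ruleBound spec.length cat0_229 = true :=
  stepsOK_cat steps458_ok steps459_ok (by rw [steps458_len])

def cat0_230 : List (ℕ × ℕ) := steps460 ++ steps461

theorem cat0_230_len : cat0_230.length = 512 := by rw [cat0_230, List.length_append, steps460_len, steps461_len]

theorem cat0_230_ok : cert.stepsOK 117760 cat0_230 = true ∧ ruleBound spec.length cat0_230 = true :=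
  stepsOK_cat steps460_ok steps461_ok (by rw [steps460_len])

def cat0_231 : List (ℕ × ℕ) := steps462 ++ steps463

theorem cat0_231_len : cat0_231.length = 512 := by rw [cat0_231, List.length_append, steps462_len, steps463_len]

theorem cat0_231_ok : cert.stepsOK 118272 cat0_231 = true ∧ ruleBound spec.length cat0_231 = true :=
  stepsOK_cat steps462_ok steps463_ok (by rw [steps462_len])

def cat0_232 : List (ℕ × ℕ) := steps464 ++ steps465

theorem cat0_232_len : cat0_232.length = 512 := by rw [cat0_232, List.length_append, steps464_len, steps465_len]

theorem cat0_232_ok : cert.stepsOK 118784 cat0_232 = true ∧ ruleBound spec.length cat0_232 = true :=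
  stepsOK_cat steps464_ok steps465_ok (by rw [steps464_len])

def cat0_233 : List (ℕ × ℕ) := steps466 ++ steps467

theorem cat0_233_len : cat0_233.length = 512 := by rw [cat0_233, List.length_append, steps466_len, steps467_len]

theorem cat0_233_ok : cert.stepsOK 119296 cat0_233 = true ∧ ruleBound spec.length cat0_233 = true :=
  stepsOK_cat steps466_ok steps467_ok (by rw [steps466_len])

def cat0_234 : List (ℕ × ℕ) := steps468 ++ steps469

theorem cat0_234_len : cat0_234.length = 512 := by rw [cat0_234, List.length_append, steps468_len, steps469_len]

theorem cat0_234_ok : cert.stepsOK 119808 cat0_234 = true ∧ ruleBound spec.length cat0_234 = true :=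
  stepsOK_cat steps468_ok steps469_ok (by rw [steps468_len])

def cat0_235 : List (ℕ × ℕ) := steps470 ++ steps471

theorem cat0_235_len : cat0_235.length = 512 := by rw [cat0_235, List.length_append, steps470_len, steps471_len]

theorem cat0_235_ok : cert.stepsOK 120320 cat0_235 = true ∧ ruleBound spec.length cat0_235 = true :=
  stepsOK_cat steps470_ok steps471_ok (by rw [steps470_len])

def cat0_236 : List (ℕ × ℕ) := steps472 ++ steps473

theorem cat0_236_len : cat0_236.length = 512 := by rw [cat0_236, List.length_append, steps472_len, steps473_len]

theorem cat0_236_ok : cert.stepsOK 120832 cat0_236 = true ∧ ruleBound spec.length cat0_236 = true :=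
  stepsOK_cat steps472_ok steps473_ok (by rw [steps472_len])

def cat0_237 : List (ℕ × ℕ) := steps474 ++ steps475

theorem cat0_237_len : cat0_237.length = 512 := by rw [cat0_237, List.length_append, steps474_len, steps475_len]

theorem cat0_237_ok : cert.stepsOK 121344 cat0_237 = true ∧ ruleBound spec.length cat0_237 = true :=
  stepsOK_cat steps474_ok steps475_ok (by rw [steps474_len])

def cat0_238 : List (ℕ × ℕ) := steps476 ++ steps477

theorem cat0_238_len : cat0_238.length = 512 := by rw [cat0_238, List.length_append, steps476_len, steps477_len]

theorem cat0_238_ok : cert.stepsOK 121856 cat0_238 = true ∧ ruleBound spec.length cat0_238 = true :=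
  stepsOK_cat steps476_ok steps477_ok (by rw [steps476_len])

def cat0_239 : List (ℕ × ℕ) := steps478 ++ steps479

theorem cat0_239_len : cat0_239.length = 512 := by rw [cat0_239, List.length_append, steps478_len, steps479_len]

theorem cat0_239_ok : cert.stepsOK 122368 cat0_239 = true ∧ ruleBound spec.length cat0_239 = true :=
  stepsOK_cat steps478_ok steps479_ok (by rw [steps478_len])

def cat0_240 : List (ℕ × ℕ) := steps480 ++ steps481

theorem cat0_240_len : cat0_240.length = 512 := by rw [cat0_240, List.length_append, steps480_len, steps481_len]

theorem cat0_240_ok : cert.stepsOK 122880 cat0_240 = true ∧ ruleBound spec.length cat0_240 = true :=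
  stepsOK_cat steps480_ok steps481_ok (by rw [steps480_len])

def cat0_241 : List (ℕ × ℕ) := steps482 ++ steps483

theorem cat0_241_len : cat0_241.length = 512 := by rw [cat0_241, List.length_append, steps482_len, steps483_len]

theorem cat0_241_ok : cert.stepsOK 123392 cat0_241 = true ∧ ruleBound spec.length cat0_241 = true :=
  stepsOK_cat steps482_ok steps483_ok (by rw [steps482_len])

def cat0_242 : List (ℕ × ℕ) := steps484 ++ steps485

theorem cat0_242_len : cat0_242.length = 512 := by rw [cat0_242, List.length_append, steps484_len, steps485_len]

theorem cat0_242_ok : cert.stepsOK 123904 cat0_242 = true ∧ ruleBound spec.length cat0_242 = true :=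
  stepsOK_cat steps484_ok steps485_ok (by rw [steps484_len])

def cat0_243 : List (ℕ × ℕ) := steps486 ++ steps487

theorem cat0_243_len : cat0_243.length = 512 := by rw [cat0_243, List.length_append, steps486_len, steps487_len]

theorem cat0_243_ok : cert.stepsOK 124416 cat0_243 = true ∧ ruleBound spec.length cat0_243 = true :=
  stepsOK_cat steps486_ok steps487_ok (by rw [steps486_len])

def cat0_244 : List (ℕ × ℕ) := steps488 ++ steps489

theorem cat0_244_len : cat0_244.length = 512 := by rw [cat0_244, List.length_append, steps488_len, steps489_len]

theorem cat0_244_ok : cert.stepsOK 124928 cat0_244 = true ∧ ruleBound spec.length cat0_244 = true :=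
  stepsOK_cat steps488_ok steps489_ok (by rw [steps488_len])

def cat0_245 : List (ℕ × ℕ) := steps490 ++ steps491

theorem cat0_245_len : cat0_245.length = 512 := by rw [cat0_245, List.length_append, steps490_len, steps491_len]

theorem cat0_245_ok : cert.stepsOK 125440 cat0_245 = true ∧ ruleBound spec.length cat0_245 = true :=
  stepsOK_cat steps490_ok steps491_ok (by rw [steps490_len])

def cat0_246 : List (ℕ × ℕ) := steps492 ++ steps493

theorem cat0_246_len : cat0_246.length = 512 := by rw [cat0_246, List.length_append, steps492_len, steps493_len]

theorem cat0_246_ok : cert.stepsOK 125952 cat0_246 = true ∧ ruleBound spec.length cat0_246 = true :=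
  stepsOK_cat steps492_ok steps493_ok (by rw [steps492_len])

def cat0_247 : List (ℕ × ℕ) := steps494 ++ steps495

theorem cat0_247_len : cat0_247.length = 512 := by rw [cat0_247, List.length_append, steps494_len, steps495_len]

theorem cat0_247_ok : cert.stepsOK 126464 cat0_247 = true ∧ ruleBound spec.length cat0_247 = true :=
  stepsOK_cat steps494_ok steps495_ok (by rw [steps494_len])

def cat0_248 : List (ℕ × ℕ) := steps496 ++ steps497

theorem cat0_248_len : cat0_248.length = 512 := by rw [cat0_248, List.length_append, steps496_len, steps497_len]

theorem cat0_248_ok : cert.stepsOK 126976 cat0_248 = true ∧ ruleBound spec.length cat0_248 = true :=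
  stepsOK_cat steps496_ok steps497_ok (by rw [steps496_len])

def cat0_249 : List (ℕ × ℕ) := steps498 ++ steps499

theorem cat0_249_len : cat0_249.length = 512 := by rw [cat0_249, List.length_append, steps498_len, steps499_len]

theorem cat0_249_ok : cert.stepsOK 127488 cat0_249 = true ∧ ruleBound spec.length cat0_249 = true :=
  stepsOK_cat steps498_ok steps499_ok (by rw [steps498_len])

def cat0_250 : List (ℕ × ℕ) := steps500 ++ steps501

theorem cat0_250_len : cat0_250.length = 512 := by rw [cat0_250, List.length_append, steps500_len, steps501_len]

theorem cat0_250_ok : cert.stepsOK 128000 cat0_250 = true ∧ ruleBound spec.length cat0_250 = true :=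
  stepsOK_cat steps500_ok steps501_ok (by rw [steps500_len])

def cat0_251 : List (ℕ × ℕ) := steps502 ++ steps503

theorem cat0_251_len : cat0_251.length = 512 := by rw [cat0_251, List.length_append, steps502_len, steps503_len]

theorem cat0_251_ok : cert.stepsOK 128512 cat0_251 = true ∧ ruleBound spec.length cat0_251 = true :=
  stepsOK_cat steps502_ok steps503_ok (by rw [steps502_len])

def cat0_252 : List (ℕ × ℕ) := steps504 ++ steps505

theorem cat0_252_len : cat0_252.length = 512 := by rw [cat0_252, List.length_append, steps504_len, steps505_len]

theorem cat0_252_ok : cert.stepsOK 129024 cat0_252 = true ∧ ruleBound spec.length cat0_252 = true :=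
  stepsOK_cat steps504_ok steps505_ok (by rw [steps504_len])

def cat0_253 : List (ℕ × ℕ) := steps506 ++ steps507

theorem cat0_253_len : cat0_253.length = 512 := by rw [cat0_253, List.length_append, steps506_len, steps507_len]

theorem cat0_253_ok : cert.stepsOK 129536 cat0_253 = true ∧ ruleBound spec.length cat0_253 = true :=
  stepsOK_cat steps506_ok steps507_ok (by rw [steps506_len])

def cat0_254 : List (ℕ × ℕ) := steps508 ++ steps509

theorem cat0_254_len : cat0_254.length = 512 := by rw [cat0_254, List.length_append, steps508_len, steps509_len]

theorem cat0_254_ok : cert.stepsOK 130048 cat0_254 = true ∧ ruleBound spec.length cat0_254 = true :=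
  stepsOK_cat steps508_ok steps509_ok (by rw [steps508_len])

def cat0_255 : List (ℕ × ℕ) := steps510 ++ steps511

theorem cat0_255_len : cat0_255.length = 512 := by rw [cat0_255, List.length_append, steps510_len, steps511_len]

theorem cat0_255_ok : cert.stepsOK 130560 cat0_255 = true ∧ ruleBound spec.length cat0_255 = true :=
  stepsOK_cat steps510_ok steps511_ok (by rw [steps510_len])

def cat0_256 : List (ℕ × ℕ) := steps512 ++ steps513

theorem cat0_256_len : cat0_256.length = 512 := by rw [cat0_256, List.length_append, steps512_len, steps513_len]

theorem cat0_256_ok : cert.stepsOK 131072 cat0_256 = true ∧ ruleBound spec.length cat0_256 = true :=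
  stepsOK_cat steps512_ok steps513_ok (by rw [steps512_len])

def cat0_257 : List (ℕ × ℕ) := steps514 ++ steps515

theorem cat0_257_len : cat0_257.length = 512 := by rw [cat0_257, List.length_append, steps514_len, steps515_len]

theorem cat0_257_ok : cert.stepsOK 131584 cat0_257 = true ∧ ruleBound spec.length cat0_257 = true :=
  stepsOK_cat steps514_ok steps515_ok (by rw [steps514_len])

def cat0_258 : List (ℕ × ℕ) := steps516 ++ steps517

theorem cat0_258_len : cat0_258.length = 512 := by rw [cat0_258, List.length_append, steps516_len, steps517_len]

theorem cat0_258_ok : cert.stepsOK 132096 cat0_258 = true ∧ ruleBound spec.length cat0_258 = true :=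
  stepsOK_cat steps516_ok steps517_ok (by rw [steps516_len])

def cat0_259 : List (ℕ × ℕ) := steps518 ++ steps519

theorem cat0_259_len : cat0_259.length = 512 := by rw [cat0_259, List.length_append, steps518_len, steps519_len]

theorem cat0_259_ok : cert.stepsOK 132608 cat0_259 = true ∧ ruleBound spec.length cat0_259 = true :=
  stepsOK_cat steps518_ok steps519_ok (by rw [steps518_len])

def cat0_260 : List (ℕ × ℕ) := steps520 ++ steps521

theorem cat0_260_len : cat0_260.length = 512 := by rw [cat0_260, List.length_append, steps520_len, steps521_len]

theorem cat0_260_ok : cert.stepsOK 133120 cat0_260 = true ∧ ruleBound spec.length cat0_260 = true :=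
  stepsOK_cat steps520_ok steps521_ok (by rw [steps520_len])

def cat0_261 : List (ℕ × ℕ) := steps522 ++ steps523

theorem cat0_261_len : cat0_261.length = 512 := by rw [cat0_261, List.length_append, steps522_len, steps523_len]

theorem cat0_261_ok : cert.stepsOK 133632 cat0_261 = true ∧ ruleBound spec.length cat0_261 = true :=
  stepsOK_cat steps522_ok steps523_ok (by rw [steps522_len])

def cat0_262 : List (ℕ × ℕ) := steps524 ++ steps525

theorem cat0_262_len : cat0_262.length = 512 := by rw [cat0_262, List.length_append, steps524_len, steps525_len]

theorem cat0_262_ok : cert.stepsOK 134144 cat0_262 = true ∧ ruleBound spec.length cat0_262 = true :=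
  stepsOK_cat steps524_ok steps525_ok (by rw [steps524_len])

def cat0_263 : List (ℕ × ℕ) := steps526 ++ steps527

theorem cat0_263_len : cat0_263.length = 512 := by rw [cat0_263, List.length_append, steps526_len, steps527_len]

theorem cat0_263_ok : cert.stepsOK 134656 cat0_263 = true ∧ ruleBound spec.length cat0_263 = true :=
  stepsOK_cat steps526_ok steps527_ok (by rw [steps526_len])

def cat0_264 : List (ℕ × ℕ) := steps528 ++ steps529

theorem cat0_264_len : cat0_264.length = 512 := by rw [cat0_264, List.length_append, steps528_len, steps529_len]

theorem cat0_264_ok : cert.stepsOK 135168 cat0_264 = true ∧ ruleBound spec.length cat0_264 = true :=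
  stepsOK_cat steps528_ok steps529_ok (by rw [steps528_len])

def cat0_265 : List (ℕ × ℕ) := steps530 ++ steps531

theorem cat0_265_len : cat0_265.length = 512 := by rw [cat0_265, List.length_append, steps530_len, steps531_len]

theorem cat0_265_ok : cert.stepsOK 135680 cat0_265 = true ∧ ruleBound spec.length cat0_265 = true :=
  stepsOK_cat steps530_ok steps531_ok (by rw [steps530_len])

def cat0_266 : List (ℕ × ℕ) := steps532 ++ steps533

theorem cat0_266_len : cat0_266.length = 512 := by rw [cat0_266, List.length_append, steps532_len, steps533_len]

theorem cat0_266_ok : cert.stepsOK 136192 cat0_266 = true ∧ ruleBound spec.length cat0_266 = true :=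
  stepsOK_cat steps532_ok steps533_ok (by rw [steps532_len])

def cat0_267 : List (ℕ × ℕ) := steps534 ++ steps535

theorem cat0_267_len : cat0_267.length = 512 := by rw [cat0_267, List.length_append, steps534_len, steps535_len]

theorem cat0_267_ok : cert.stepsOK 136704 cat0_267 = true ∧ ruleBound spec.length cat0_267 = true :=
  stepsOK_cat steps534_ok steps535_ok (by rw [steps534_len])

def cat0_268 : List (ℕ × ℕ) := steps536 ++ steps537

theorem cat0_268_len : cat0_268.length = 512 := by rw [cat0_268, List.length_append, steps536_len, steps537_len]

theorem cat0_268_ok : cert.stepsOK 137216 cat0_268 = true ∧ ruleBound spec.length cat0_268 = true :=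
  stepsOK_cat steps536_ok steps537_ok (by rw [steps536_len])

def cat0_269 : List (ℕ × ℕ) := steps538 ++ steps539

theorem cat0_269_len : cat0_269.length = 512 := by rw [cat0_269, List.length_append, steps538_len, steps539_len]

theorem cat0_269_ok : cert.stepsOK 137728 cat0_269 = true ∧ ruleBound spec.length cat0_269 = true :=
  stepsOK_cat steps538_ok steps539_ok (by rw [steps538_len])

def cat0_270 : List (ℕ × ℕ) := steps540 ++ steps541

theorem cat0_270_len : cat0_270.length = 512 := by rw [cat0_270, List.length_append, steps540_len, steps541_len]

theorem cat0_270_ok : cert.stepsOK 138240 cat0_270 = true ∧ ruleBound spec.length cat0_270 = true :=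
  stepsOK_cat steps540_ok steps541_ok (by rw [steps540_len])

def cat0_271 : List (ℕ × ℕ) := steps542 ++ steps543

theorem cat0_271_len : cat0_271.length = 512 := by rw [cat0_271, List.length_append, steps542_len, steps543_len]

theorem cat0_271_ok : cert.stepsOK 138752 cat0_271 = true ∧ ruleBound spec.length cat0_271 = true :=
  stepsOK_cat steps542_ok steps543_ok (by rw [steps542_len])

def cat0_272 : List (ℕ × ℕ) := steps544 ++ steps545

theorem cat0_272_len : cat0_272.length = 512 := by rw [cat0_272, List.length_append, steps544_len, steps545_len]

theorem cat0_272_ok : cert.stepsOK 139264 cat0_272 = true ∧ ruleBound spec.length cat0_272 = true :=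
  stepsOK_cat steps544_ok steps545_ok (by rw [steps544_len])

def cat0_273 : List (ℕ × ℕ) := steps546 ++ steps547

theorem cat0_273_len : cat0_273.length = 512 := by rw [cat0_273, List.length_append, steps546_len, steps547_len]

theorem cat0_273_ok : cert.stepsOK 139776 cat0_273 = true ∧ ruleBound spec.length cat0_273 = true :=
  stepsOK_cat steps546_ok steps547_ok (by rw [steps546_len])

def cat0_274 : List (ℕ × ℕ) := steps548 ++ steps549

theorem cat0_274_len : cat0_274.length = 512 := by rw [cat0_274, List.length_append, steps548_len, steps549_len]

theorem cat0_274_ok : cert.stepsOK 140288 cat0_274 = true ∧ ruleBound spec.length cat0_274 = true :=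
  stepsOK_cat steps548_ok steps549_ok (by rw [steps548_len])

def cat0_275 : List (ℕ × ℕ) := steps550 ++ steps551

theorem cat0_275_len : cat0_275.length = 512 := by rw [cat0_275, List.length_append, steps550_len, steps551_len]

theorem cat0_275_ok : cert.stepsOK 140800 cat0_275 = true ∧ ruleBound spec.length cat0_275 = true :=
  stepsOK_cat steps550_ok steps551_ok (by rw [steps550_len])

def cat0_276 : List (ℕ × ℕ) := steps552 ++ steps553

theorem cat0_276_len : cat0_276.length = 512 := by rw [cat0_276, List.length_append, steps552_len, steps553_len]

theorem cat0_276_ok : cert.stepsOK 141312 cat0_276 = true ∧ ruleBound spec.length cat0_276 = true :=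
  stepsOK_cat steps552_ok steps553_ok (by rw [steps552_len])

def cat0_277 : List (ℕ × ℕ) := steps554 ++ steps555

theorem cat0_277_len : cat0_277.length = 512 := by rw [cat0_277, List.length_append, steps554_len, steps555_len]

theorem cat0_277_ok : cert.stepsOK 141824 cat0_277 = true ∧ ruleBound spec.length cat0_277 = true :=
  stepsOK_cat steps554_ok steps555_ok (by rw [steps554_len])

def cat0_278 : List (ℕ × ℕ) := steps556 ++ steps557

theorem cat0_278_len : cat0_278.length = 512 := by rw [cat0_278, List.length_append, steps556_len, steps557_len]

theorem cat0_278_ok : cert.stepsOK 142336 cat0_278 = true ∧ ruleBound spec.length cat0_278 = true :=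
  stepsOK_cat steps556_ok steps557_ok (by rw [steps556_len])

def cat0_279 : List (ℕ × ℕ) := steps558 ++ steps559

theorem cat0_279_len : cat0_279.length = 512 := by rw [cat0_279, List.length_append, steps558_len, steps559_len]

theorem cat0_279_ok : cert.stepsOK 142848 cat0_279 = true ∧ ruleBound spec.length cat0_279 = true :=
  stepsOK_cat steps558_ok steps559_ok (by rw [steps558_len])

def cat0_280 : List (ℕ × ℕ) := steps560 ++ steps561

theorem cat0_280_len : cat0_280.length = 512 := by rw [cat0_280, List.length_append, steps560_len, steps561_len]

theorem cat0_280_ok : cert.stepsOK 143360 cat0_280 = true ∧ ruleBound spec.length cat0_280 = true :=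
  stepsOK_cat steps560_ok steps561_ok (by rw [steps560_len])

def cat0_281 : List (ℕ × ℕ) := steps562 ++ steps563

theorem cat0_281_len : cat0_281.length = 512 := by rw [cat0_281, List.length_append, steps562_len, steps563_len]

theorem cat0_281_ok : cert.stepsOK 143872 cat0_281 = true ∧ ruleBound spec.length cat0_281 = true :=
  stepsOK_cat steps562_ok steps563_ok (by rw [steps562_len])

def cat0_282 : List (ℕ × ℕ) := steps564 ++ steps565

theorem cat0_282_len : cat0_282.length = 512 := by rw [cat0_282, List.length_append, steps564_len, steps565_len]

theorem cat0_282_ok : cert.stepsOK 144384 cat0_282 = true ∧ ruleBound spec.length cat0_282 = true :=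
  stepsOK_cat steps564_ok steps565_ok (by rw [steps564_len])

def cat0_283 : List (ℕ × ℕ) := steps566 ++ steps567

theorem cat0_283_len : cat0_283.length = 512 := by rw [cat0_283, List.length_append, steps566_len, steps567_len]

theorem cat0_283_ok : cert.stepsOK 144896 cat0_283 = true ∧ ruleBound spec.length cat0_283 = true :=
  stepsOK_cat steps566_ok steps567_ok (by rw [steps566_len])

def cat0_284 : List (ℕ × ℕ) := steps568 ++ steps569

theorem cat0_284_len : cat0_284.length = 512 := by rw [cat0_284, List.length_append, steps568_len, steps569_len]

theorem cat0_284_ok : cert.stepsOK 145408 cat0_284 = true ∧ ruleBound spec.length cat0_284 = true :=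
  stepsOK_cat steps568_ok steps569_ok (by rw [steps568_len])

def cat0_285 : List (ℕ × ℕ) := steps570 ++ steps571

theorem cat0_285_len : cat0_285.length = 512 := by rw [cat0_285, List.length_append, steps570_len, steps571_len]

theorem cat0_285_ok : cert.stepsOK 145920 cat0_285 = true ∧ ruleBound spec.length cat0_285 = true :=
  stepsOK_cat steps570_ok steps571_ok (by rw [steps570_len])

def cat0_286 : List (ℕ × ℕ) := steps572 ++ steps573

theorem cat0_286_len : cat0_286.length = 512 := by rw [cat0_286, List.length_append, steps572_len, steps573_len]

theorem cat0_286_ok : cert.stepsOK 146432 cat0_286 = true ∧ ruleBound spec.length cat0_286 = true :=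
  stepsOK_cat steps572_ok steps573_ok (by rw [steps572_len])

def cat0_287 : List (ℕ × ℕ) := steps574 ++ steps575

theorem cat0_287_len : cat0_287.length = 512 := by rw [cat0_287, List.length_append, steps574_len, steps575_len]

theorem cat0_287_ok : cert.stepsOK 146944 cat0_287 = true ∧ ruleBound spec.length cat0_287 = true :=
  stepsOK_cat steps574_ok steps575_ok (by rw [steps574_len])

def cat0_288 : List (ℕ × ℕ) := steps576 ++ steps577

theorem cat0_288_len : cat0_288.length = 512 := by rw [cat0_288, List.length_append, steps576_len, steps577_len]

theorem cat0_288_ok : cert.stepsOK 147456 cat0_288 = true ∧ ruleBound spec.length cat0_288 = true :=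
  stepsOK_cat steps576_ok steps577_ok (by rw [steps576_len])

def cat0_289 : List (ℕ × ℕ) := steps578 ++ steps579

theorem cat0_289_len : cat0_289.length = 512 := by rw [cat0_289, List.length_append, steps578_len, steps579_len]

theorem cat0_289_ok : cert.stepsOK 147968 cat0_289 = true ∧ ruleBound spec.length cat0_289 = true :=
  stepsOK_cat steps578_ok steps579_ok (by rw [steps578_len])

def cat0_290 : List (ℕ × ℕ) := steps580 ++ steps581

theorem cat0_290_len : cat0_290.length = 512 := by rw [cat0_290, List.length_append, steps580_len, steps581_len]

theorem cat0_290_ok : cert.stepsOK 148480 cat0_290 = true ∧ ruleBound spec.length cat0_290 = true :=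
  stepsOK_cat steps580_ok steps581_ok (by rw [steps580_len])

def cat0_291 : List (ℕ × ℕ) := steps582 ++ steps583

theorem cat0_291_len : cat0_291.length = 512 := by rw [cat0_291, List.length_append, steps582_len, steps583_len]

theorem cat0_291_ok : cert.stepsOK 148992 cat0_291 = true ∧ ruleBound spec.length cat0_291 = true :=
  stepsOK_cat steps582_ok steps583_ok (by rw [steps582_len])

def cat0_292 : List (ℕ × ℕ) := steps584 ++ steps585

theorem cat0_292_len : cat0_292.length = 512 := by rw [cat0_292, List.length_append, steps584_len, steps585_len]

theorem cat0_292_ok : cert.stepsOK 149504 cat0_292 = true ∧ ruleBound spec.length cat0_292 = true :=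
  stepsOK_cat steps584_ok steps585_ok (by rw [steps584_len])

def cat0_293 : List (ℕ × ℕ) := steps586 ++ steps587

theorem cat0_293_len : cat0_293.length = 512 := by rw [cat0_293, List.length_append, steps586_len, steps587_len]

theorem cat0_293_ok : cert.stepsOK 150016 cat0_293 = true ∧ ruleBound spec.length cat0_293 = true :=
  stepsOK_cat steps586_ok steps587_ok (by rw [steps586_len])

def cat0_294 : List (ℕ × ℕ) := steps588 ++ steps589

theorem cat0_294_len : cat0_294.length = 512 := by rw [cat0_294, List.length_append, steps588_len, steps589_len]

theorem cat0_294_ok : cert.stepsOK 150528 cat0_294 = true ∧ ruleBound spec.length cat0_294 = true :=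
  stepsOK_cat steps588_ok steps589_ok (by rw [steps588_len])

def cat0_295 : List (ℕ × ℕ) := steps590 ++ steps591

theorem cat0_295_len : cat0_295.length = 512 := by rw [cat0_295, List.length_append, steps590_len, steps591_len]

theorem cat0_295_ok : cert.stepsOK 151040 cat0_295 = true ∧ ruleBound spec.length cat0_295 = true :=
  stepsOK_cat steps590_ok steps591_ok (by rw [steps590_len])

def cat0_296 : List (ℕ × ℕ) := steps592 ++ steps593

theorem cat0_296_len : cat0_296.length = 512 := by rw [cat0_296, List.length_append, steps592_len, steps593_len]

theorem cat0_296_ok : cert.stepsOK 151552 cat0_296 = true ∧ ruleBound spec.length cat0_296 = true :=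
  stepsOK_cat steps592_ok steps593_ok (by rw [steps592_len])

def cat0_297 : List (ℕ × ℕ) := steps594 ++ steps595

theorem cat0_297_len : cat0_297.length = 512 := by rw [cat0_297, List.length_append, steps594_len, steps595_len]

theorem cat0_297_ok : cert.stepsOK 152064 cat0_297 = true ∧ ruleBound spec.length cat0_297 = true :=
  stepsOK_cat steps594_ok steps595_ok (by rw [steps594_len])

def cat0_298 : List (ℕ × ℕ) := steps596 ++ steps597

theorem cat0_298_len : cat0_298.length = 512 := by rw [cat0_298, List.length_append, steps596_len, steps597_len]

theorem cat0_298_ok : cert.stepsOK 152576 cat0_298 = true ∧ ruleBound spec.length cat0_298 = true :=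
  stepsOK_cat steps596_ok steps597_ok (by rw [steps596_len])

def cat0_299 : List (ℕ × ℕ) := steps598 ++ steps599

theorem cat0_299_len : cat0_299.length = 512 := by rw [cat0_299, List.length_append, steps598_len, steps599_len]

theorem cat0_299_ok : cert.stepsOK 153088 cat0_299 = true ∧ ruleBound spec.length cat0_299 = true :=
  stepsOK_cat steps598_ok steps599_ok (by rw [steps598_len])

def cat0_300 : List (ℕ × ℕ) := steps600 ++ steps601

theorem cat0_300_len : cat0_300.length = 512 := by rw [cat0_300, List.length_append, steps600_len, steps601_len]

theorem cat0_300_ok : cert.stepsOK 153600 cat0_300 = true ∧ ruleBound spec.length cat0_300 = true :=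
  stepsOK_cat steps600_ok steps601_ok (by rw [steps600_len])

def cat0_301 : List (ℕ × ℕ) := steps602 ++ steps603

theorem cat0_301_len : cat0_301.length = 512 := by rw [cat0_301, List.length_append, steps602_len, steps603_len]

theorem cat0_301_ok : cert.stepsOK 154112 cat0_301 = true ∧ ruleBound spec.length cat0_301 = true :=
  stepsOK_cat steps602_ok steps603_ok (by rw [steps602_len])

def cat0_302 : List (ℕ × ℕ) := steps604 ++ steps605

theorem cat0_302_len : cat0_302.length = 512 := by rw [cat0_302, List.length_append, steps604_len, steps605_len]

theorem cat0_302_ok : cert.stepsOK 154624 cat0_302 = true ∧ ruleBound spec.length cat0_302 = true :=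
  stepsOK_cat steps604_ok steps605_ok (by rw [steps604_len])

def cat0_303 : List (ℕ × ℕ) := steps606 ++ steps607

theorem cat0_303_len : cat0_303.length = 512 := by rw [cat0_303, List.length_append, steps606_len, steps607_len]

theorem cat0_303_ok : cert.stepsOK 155136 cat0_303 = true ∧ ruleBound spec.length cat0_303 = true :=
  stepsOK_cat steps606_ok steps607_ok (by rw [steps606_len])

def cat0_304 : List (ℕ × ℕ) := steps608 ++ steps609

theorem cat0_304_len : cat0_304.length = 512 := by rw [cat0_304, List.length_append, steps608_len, steps609_len]

theorem cat0_304_ok : cert.stepsOK 155648 cat0_304 = true ∧ ruleBound spec.length cat0_304 = true :=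
  stepsOK_cat steps608_ok steps609_ok (by rw [steps608_len])

def cat0_305 : List (ℕ × ℕ) := steps610 ++ steps611

theorem cat0_305_len : cat0_305.length = 512 := by rw [cat0_305, List.length_append, steps610_len, steps611_len]

theorem cat0_305_ok : cert.stepsOK 156160 cat0_305 = true ∧ ruleBound spec.length cat0_305 = true :=
  stepsOK_cat steps610_ok steps611_ok (by rw [steps610_len])

def cat0_306 : List (ℕ × ℕ) := steps612 ++ steps613

theorem cat0_306_len : cat0_306.length = 512 := by rw [cat0_306, List.length_append, steps612_len, steps613_len]

theorem cat0_306_ok : cert.stepsOK 156672 cat0_306 = true ∧ ruleBound spec.length cat0_306 = true :=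
  stepsOK_cat steps612_ok steps613_ok (by rw [steps612_len])

def cat0_307 : List (ℕ × ℕ) := steps614 ++ steps615

theorem cat0_307_len : cat0_307.length = 512 := by rw [cat0_307, List.length_append, steps614_len, steps615_len]

theorem cat0_307_ok : cert.stepsOK 157184 cat0_307 = true ∧ ruleBound spec.length cat0_307 = true :=
  stepsOK_cat steps614_ok steps615_ok (by rw [steps614_len])

def cat0_308 : List (ℕ × ℕ) := steps616 ++ steps617

theorem cat0_308_len : cat0_308.length = 512 := by rw [cat0_308, List.length_append, steps616_len, steps617_len]

theorem cat0_308_ok : cert.stepsOK 157696 cat0_308 = true ∧ ruleBound spec.length cat0_308 = true :=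
  stepsOK_cat steps616_ok steps617_ok (by rw [steps616_len])

def cat0_309 : List (ℕ × ℕ) := steps618 ++ steps619

theorem cat0_309_len : cat0_309.length = 512 := by rw [cat0_309, List.length_append, steps618_len, steps619_len]

theorem cat0_309_ok : cert.stepsOK 158208 cat0_309 = true ∧ ruleBound spec.length cat0_309 = true :=
  stepsOK_cat steps618_ok steps619_ok (by rw [steps618_len])

def cat0_310 : List (ℕ × ℕ) := steps620 ++ steps621

theorem cat0_310_len : cat0_310.length = 512 := by rw [cat0_310, List.length_append, steps620_len, steps621_len]

theorem cat0_310_ok : cert.stepsOK 158720 cat0_310 = true ∧ ruleBound spec.length cat0_310 = true :=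
  stepsOK_cat steps620_ok steps621_ok (by rw [steps620_len])

def cat0_311 : List (ℕ × ℕ) := steps622 ++ steps623

theorem cat0_311_len : cat0_311.length = 512 := by rw [cat0_311, List.length_append, steps622_len, steps623_len]

theorem cat0_311_ok : cert.stepsOK 159232 cat0_311 = true ∧ ruleBound spec.length cat0_311 = true :=
  stepsOK_cat steps622_ok steps623_ok (by rw [steps622_len])

def cat0_312 : List (ℕ × ℕ) := steps624 ++ steps625

theorem cat0_312_len : cat0_312.length = 512 := by rw [cat0_312, List.length_append, steps624_len, steps625_len]

theorem cat0_312_ok : cert.stepsOK 159744 cat0_312 = true ∧ ruleBound spec.length cat0_312 = true :=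
  stepsOK_cat steps624_ok steps625_ok (by rw [steps624_len])

def cat0_313 : List (ℕ × ℕ) := steps626 ++ steps627

theorem cat0_313_len : cat0_313.length = 512 := by rw [cat0_313, List.length_append, steps626_len, steps627_len]

theorem cat0_313_ok : cert.stepsOK 160256 cat0_313 = true ∧ ruleBound spec.length cat0_313 = true :=
  stepsOK_cat steps626_ok steps627_ok (by rw [steps626_len])

def cat0_314 : List (ℕ × ℕ) := steps628 ++ steps629

theorem cat0_314_len : cat0_314.length = 512 := by rw [cat0_314, List.length_append, steps628_len, steps629_len]

theorem cat0_314_ok : cert.stepsOK 160768 cat0_314 = true ∧ ruleBound spec.length cat0_314 = true :=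
  stepsOK_cat steps628_ok steps629_ok (by rw [steps628_len])

def cat0_315 : List (ℕ × ℕ) := steps630 ++ steps631

theorem cat0_315_len : cat0_315.length = 512 := by rw [cat0_315, List.length_append, steps630_len, steps631_len]

theorem cat0_315_ok : cert.stepsOK 161280 cat0_315 = true ∧ ruleBound spec.length cat0_315 = true :=
  stepsOK_cat steps630_ok steps631_ok (by rw [steps630_len])

def cat0_316 : List (ℕ × ℕ) := steps632 ++ steps633

theorem cat0_316_len : cat0_316.length = 512 := by rw [cat0_316, List.length_append, steps632_len, steps633_len]

theorem cat0_316_ok : cert.stepsOK 161792 cat0_316 = true ∧ ruleBound spec.length cat0_316 = true :=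
  stepsOK_cat steps632_ok steps633_ok (by rw [steps632_len])

def cat0_317 : List (ℕ × ℕ) := steps634 ++ steps635

theorem cat0_317_len : cat0_317.length = 512 := by rw [cat0_317, List.length_append, steps634_len, steps635_len]

theorem cat0_317_ok : cert.stepsOK 162304 cat0_317 = true ∧ ruleBound spec.length cat0_317 = true :=
  stepsOK_cat steps634_ok steps635_ok (by rw [steps634_len])

def cat0_318 : List (ℕ × ℕ) := steps636 ++ steps637

theorem cat0_318_len : cat0_318.length = 512 := by rw [cat0_318, List.length_append, steps636_len, steps637_len]

theorem cat0_318_ok : cert.stepsOK 162816 cat0_318 = true ∧ ruleBound spec.length cat0_318 = true :=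
  stepsOK_cat steps636_ok steps637_ok (by rw [steps636_len])

def cat0_319 : List (ℕ × ℕ) := steps638 ++ steps639

theorem cat0_319_len : cat0_319.length = 512 := by rw [cat0_319, List.length_append, steps638_len, steps639_len]

theorem cat0_319_ok : cert.stepsOK 163328 cat0_319 = true ∧ ruleBound spec.length cat0_319 = true :=
  stepsOK_cat steps638_ok steps639_ok (by rw [steps638_len])

def cat0_320 : List (ℕ × ℕ) := steps640 ++ steps641

theorem cat0_320_len : cat0_320.length = 512 := by rw [cat0_320, List.length_append, steps640_len, steps641_len]

theorem cat0_320_ok : cert.stepsOK 163840 cat0_320 = true ∧ ruleBound spec.length cat0_320 = true :=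
  stepsOK_cat steps640_ok steps641_ok (by rw [steps640_len])

def cat0_321 : List (ℕ × ℕ) := steps642 ++ steps643

theorem cat0_321_len : cat0_321.length = 512 := by rw [cat0_321, List.length_append, steps642_len, steps643_len]

theorem cat0_321_ok : cert.stepsOK 164352 cat0_321 = true ∧ ruleBound spec.length cat0_321 = true :=
  stepsOK_cat steps642_ok steps643_ok (by rw [steps642_len])

def cat0_322 : List (ℕ × ℕ) := steps644 ++ steps645

theorem cat0_322_len : cat0_322.length = 512 := by rw [cat0_322, List.length_append, steps644_len, steps645_len]

theorem cat0_322_ok : cert.stepsOK 164864 cat0_322 = true ∧ ruleBound spec.length cat0_322 = true :=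
  stepsOK_cat steps644_ok steps645_ok (by rw [steps644_len])

def cat0_323 : List (ℕ × ℕ) := steps646 ++ steps647

theorem cat0_323_len : cat0_323.length = 512 := by rw [cat0_323, List.length_append, steps646_len, steps647_len]

theorem cat0_323_ok : cert.stepsOK 165376 cat0_323 = true ∧ ruleBound spec.length cat0_323 = true :=
  stepsOK_cat steps646_ok steps647_ok (by rw [steps646_len])

def cat0_324 : List (ℕ × ℕ) := steps648 ++ steps649

theorem cat0_324_len : cat0_324.length = 512 := by rw [cat0_324, List.length_append, steps648_len, steps649_len]

theorem cat0_324_ok : cert.stepsOK 165888 cat0_324 = true ∧ ruleBound spec.length cat0_324 = true :=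
  stepsOK_cat steps648_ok steps649_ok (by rw [steps648_len])

def cat0_325 : List (ℕ × ℕ) := steps650 ++ steps651

theorem cat0_325_len : cat0_325.length = 512 := by rw [cat0_325, List.length_append, steps650_len, steps651_len]

theorem cat0_325_ok : cert.stepsOK 166400 cat0_325 = true ∧ ruleBound spec.length cat0_325 = true :=
  stepsOK_cat steps650_ok steps651_ok (by rw [steps650_len])

def cat0_326 : List (ℕ × ℕ) := steps652 ++ steps653

theorem cat0_326_len : cat0_326.length = 512 := by rw [cat0_326, List.length_append, steps652_len, steps653_len]

theorem cat0_326_ok : cert.stepsOK 166912 cat0_326 = true ∧ ruleBound spec.length cat0_326 = true :=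
  stepsOK_cat steps652_ok steps653_ok (by rw [steps652_len])

def cat0_327 : List (ℕ × ℕ) := steps654 ++ steps655

theorem cat0_327_len : cat0_327.length = 512 := by rw [cat0_327, List.length_append, steps654_len, steps655_len]

theorem cat0_327_ok : cert.stepsOK 167424 cat0_327 = true ∧ ruleBound spec.length cat0_327 = true :=
  stepsOK_cat steps654_ok steps655_ok (by rw [steps654_len])

def cat0_328 : List (ℕ × ℕ) := steps656 ++ steps657

theorem cat0_328_len : cat0_328.length = 512 := by rw [cat0_328, List.length_append, steps656_len, steps657_len]

theorem cat0_328_ok : cert.stepsOK 167936 cat0_328 = true ∧ ruleBound spec.length cat0_328 = true :=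
  stepsOK_cat steps656_ok steps657_ok (by rw [steps656_len])

def cat0_329 : List (ℕ × ℕ) := steps658 ++ steps659

theorem cat0_329_len : cat0_329.length = 512 := by rw [cat0_329, List.length_append, steps658_len, steps659_len]

theorem cat0_329_ok : cert.stepsOK 168448 cat0_329 = true ∧ ruleBound spec.length cat0_329 = true :=
  stepsOK_cat steps658_ok steps659_ok (by rw [steps658_len])

def cat0_330 : List (ℕ × ℕ) := steps660 ++ steps661

theorem cat0_330_len : cat0_330.length = 512 := by rw [cat0_330, List.length_append, steps660_len, steps661_len]

theorem cat0_330_ok : cert.stepsOK 168960 cat0_330 = true ∧ ruleBound spec.length cat0_330 = true :=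
  stepsOK_cat steps660_ok steps661_ok (by rw [steps660_len])

def cat0_331 : List (ℕ × ℕ) := steps662 ++ steps663

theorem cat0_331_len : cat0_331.length = 512 := by rw [cat0_331, List.length_append, steps662_len, steps663_len]

theorem cat0_331_ok : cert.stepsOK 169472 cat0_331 = true ∧ ruleBound spec.length cat0_331 = true :=
  stepsOK_cat steps662_ok steps663_ok (by rw [steps662_len])

def cat0_332 : List (ℕ × ℕ) := steps664 ++ steps665

theorem cat0_332_len : cat0_332.length = 512 := by rw [cat0_332, List.length_append, steps664_len, steps665_len]

theorem cat0_332_ok : cert.stepsOK 169984 cat0_332 = true ∧ ruleBound spec.length cat0_332 = true :=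
  stepsOK_cat steps664_ok steps665_ok (by rw [steps664_len])

def cat0_333 : List (ℕ × ℕ) := steps666 ++ steps667

theorem cat0_333_len : cat0_333.length = 512 := by rw [cat0_333, List.length_append, steps666_len, steps667_len]

theorem cat0_333_ok : cert.stepsOK 170496 cat0_333 = true ∧ ruleBound spec.length cat0_333 = true :=
  stepsOK_cat steps666_ok steps667_ok (by rw [steps666_len])

def cat0_334 : List (ℕ × ℕ) := steps668 ++ steps669

theorem cat0_334_len : cat0_334.length = 512 := by rw [cat0_334, List.length_append, steps668_len, steps669_len]

theorem cat0_334_ok : cert.stepsOK 171008 cat0_334 = true ∧ ruleBound spec.length cat0_334 = true :=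
  stepsOK_cat steps668_ok steps669_ok (by rw [steps668_len])

def cat0_335 : List (ℕ × ℕ) := steps670 ++ steps671

theorem cat0_335_len : cat0_335.length = 512 := by rw [cat0_335, List.length_append, steps670_len, steps671_len]

theorem cat0_335_ok : cert.stepsOK 171520 cat0_335 = true ∧ ruleBound spec.length cat0_335 = true :=
  stepsOK_cat steps670_ok steps671_ok (by rw [steps670_len])

def cat0_336 : List (ℕ × ℕ) := steps672 ++ steps673

theorem cat0_336_len : cat0_336.length = 512 := by rw [cat0_336, List.length_append, steps672_len, steps673_len]

theorem cat0_336_ok : cert.stepsOK 172032 cat0_336 = true ∧ ruleBound spec.length cat0_336 = true :=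
  stepsOK_cat steps672_ok steps673_ok (by rw [steps672_len])

def cat0_337 : List (ℕ × ℕ) := steps674 ++ steps675

theorem cat0_337_len : cat0_337.length = 512 := by rw [cat0_337, List.length_append, steps674_len, steps675_len]

theorem cat0_337_ok : cert.stepsOK 172544 cat0_337 = true ∧ ruleBound spec.length cat0_337 = true :=
  stepsOK_cat steps674_ok steps675_ok (by rw [steps674_len])

def cat0_338 : List (ℕ × ℕ) := steps676 ++ steps677

theorem cat0_338_len : cat0_338.length = 512 := by rw [cat0_338, List.length_append, steps676_len, steps677_len]

theorem cat0_338_ok : cert.stepsOK 173056 cat0_338 = true ∧ ruleBound spec.length cat0_338 = true :=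
  stepsOK_cat steps676_ok steps677_ok (by rw [steps676_len])

def cat0_339 : List (ℕ × ℕ) := steps678 ++ steps679

theorem cat0_339_len : cat0_339.length = 512 := by rw [cat0_339, List.length_append, steps678_len, steps679_len]

theorem cat0_339_ok : cert.stepsOK 173568 cat0_339 = true ∧ ruleBound spec.length cat0_339 = true :=
  stepsOK_cat steps678_ok steps679_ok (by rw [steps678_len])

def cat0_340 : List (ℕ × ℕ) := steps680 ++ steps681

theorem cat0_340_len : cat0_340.length = 512 := by rw [cat0_340, List.length_append, steps680_len, steps681_len]

theorem cat0_340_ok : cert.stepsOK 174080 cat0_340 = true ∧ ruleBound spec.length cat0_340 = true :=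
  stepsOK_cat steps680_ok steps681_ok (by rw [steps680_len])

def cat0_341 : List (ℕ × ℕ) := steps682 ++ steps683

theorem cat0_341_len : cat0_341.length = 512 := by rw [cat0_341, List.length_append, steps682_len, steps683_len]

theorem cat0_341_ok : cert.stepsOK 174592 cat0_341 = true ∧ ruleBound spec.length cat0_341 = true :=
  stepsOK_cat steps682_ok steps683_ok (by rw [steps682_len])

def cat0_342 : List (ℕ × ℕ) := steps684 ++ steps685

theorem cat0_342_len : cat0_342.length = 512 := by rw [cat0_342, List.length_append, steps684_len, steps685_len]

theorem cat0_342_ok : cert.stepsOK 175104 cat0_342 = true ∧ ruleBound spec.length cat0_342 = true :=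
  stepsOK_cat steps684_ok steps685_ok (by rw [steps684_len])

def cat0_343 : List (ℕ × ℕ) := steps686 ++ steps687

theorem cat0_343_len : cat0_343.length = 512 := by rw [cat0_343, List.length_append, steps686_len, steps687_len]

theorem cat0_343_ok : cert.stepsOK 175616 cat0_343 = true ∧ ruleBound spec.length cat0_343 = true :=
  stepsOK_cat steps686_ok steps687_ok (by rw [steps686_len])

def cat0_344 : List (ℕ × ℕ) := steps688 ++ steps689

theorem cat0_344_len : cat0_344.length = 512 := by rw [cat0_344, List.length_append, steps688_len, steps689_len]

theorem cat0_344_ok : cert.stepsOK 176128 cat0_344 = true ∧ ruleBound spec.length cat0_344 = true :=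
  stepsOK_cat steps688_ok steps689_ok (by rw [steps688_len])

def cat0_345 : List (ℕ × ℕ) := steps690 ++ steps691

theorem cat0_345_len : cat0_345.length = 512 := by rw [cat0_345, List.length_append, steps690_len, steps691_len]

theorem cat0_345_ok : cert.stepsOK 176640 cat0_345 = true ∧ ruleBound spec.length cat0_345 = true :=
  stepsOK_cat steps690_ok steps691_ok (by rw [steps690_len])

def cat0_346 : List (ℕ × ℕ) := steps692 ++ steps693

theorem cat0_346_len : cat0_346.length = 512 := by rw [cat0_346, List.length_append, steps692_len, steps693_len]

theorem cat0_346_ok : cert.stepsOK 177152 cat0_346 = true ∧ ruleBound spec.length cat0_346 = true :=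
  stepsOK_cat steps692_ok steps693_ok (by rw [steps692_len])

def cat0_347 : List (ℕ × ℕ) := steps694 ++ steps695

theorem cat0_347_len : cat0_347.length = 512 := by rw [cat0_347, List.length_append, steps694_len, steps695_len]

theorem cat0_347_ok : cert.stepsOK 177664 cat0_347 = true ∧ ruleBound spec.length cat0_347 = true :=
  stepsOK_cat steps694_ok steps695_ok (by rw [steps694_len])

def cat0_348 : List (ℕ × ℕ) := steps696 ++ steps697

theorem cat0_348_len : cat0_348.length = 512 := by rw [cat0_348, List.length_append, steps696_len, steps697_len]

theorem cat0_348_ok : cert.stepsOK 178176 cat0_348 = true ∧ ruleBound spec.length cat0_348 = true :=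
  stepsOK_cat steps696_ok steps697_ok (by rw [steps696_len])

def cat0_349 : List (ℕ × ℕ) := steps698 ++ steps699

theorem cat0_349_len : cat0_349.length = 512 := by rw [cat0_349, List.length_append, steps698_len, steps699_len]

theorem cat0_349_ok : cert.stepsOK 178688 cat0_349 = true ∧ ruleBound spec.length cat0_349 = true :=
  stepsOK_cat steps698_ok steps699_ok (by rw [steps698_len])

def cat0_350 : List (ℕ × ℕ) := steps700 ++ steps701

theorem cat0_350_len : cat0_350.length = 512 := by rw [cat0_350, List.length_append, steps700_len, steps701_len]

theorem cat0_350_ok : cert.stepsOK 179200 cat0_350 = true ∧ ruleBound spec.length cat0_350 = true :=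
  stepsOK_cat steps700_ok steps701_ok (by rw [steps700_len])

def cat0_351 : List (ℕ × ℕ) := steps702 ++ steps703

theorem cat0_351_len : cat0_351.length = 512 := by rw [cat0_351, List.length_append, steps702_len, steps703_len]

theorem cat0_351_ok : cert.stepsOK 179712 cat0_351 = true ∧ ruleBound spec.length cat0_351 = true :=
  stepsOK_cat steps702_ok steps703_ok (by rw [steps702_len])

def cat0_352 : List (ℕ × ℕ) := steps704 ++ steps705

theorem cat0_352_len : cat0_352.length = 512 := by rw [cat0_352, List.length_append, steps704_len, steps705_len]

theorem cat0_352_ok : cert.stepsOK 180224 cat0_352 = true ∧ ruleBound spec.length cat0_352 = true :=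
  stepsOK_cat steps704_ok steps705_ok (by rw [steps704_len])

def cat0_353 : List (ℕ × ℕ) := steps706 ++ steps707

theorem cat0_353_len : cat0_353.length = 512 := by rw [cat0_353, List.length_append, steps706_len, steps707_len]

theorem cat0_353_ok : cert.stepsOK 180736 cat0_353 = true ∧ ruleBound spec.length cat0_353 = true :=
  stepsOK_cat steps706_ok steps707_ok (by rw [steps706_len])

def cat0_354 : List (ℕ × ℕ) := steps708 ++ steps709

theorem cat0_354_len : cat0_354.length = 512 := by rw [cat0_354, List.length_append, steps708_len, steps709_len]

theorem cat0_354_ok : cert.stepsOK 181248 cat0_354 = true ∧ ruleBound spec.length cat0_354 = true :=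
  stepsOK_cat steps708_ok steps709_ok (by rw [steps708_len])

def cat0_355 : List (ℕ × ℕ) := steps710 ++ steps711

theorem cat0_355_len : cat0_355.length = 512 := by rw [cat0_355, List.length_append, steps710_len, steps711_len]

theorem cat0_355_ok : cert.stepsOK 181760 cat0_355 = true ∧ ruleBound spec.length cat0_355 = true :=
  stepsOK_cat steps710_ok steps711_ok (by rw [steps710_len])

def cat0_356 : List (ℕ × ℕ) := steps712 ++ steps713

theorem cat0_356_len : cat0_356.length = 512 := by rw [cat0_356, List.length_append, steps712_len, steps713_len]

theorem cat0_356_ok : cert.stepsOK 182272 cat0_356 = true ∧ ruleBound spec.length cat0_356 = true :=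
  stepsOK_cat steps712_ok steps713_ok (by rw [steps712_len])

def cat0_357 : List (ℕ × ℕ) := steps714 ++ steps715

theorem cat0_357_len : cat0_357.length = 512 := by rw [cat0_357, List.length_append, steps714_len, steps715_len]

theorem cat0_357_ok : cert.stepsOK 182784 cat0_357 = true ∧ ruleBound spec.length cat0_357 = true :=
  stepsOK_cat steps714_ok steps715_ok (by rw [steps714_len])

def cat0_358 : List (ℕ × ℕ) := steps716 ++ steps717

theorem cat0_358_len : cat0_358.length = 512 := by rw [cat0_358, List.length_append, steps716_len, steps717_len]

theorem cat0_358_ok : cert.stepsOK 183296 cat0_358 = true ∧ ruleBound spec.length cat0_358 = true :=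
  stepsOK_cat steps716_ok steps717_ok (by rw [steps716_len])

def cat0_359 : List (ℕ × ℕ) := steps718 ++ steps719

theorem cat0_359_len : cat0_359.length = 512 := by rw [cat0_359, List.length_append, steps718_len, steps719_len]

theorem cat0_359_ok : cert.stepsOK 183808 cat0_359 = true ∧ ruleBound spec.length cat0_359 = true :=
  stepsOK_cat steps718_ok steps719_ok (by rw [steps718_len])

def cat0_360 : List (ℕ × ℕ) := steps720 ++ steps721

theorem cat0_360_len : cat0_360.length = 512 := by rw [cat0_360, List.length_append, steps720_len, steps721_len]

theorem cat0_360_ok : cert.stepsOK 184320 cat0_360 = true ∧ ruleBound spec.length cat0_360 = true :=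
  stepsOK_cat steps720_ok steps721_ok (by rw [steps720_len])

def cat0_361 : List (ℕ × ℕ) := steps722 ++ steps723

theorem cat0_361_len : cat0_361.length = 512 := by rw [cat0_361, List.length_append, steps722_len, steps723_len]

theorem cat0_361_ok : cert.stepsOK 184832 cat0_361 = true ∧ ruleBound spec.length cat0_361 = true :=
  stepsOK_cat steps722_ok steps723_ok (by rw [steps722_len])

def cat0_362 : List (ℕ × ℕ) := steps724 ++ steps725

theorem cat0_362_len : cat0_362.length = 512 := by rw [cat0_362, List.length_append, steps724_len, steps725_len]

theorem cat0_362_ok : cert.stepsOK 185344 cat0_362 = true ∧ ruleBound spec.length cat0_362 = true :=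
  stepsOK_cat steps724_ok steps725_ok (by rw [steps724_len])

def cat0_363 : List (ℕ × ℕ) := steps726 ++ steps727

theorem cat0_363_len : cat0_363.length = 512 := by rw [cat0_363, List.length_append, steps726_len, steps727_len]

theorem cat0_363_ok : cert.stepsOK 185856 cat0_363 = true ∧ ruleBound spec.length cat0_363 = true :=
  stepsOK_cat steps726_ok steps727_ok (by rw [steps726_len])

def cat0_364 : List (ℕ × ℕ) := steps728 ++ steps729

theorem cat0_364_len : cat0_364.length = 512 := by rw [cat0_364, List.length_append, steps728_len, steps729_len]

theorem cat0_364_ok : cert.stepsOK 186368 cat0_364 = true ∧ ruleBound spec.length cat0_364 = true :=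
  stepsOK_cat steps728_ok steps729_ok (by rw [steps728_len])

def cat0_365 : List (ℕ × ℕ) := steps730 ++ steps731

theorem cat0_365_len : cat0_365.length = 512 := by rw [cat0_365, List.length_append, steps730_len, steps731_len]

theorem cat0_365_ok : cert.stepsOK 186880 cat0_365 = true ∧ ruleBound spec.length cat0_365 = true :=
  stepsOK_cat steps730_ok steps731_ok (by rw [steps730_len])

def cat0_366 : List (ℕ × ℕ) := steps732 ++ steps733

theorem cat0_366_len : cat0_366.length = 512 := by rw [cat0_366, List.length_append, steps732_len, steps733_len]

theorem cat0_366_ok : cert.stepsOK 187392 cat0_366 = true ∧ ruleBound spec.length cat0_366 = true :=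
  stepsOK_cat steps732_ok steps733_ok (by rw [steps732_len])

def cat0_367 : List (ℕ × ℕ) := steps734 ++ steps735

theorem cat0_367_len : cat0_367.length = 512 := by rw [cat0_367, List.length_append, steps734_len, steps735_len]

theorem cat0_367_ok : cert.stepsOK 187904 cat0_367 = true ∧ ruleBound spec.length cat0_367 = true :=
  stepsOK_cat steps734_ok steps735_ok (by rw [steps734_len])

def cat0_368 : List (ℕ × ℕ) := steps736 ++ steps737

theorem cat0_368_len : cat0_368.length = 512 := by rw [cat0_368, List.length_append, steps736_len, steps737_len]

theorem cat0_368_ok : cert.stepsOK 188416 cat0_368 = true ∧ ruleBound spec.length cat0_368 = true :=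
  stepsOK_cat steps736_ok steps737_ok (by rw [steps736_len])

def cat0_369 : List (ℕ × ℕ) := steps738 ++ steps739

theorem cat0_369_len : cat0_369.length = 512 := by rw [cat0_369, List.length_append, steps738_len, steps739_len]

theorem cat0_369_ok : cert.stepsOK 188928 cat0_369 = true ∧ ruleBound spec.length cat0_369 = true :=
  stepsOK_cat steps738_ok steps739_ok (by rw [steps738_len])

def cat0_370 : List (ℕ × ℕ) := steps740 ++ steps741

theorem cat0_370_len : cat0_370.length = 512 := by rw [cat0_370, List.length_append, steps740_len, steps741_len]

theorem cat0_370_ok : cert.stepsOK 189440 cat0_370 = true ∧ ruleBound spec.length cat0_370 = true :=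
  stepsOK_cat steps740_ok steps741_ok (by rw [steps740_len])

def cat0_371 : List (ℕ × ℕ) := steps742 ++ steps743

theorem cat0_371_len : cat0_371.length = 512 := by rw [cat0_371, List.length_append, steps742_len, steps743_len]

theorem cat0_371_ok : cert.stepsOK 189952 cat0_371 = true ∧ ruleBound spec.length cat0_371 = true :=
  stepsOK_cat steps742_ok steps743_ok (by rw [steps742_len])

def cat0_372 : List (ℕ × ℕ) := steps744 ++ steps745

theorem cat0_372_len : cat0_372.length = 512 := by rw [cat0_372, List.length_append, steps744_len, steps745_len]

theorem cat0_372_ok : cert.stepsOK 190464 cat0_372 = true ∧ ruleBound spec.length cat0_372 = true :=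
  stepsOK_cat steps744_ok steps745_ok (by rw [steps744_len])

def cat0_373 : List (ℕ × ℕ) := steps746 ++ steps747

theorem cat0_373_len : cat0_373.length = 512 := by rw [cat0_373, List.length_append, steps746_len, steps747_len]

theorem cat0_373_ok : cert.stepsOK 190976 cat0_373 = true ∧ ruleBound spec.length cat0_373 = true :=
  stepsOK_cat steps746_ok steps747_ok (by rw [steps746_len])

def cat0_374 : List (ℕ × ℕ) := steps748 ++ steps749

theorem cat0_374_len : cat0_374.length = 512 := by rw [cat0_374, List.length_append, steps748_len, steps749_len]

theorem cat0_374_ok : cert.stepsOK 191488 cat0_374 = true ∧ ruleBound spec.length cat0_374 = true :=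
  stepsOK_cat steps748_ok steps749_ok (by rw [steps748_len])

def cat0_375 : List (ℕ × ℕ) := steps750 ++ steps751

theorem cat0_375_len : cat0_375.length = 512 := by rw [cat0_375, List.length_append, steps750_len, steps751_len]

theorem cat0_375_ok : cert.stepsOK 192000 cat0_375 = true ∧ ruleBound spec.length cat0_375 = true :=
  stepsOK_cat steps750_ok steps751_ok (by rw [steps750_len])

def cat0_376 : List (ℕ × ℕ) := steps752 ++ steps753

theorem cat0_376_len : cat0_376.length = 512 := by rw [cat0_376, List.length_append, steps752_len, steps753_len]

theorem cat0_376_ok : cert.stepsOK 192512 cat0_376 = true ∧ ruleBound spec.length cat0_376 = true :=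
  stepsOK_cat steps752_ok steps753_ok (by rw [steps752_len])

def cat0_377 : List (ℕ × ℕ) := steps754 ++ steps755

theorem cat0_377_len : cat0_377.length = 512 := by rw [cat0_377, List.length_append, steps754_len, steps755_len]

theorem cat0_377_ok : cert.stepsOK 193024 cat0_377 = true ∧ ruleBound spec.length cat0_377 = true :=
  stepsOK_cat steps754_ok steps755_ok (by rw [steps754_len])

def cat0_378 : List (ℕ × ℕ) := steps756 ++ steps757

theorem cat0_378_len : cat0_378.length = 512 := by rw [cat0_378, List.length_append, steps756_len, steps757_len]

theorem cat0_378_ok : cert.stepsOK 193536 cat0_378 = true ∧ ruleBound spec.length cat0_378 = true :=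
  stepsOK_cat steps756_ok steps757_ok (by rw [steps756_len])

def cat0_379 : List (ℕ × ℕ) := steps758 ++ steps759

theorem cat0_379_len : cat0_379.length = 512 := by rw [cat0_379, List.length_append, steps758_len, steps759_len]

theorem cat0_379_ok : cert.stepsOK 194048 cat0_379 = true ∧ ruleBound spec.length cat0_379 = true :=
  stepsOK_cat steps758_ok steps759_ok (by rw [steps758_len])

def cat0_380 : List (ℕ × ℕ) := steps760 ++ steps761

theorem cat0_380_len : cat0_380.length = 512 := by rw [cat0_380, List.length_append, steps760_len, steps761_len]

theorem cat0_380_ok : cert.stepsOK 194560 cat0_380 = true ∧ ruleBound spec.length cat0_380 = true :=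
  stepsOK_cat steps760_ok steps761_ok (by rw [steps760_len])

def cat0_381 : List (ℕ × ℕ) := steps762 ++ steps763

theorem cat0_381_len : cat0_381.length = 512 := by rw [cat0_381, List.length_append, steps762_len, steps763_len]

theorem cat0_381_ok : cert.stepsOK 195072 cat0_381 = true ∧ ruleBound spec.length cat0_381 = true :=
  stepsOK_cat steps762_ok steps763_ok (by rw [steps762_len])

def cat0_382 : List (ℕ × ℕ) := steps764 ++ steps765

theorem cat0_382_len : cat0_382.length = 512 := by rw [cat0_382, List.length_append, steps764_len, steps765_len]

theorem cat0_382_ok : cert.stepsOK 195584 cat0_382 = true ∧ ruleBound spec.length cat0_382 = true :=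
  stepsOK_cat steps764_ok steps765_ok (by rw [steps764_len])

def cat0_383 : List (ℕ × ℕ) := steps766 ++ steps767

theorem cat0_383_len : cat0_383.length = 512 := by rw [cat0_383, List.length_append, steps766_len, steps767_len]

theorem cat0_383_ok : cert.stepsOK 196096 cat0_383 = true ∧ ruleBound spec.length cat0_383 = true :=
  stepsOK_cat steps766_ok steps767_ok (by rw [steps766_len])

def cat0_384 : List (ℕ × ℕ) := steps768 ++ steps769

theorem cat0_384_len : cat0_384.length = 512 := by rw [cat0_384, List.length_append, steps768_len, steps769_len]

theorem cat0_384_ok : cert.stepsOK 196608 cat0_384 = true ∧ ruleBound spec.length cat0_384 = true :=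
  stepsOK_cat steps768_ok steps769_ok (by rw [steps768_len])

def cat0_385 : List (ℕ × ℕ) := steps770 ++ steps771

theorem cat0_385_len : cat0_385.length = 512 := by rw [cat0_385, List.length_append, steps770_len, steps771_len]

theorem cat0_385_ok : cert.stepsOK 197120 cat0_385 = true ∧ ruleBound spec.length cat0_385 = true :=
  stepsOK_cat steps770_ok steps771_ok (by rw [steps770_len])

def cat0_386 : List (ℕ × ℕ) := steps772 ++ steps773

theorem cat0_386_len : cat0_386.length = 512 := by rw [cat0_386, List.length_append, steps772_len, steps773_len]

theorem cat0_386_ok : cert.stepsOK 197632 cat0_386 = true ∧ ruleBound spec.length cat0_386 = true :=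
  stepsOK_cat steps772_ok steps773_ok (by rw [steps772_len])

def cat0_387 : List (ℕ × ℕ) := steps774 ++ steps775

theorem cat0_387_len : cat0_387.length = 512 := by rw [cat0_387, List.length_append, steps774_len, steps775_len]

theorem cat0_387_ok : cert.stepsOK 198144 cat0_387 = true ∧ ruleBound spec.length cat0_387 = true :=
  stepsOK_cat steps774_ok steps775_ok (by rw [steps774_len])

def cat0_388 : List (ℕ × ℕ) := steps776 ++ steps777

theorem cat0_388_len : cat0_388.length = 512 := by rw [cat0_388, List.length_append, steps776_len, steps777_len]

theorem cat0_388_ok : cert.stepsOK 198656 cat0_388 = true ∧ ruleBound spec.length cat0_388 = true :=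
  stepsOK_cat steps776_ok steps777_ok (by rw [steps776_len])

def cat0_389 : List (ℕ × ℕ) := steps778 ++ steps779

theorem cat0_389_len : cat0_389.length = 512 := by rw [cat0_389, List.length_append, steps778_len, steps779_len]

theorem cat0_389_ok : cert.stepsOK 199168 cat0_389 = true ∧ ruleBound spec.length cat0_389 = true :=
  stepsOK_cat steps778_ok steps779_ok (by rw [steps778_len])

def cat0_390 : List (ℕ × ℕ) := steps780 ++ steps781

theorem cat0_390_len : cat0_390.length = 512 := by rw [cat0_390, List.length_append, steps780_len, steps781_len]

theorem cat0_390_ok : cert.stepsOK 199680 cat0_390 = true ∧ ruleBound spec.length cat0_390 = true :=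
  stepsOK_cat steps780_ok steps781_ok (by rw [steps780_len])

def cat0_391 : List (ℕ × ℕ) := steps782 ++ steps783

theorem cat0_391_len : cat0_391.length = 512 := by rw [cat0_391, List.length_append, steps782_len, steps783_len]

theorem cat0_391_ok : cert.stepsOK 200192 cat0_391 = true ∧ ruleBound spec.length cat0_391 = true :=
  stepsOK_cat steps782_ok steps783_ok (by rw [steps782_len])

def cat0_392 : List (ℕ × ℕ) := steps784 ++ steps785

theorem cat0_392_len : cat0_392.length = 512 := by rw [cat0_392, List.length_append, steps784_len, steps785_len]

theorem cat0_392_ok : cert.stepsOK 200704 cat0_392 = true ∧ ruleBound spec.length cat0_392 = true :=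
  stepsOK_cat steps784_ok steps785_ok (by rw [steps784_len])

def cat0_393 : List (ℕ × ℕ) := steps786 ++ steps787

theorem cat0_393_len : cat0_393.length = 512 := by rw [cat0_393, List.length_append, steps786_len, steps787_len]

theorem cat0_393_ok : cert.stepsOK 201216 cat0_393 = true ∧ ruleBound spec.length cat0_393 = true :=
  stepsOK_cat steps786_ok steps787_ok (by rw [steps786_len])

def cat0_394 : List (ℕ × ℕ) := steps788 ++ steps789

theorem cat0_394_len : cat0_394.length = 512 := by rw [cat0_394, List.length_append, steps788_len, steps789_len]

theorem cat0_394_ok : cert.stepsOK 201728 cat0_394 = true ∧ ruleBound spec.length cat0_394 = true :=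
  stepsOK_cat steps788_ok steps789_ok (by rw [steps788_len])

def cat0_395 : List (ℕ × ℕ) := steps790 ++ steps791

theorem cat0_395_len : cat0_395.length = 512 := by rw [cat0_395, List.length_append, steps790_len, steps791_len]

theorem cat0_395_ok : cert.stepsOK 202240 cat0_395 = true ∧ ruleBound spec.length cat0_395 = true :=
  stepsOK_cat steps790_ok steps791_ok (by rw [steps790_len])

def cat0_396 : List (ℕ × ℕ) := steps792 ++ steps793

theorem cat0_396_len : cat0_396.length = 512 := by rw [cat0_396, List.length_append, steps792_len, steps793_len]

theorem cat0_396_ok : cert.stepsOK 202752 cat0_396 = true ∧ ruleBound spec.length cat0_396 = true :=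
  stepsOK_cat steps792_ok steps793_ok (by rw [steps792_len])

def cat0_397 : List (ℕ × ℕ) := steps794 ++ steps795

theorem cat0_397_len : cat0_397.length = 512 := by rw [cat0_397, List.length_append, steps794_len, steps795_len]

theorem cat0_397_ok : cert.stepsOK 203264 cat0_397 = true ∧ ruleBound spec.length cat0_397 = true :=
  stepsOK_cat steps794_ok steps795_ok (by rw [steps794_len])

def cat0_398 : List (ℕ × ℕ) := steps796 ++ steps797

theorem cat0_398_len : cat0_398.length = 512 := by rw [cat0_398, List.length_append, steps796_len, steps797_len]

theorem cat0_398_ok : cert.stepsOK 203776 cat0_398 = true ∧ ruleBound spec.length cat0_398 = true :=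
  stepsOK_cat steps796_ok steps797_ok (by rw [steps796_len])

def cat0_399 : List (ℕ × ℕ) := steps798 ++ steps799

theorem cat0_399_len : cat0_399.length = 512 := by rw [cat0_399, List.length_append, steps798_len, steps799_len]

theorem cat0_399_ok : cert.stepsOK 204288 cat0_399 = true ∧ ruleBound spec.length cat0_399 = true :=
  stepsOK_cat steps798_ok steps799_ok (by rw [steps798_len])

def cat0_400 : List (ℕ × ℕ) := steps800 ++ steps801

theorem cat0_400_len : cat0_400.length = 512 := by rw [cat0_400, List.length_append, steps800_len, steps801_len]

theorem cat0_400_ok : cert.stepsOK 204800 cat0_400 = true ∧ ruleBound spec.length cat0_400 = true :=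
  stepsOK_cat steps800_ok steps801_ok (by rw [steps800_len])

def cat0_401 : List (ℕ × ℕ) := steps802 ++ steps803

theorem cat0_401_len : cat0_401.length = 512 := by rw [cat0_401, List.length_append, steps802_len, steps803_len]

theorem cat0_401_ok : cert.stepsOK 205312 cat0_401 = true ∧ ruleBound spec.length cat0_401 = true :=
  stepsOK_cat steps802_ok steps803_ok (by rw [steps802_len])

def cat0_402 : List (ℕ × ℕ) := steps804 ++ steps805

theorem cat0_402_len : cat0_402.length = 512 := by rw [cat0_402, List.length_append, steps804_len, steps805_len]

theorem cat0_402_ok : cert.stepsOK 205824 cat0_402 = true ∧ ruleBound spec.length cat0_402 = true :=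
  stepsOK_cat steps804_ok steps805_ok (by rw [steps804_len])

def cat0_403 : List (ℕ × ℕ) := steps806 ++ steps807

theorem cat0_403_len : cat0_403.length = 512 := by rw [cat0_403, List.length_append, steps806_len, steps807_len]

theorem cat0_403_ok : cert.stepsOK 206336 cat0_403 = true ∧ ruleBound spec.length cat0_403 = true :=
  stepsOK_cat steps806_ok steps807_ok (by rw [steps806_len])

def cat0_404 : List (ℕ × ℕ) := steps808 ++ steps809

theorem cat0_404_len : cat0_404.length = 512 := by rw [cat0_404, List.length_append, steps808_len, steps809_len]

theorem cat0_404_ok : cert.stepsOK 206848 cat0_404 = true ∧ ruleBound spec.length cat0_404 = true :=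
  stepsOK_cat steps808_ok steps809_ok (by rw [steps808_len])

def cat0_405 : List (ℕ × ℕ) := steps810 ++ steps811

theorem cat0_405_len : cat0_405.length = 512 := by rw [cat0_405, List.length_append, steps810_len, steps811_len]

theorem cat0_405_ok : cert.stepsOK 207360 cat0_405 = true ∧ ruleBound spec.length cat0_405 = true :=
  stepsOK_cat steps810_ok steps811_ok (by rw [steps810_len])

def cat0_406 : List (ℕ × ℕ) := steps812 ++ steps813

theorem cat0_406_len : cat0_406.length = 512 := by rw [cat0_406, List.length_append, steps812_len, steps813_len]

theorem cat0_406_ok : cert.stepsOK 207872 cat0_406 = true ∧ ruleBound spec.length cat0_406 = true :=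
  stepsOK_cat steps812_ok steps813_ok (by rw [steps812_len])

def cat0_407 : List (ℕ × ℕ) := steps814 ++ steps815

theorem cat0_407_len : cat0_407.length = 512 := by rw [cat0_407, List.length_append, steps814_len, steps815_len]

theorem cat0_407_ok : cert.stepsOK 208384 cat0_407 = true ∧ ruleBound spec.length cat0_407 = true :=
  stepsOK_cat steps814_ok steps815_ok (by rw [steps814_len])

def cat0_408 : List (ℕ × ℕ) := steps816 ++ steps817

theorem cat0_408_len : cat0_408.length = 512 := by rw [cat0_408, List.length_append, steps816_len, steps817_len]

theorem cat0_408_ok : cert.stepsOK 208896 cat0_408 = true ∧ ruleBound spec.length cat0_408 = true :=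
  stepsOK_cat steps816_ok steps817_ok (by rw [steps816_len])

def cat1_0 : List (ℕ × ℕ) := cat0_0 ++ cat0_1

theorem cat1_0_len : cat1_0.length = 1024 := by rw [cat1_0, List.length_append, cat0_0_len, cat0_1_len]

theorem cat1_0_ok : cert.stepsOK 0 cat1_0 = true ∧ ruleBound spec.length cat1_0 = true :=
  stepsOK_cat cat0_0_ok cat0_1_ok (by rw [cat0_0_len])

def cat1_1 : List (ℕ × ℕ) := cat0_2 ++ cat0_3

theorem cat1_1_len : cat1_1.length = 1024 := by rw [cat1_1, List.length_append, cat0_2_len, cat0_3_len]

theorem cat1_1_ok : cert.stepsOK 1024 cat1_1 = true ∧ ruleBound spec.length cat1_1 = true :=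
  stepsOK_cat cat0_2_ok cat0_3_ok (by rw [cat0_2_len])

def cat1_2 : List (ℕ × ℕ) := cat0_4 ++ cat0_5

theorem cat1_2_len : cat1_2.length = 1024 := by rw [cat1_2, List.length_append, cat0_4_len, cat0_5_len]

theorem cat1_2_ok : cert.stepsOK 2048 cat1_2 = true ∧ ruleBound spec.length cat1_2 = true :=
  stepsOK_cat cat0_4_ok cat0_5_ok (by rw [cat0_4_len])

def cat1_3 : List (ℕ × ℕ) := cat0_6 ++ cat0_7

theorem cat1_3_len : cat1_3.length = 1024 := by rw [cat1_3, List.length_append, cat0_6_len, cat0_7_len]

theorem cat1_3_ok : cert.stepsOK 3072 cat1_3 = true ∧ ruleBound spec.length cat1_3 = true :=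
  stepsOK_cat cat0_6_ok cat0_7_ok (by rw [cat0_6_len])

def cat1_4 : List (ℕ × ℕ) := cat0_8 ++ cat0_9

theorem cat1_4_len : cat1_4.length = 1024 := by rw [cat1_4, List.length_append, cat0_8_len, cat0_9_len]

theorem cat1_4_ok : cert.stepsOK 4096 cat1_4 = true ∧ ruleBound spec.length cat1_4 = true :=
  stepsOK_cat cat0_8_ok cat0_9_ok (by rw [cat0_8_len])

def cat1_5 : List (ℕ × ℕ) := cat0_10 ++ cat0_11

theorem cat1_5_len : cat1_5.length = 1024 := by rw [cat1_5, List.length_append, cat0_10_len, cat0_11_len]

theorem cat1_5_ok : cert.stepsOK 5120 cat1_5 = true ∧ ruleBound spec.length cat1_5 = true :=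
  stepsOK_cat cat0_10_ok cat0_11_ok (by rw [cat0_10_len])

def cat1_6 : List (ℕ × ℕ) := cat0_12 ++ cat0_13

theorem cat1_6_len : cat1_6.length = 1024 := by rw [cat1_6, List.length_append, cat0_12_len, cat0_13_len]

theorem cat1_6_ok : cert.stepsOK 6144 cat1_6 = true ∧ ruleBound spec.length cat1_6 = true :=
  stepsOK_cat cat0_12_ok cat0_13_ok (by rw [cat0_12_len])

def cat1_7 : List (ℕ × ℕ) := cat0_14 ++ cat0_15

theorem cat1_7_len : cat1_7.length = 1024 := by rw [cat1_7, List.length_append, cat0_14_len, cat0_15_len]

theorem cat1_7_ok : cert.stepsOK 7168 cat1_7 = true ∧ ruleBound spec.length cat1_7 = true :=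
  stepsOK_cat cat0_14_ok cat0_15_ok (by rw [cat0_14_len])

def cat1_8 : List (ℕ × ℕ) := cat0_16 ++ cat0_17

theorem cat1_8_len : cat1_8.length = 1024 := by rw [cat1_8, List.length_append, cat0_16_len, cat0_17_len]

theorem cat1_8_ok : cert.stepsOK 8192 cat1_8 = true ∧ ruleBound spec.length cat1_8 = true :=
  stepsOK_cat cat0_16_ok cat0_17_ok (by rw [cat0_16_len])

def cat1_9 : List (ℕ × ℕ) := cat0_18 ++ cat0_19

theorem cat1_9_len : cat1_9.length = 1024 := by rw [cat1_9, List.length_append, cat0_18_len, cat0_19_len]

theorem cat1_9_ok : cert.stepsOK 9216 cat1_9 = true ∧ ruleBound spec.length cat1_9 = true :=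
  stepsOK_cat cat0_18_ok cat0_19_ok (by rw [cat0_18_len])

def cat1_10 : List (ℕ × ℕ) := cat0_20 ++ cat0_21

theorem cat1_10_len : cat1_10.length = 1024 := by rw [cat1_10, List.length_append, cat0_20_len, cat0_21_len]

theorem cat1_10_ok : cert.stepsOK 10240 cat1_10 = true ∧ ruleBound spec.length cat1_10 = true :=
  stepsOK_cat cat0_20_ok cat0_21_ok (by rw [cat0_20_len])

def cat1_11 : List (ℕ × ℕ) := cat0_22 ++ cat0_23

theorem cat1_11_len : cat1_11.length = 1024 := by rw [cat1_11, List.length_append, cat0_22_len, cat0_23_len]

theorem cat1_11_ok : cert.stepsOK 11264 cat1_11 = true ∧ ruleBound spec.length cat1_11 = true :=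
  stepsOK_cat cat0_22_ok cat0_23_ok (by rw [cat0_22_len])

def cat1_12 : List (ℕ × ℕ) := cat0_24 ++ cat0_25

theorem cat1_12_len : cat1_12.length = 1024 := by rw [cat1_12, List.length_append, cat0_24_len, cat0_25_len]

theorem cat1_12_ok : cert.stepsOK 12288 cat1_12 = true ∧ ruleBound spec.length cat1_12 = true :=
  stepsOK_cat cat0_24_ok cat0_25_ok (by rw [cat0_24_len])

def cat1_13 : List (ℕ × ℕ) := cat0_26 ++ cat0_27

theorem cat1_13_len : cat1_13.length = 1024 := by rw [cat1_13, List.length_append, cat0_26_len, cat0_27_len]

theorem cat1_13_ok : cert.stepsOK 13312 cat1_13 = true ∧ ruleBound spec.length cat1_13 = true :=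
  stepsOK_cat cat0_26_ok cat0_27_ok (by rw [cat0_26_len])

def cat1_14 : List (ℕ × ℕ) := cat0_28 ++ cat0_29

theorem cat1_14_len : cat1_14.length = 1024 := by rw [cat1_14, List.length_append, cat0_28_len, cat0_29_len]

theorem cat1_14_ok : cert.stepsOK 14336 cat1_14 = true ∧ ruleBound spec.length cat1_14 = true :=
  stepsOK_cat cat0_28_ok cat0_29_ok (by rw [cat0_28_len])

def cat1_15 : List (ℕ × ℕ) := cat0_30 ++ cat0_31

theorem cat1_15_len : cat1_15.length = 1024 := by rw [cat1_15, List.length_append, cat0_30_len, cat0_31_len]

theorem cat1_15_ok : cert.stepsOK 15360 cat1_15 = true ∧ ruleBound spec.length cat1_15 = true :=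
  stepsOK_cat cat0_30_ok cat0_31_ok (by rw [cat0_30_len])

def cat1_16 : List (ℕ × ℕ) := cat0_32 ++ cat0_33

theorem cat1_16_len : cat1_16.length = 1024 := by rw [cat1_16, List.length_append, cat0_32_len, cat0_33_len]

theorem cat1_16_ok : cert.stepsOK 16384 cat1_16 = true ∧ ruleBound spec.length cat1_16 = true :=
  stepsOK_cat cat0_32_ok cat0_33_ok (by rw [cat0_32_len])

def cat1_17 : List (ℕ × ℕ) := cat0_34 ++ cat0_35

theorem cat1_17_len : cat1_17.length = 1024 := by rw [cat1_17, List.length_append, cat0_34_len, cat0_35_len]

theorem cat1_17_ok : cert.stepsOK 17408 cat1_17 = true ∧ ruleBound spec.length cat1_17 = true :=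
  stepsOK_cat cat0_34_ok cat0_35_ok (by rw [cat0_34_len])

def cat1_18 : List (ℕ × ℕ) := cat0_36 ++ cat0_37

theorem cat1_18_len : cat1_18.length = 1024 := by rw [cat1_18, List.length_append, cat0_36_len, cat0_37_len]

theorem cat1_18_ok : cert.stepsOK 18432 cat1_18 = true ∧ ruleBound spec.length cat1_18 = true :=
  stepsOK_cat cat0_36_ok cat0_37_ok (by rw [cat0_36_len])

def cat1_19 : List (ℕ × ℕ) := cat0_38 ++ cat0_39

theorem cat1_19_len : cat1_19.length = 1024 := by rw [cat1_19, List.length_append, cat0_38_len, cat0_39_len]

theorem cat1_19_ok : cert.stepsOK 19456 cat1_19 = true ∧ ruleBound spec.length cat1_19 = true :=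
  stepsOK_cat cat0_38_ok cat0_39_ok (by rw [cat0_38_len])

def cat1_20 : List (ℕ × ℕ) := cat0_40 ++ cat0_41

theorem cat1_20_len : cat1_20.length = 1024 := by rw [cat1_20, List.length_append, cat0_40_len, cat0_41_len]

theorem cat1_20_ok : cert.stepsOK 20480 cat1_20 = true ∧ ruleBound spec.length cat1_20 = true :=
  stepsOK_cat cat0_40_ok cat0_41_ok (by rw [cat0_40_len])

def cat1_21 : List (ℕ × ℕ) := cat0_42 ++ cat0_43

theorem cat1_21_len : cat1_21.length = 1024 := by rw [cat1_21, List.length_append, cat0_42_len, cat0_43_len]

theorem cat1_21_ok : cert.stepsOK 21504 cat1_21 = true ∧ ruleBound spec.length cat1_21 = true :=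
  stepsOK_cat cat0_42_ok cat0_43_ok (by rw [cat0_42_len])

def cat1_22 : List (ℕ × ℕ) := cat0_44 ++ cat0_45

theorem cat1_22_len : cat1_22.length = 1024 := by rw [cat1_22, List.length_append, cat0_44_len, cat0_45_len]

theorem cat1_22_ok : cert.stepsOK 22528 cat1_22 = true ∧ ruleBound spec.length cat1_22 = true :=
  stepsOK_cat cat0_44_ok cat0_45_ok (by rw [cat0_44_len])

def cat1_23 : List (ℕ × ℕ) := cat0_46 ++ cat0_47

theorem cat1_23_len : cat1_23.length = 1024 := by rw [cat1_23, List.length_append, cat0_46_len, cat0_47_len]

theorem cat1_23_ok : cert.stepsOK 23552 cat1_23 = true ∧ ruleBound spec.length cat1_23 = true :=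
  stepsOK_cat cat0_46_ok cat0_47_ok (by rw [cat0_46_len])

def cat1_24 : List (ℕ × ℕ) := cat0_48 ++ cat0_49

theorem cat1_24_len : cat1_24.length = 1024 := by rw [cat1_24, List.length_append, cat0_48_len, cat0_49_len]

theorem cat1_24_ok : cert.stepsOK 24576 cat1_24 = true ∧ ruleBound spec.length cat1_24 = true :=
  stepsOK_cat cat0_48_ok cat0_49_ok (by rw [cat0_48_len])

def cat1_25 : List (ℕ × ℕ) := cat0_50 ++ cat0_51

theorem cat1_25_len : cat1_25.length = 1024 := by rw [cat1_25, List.length_append, cat0_50_len, cat0_51_len]

theorem cat1_25_ok : cert.stepsOK 25600 cat1_25 = true ∧ ruleBound spec.length cat1_25 = true :=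
  stepsOK_cat cat0_50_ok cat0_51_ok (by rw [cat0_50_len])

def cat1_26 : List (ℕ × ℕ) := cat0_52 ++ cat0_53

theorem cat1_26_len : cat1_26.length = 1024 := by rw [cat1_26, List.length_append, cat0_52_len, cat0_53_len]

theorem cat1_26_ok : cert.stepsOK 26624 cat1_26 = true ∧ ruleBound spec.length cat1_26 = true :=
  stepsOK_cat cat0_52_ok cat0_53_ok (by rw [cat0_52_len])

def cat1_27 : List (ℕ × ℕ) := cat0_54 ++ cat0_55

theorem cat1_27_len : cat1_27.length = 1024 := by rw [cat1_27, List.length_append, cat0_54_len, cat0_55_len]

theorem cat1_27_ok : cert.stepsOK 27648 cat1_27 = true ∧ ruleBound spec.length cat1_27 = true :=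
  stepsOK_cat cat0_54_ok cat0_55_ok (by rw [cat0_54_len])

def cat1_28 : List (ℕ × ℕ) := cat0_56 ++ cat0_57

theorem cat1_28_len : cat1_28.length = 1024 := by rw [cat1_28, List.length_append, cat0_56_len, cat0_57_len]

theorem cat1_28_ok : cert.stepsOK 28672 cat1_28 = true ∧ ruleBound spec.length cat1_28 = true :=
  stepsOK_cat cat0_56_ok cat0_57_ok (by rw [cat0_56_len])

def cat1_29 : List (ℕ × ℕ) := cat0_58 ++ cat0_59

theorem cat1_29_len : cat1_29.length = 1024 := by rw [cat1_29, List.length_append, cat0_58_len, cat0_59_len]

theorem cat1_29_ok : cert.stepsOK 29696 cat1_29 = true ∧ ruleBound spec.length cat1_29 = true :=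
  stepsOK_cat cat0_58_ok cat0_59_ok (by rw [cat0_58_len])

def cat1_30 : List (ℕ × ℕ) := cat0_60 ++ cat0_61

theorem cat1_30_len : cat1_30.length = 1024 := by rw [cat1_30, List.length_append, cat0_60_len, cat0_61_len]

theorem cat1_30_ok : cert.stepsOK 30720 cat1_30 = true ∧ ruleBound spec.length cat1_30 = true :=
  stepsOK_cat cat0_60_ok cat0_61_ok (by rw [cat0_60_len])

def cat1_31 : List (ℕ × ℕ) := cat0_62 ++ cat0_63

theorem cat1_31_len : cat1_31.length = 1024 := by rw [cat1_31, List.length_append, cat0_62_len, cat0_63_len]

theorem cat1_31_ok : cert.stepsOK 31744 cat1_31 = true ∧ ruleBound spec.length cat1_31 = true :=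
  stepsOK_cat cat0_62_ok cat0_63_ok (by rw [cat0_62_len])

def cat1_32 : List (ℕ × ℕ) := cat0_64 ++ cat0_65

theorem cat1_32_len : cat1_32.length = 1024 := by rw [cat1_32, List.length_append, cat0_64_len, cat0_65_len]

theorem cat1_32_ok : cert.stepsOK 32768 cat1_32 = true ∧ ruleBound spec.length cat1_32 = true :=
  stepsOK_cat cat0_64_ok cat0_65_ok (by rw [cat0_64_len])

def cat1_33 : List (ℕ × ℕ) := cat0_66 ++ cat0_67

theorem cat1_33_len : cat1_33.length = 1024 := by rw [cat1_33, List.length_append, cat0_66_len, cat0_67_len]

theorem cat1_33_ok : cert.stepsOK 33792 cat1_33 = true ∧ ruleBound spec.length cat1_33 = true :=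
  stepsOK_cat cat0_66_ok cat0_67_ok (by rw [cat0_66_len])

def cat1_34 : List (ℕ × ℕ) := cat0_68 ++ cat0_69

theorem cat1_34_len : cat1_34.length = 1024 := by rw [cat1_34, List.length_append, cat0_68_len, cat0_69_len]

theorem cat1_34_ok : cert.stepsOK 34816 cat1_34 = true ∧ ruleBound spec.length cat1_34 = true :=
  stepsOK_cat cat0_68_ok cat0_69_ok (by rw [cat0_68_len])

def cat1_35 : List (ℕ × ℕ) := cat0_70 ++ cat0_71

theorem cat1_35_len : cat1_35.length = 1024 := by rw [cat1_35, List.length_append, cat0_70_len, cat0_71_len]

theorem cat1_35_ok : cert.stepsOK 35840 cat1_35 = true ∧ ruleBound spec.length cat1_35 = true :=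
  stepsOK_cat cat0_70_ok cat0_71_ok (by rw [cat0_70_len])

def cat1_36 : List (ℕ × ℕ) := cat0_72 ++ cat0_73

theorem cat1_36_len : cat1_36.length = 1024 := by rw [cat1_36, List.length_append, cat0_72_len, cat0_73_len]

theorem cat1_36_ok : cert.stepsOK 36864 cat1_36 = true ∧ ruleBound spec.length cat1_36 = true :=
  stepsOK_cat cat0_72_ok cat0_73_ok (by rw [cat0_72_len])

def cat1_37 : List (ℕ × ℕ) := cat0_74 ++ cat0_75

theorem cat1_37_len : cat1_37.length = 1024 := by rw [cat1_37, List.length_append, cat0_74_len, cat0_75_len]

theorem cat1_37_ok : cert.stepsOK 37888 cat1_37 = true ∧ ruleBound spec.length cat1_37 = true :=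
  stepsOK_cat cat0_74_ok cat0_75_ok (by rw [cat0_74_len])

def cat1_38 : List (ℕ × ℕ) := cat0_76 ++ cat0_77

theorem cat1_38_len : cat1_38.length = 1024 := by rw [cat1_38, List.length_append, cat0_76_len, cat0_77_len]

theorem cat1_38_ok : cert.stepsOK 38912 cat1_38 = true ∧ ruleBound spec.length cat1_38 = true :=
  stepsOK_cat cat0_76_ok cat0_77_ok (by rw [cat0_76_len])

def cat1_39 : List (ℕ × ℕ) := cat0_78 ++ cat0_79

theorem cat1_39_len : cat1_39.length = 1024 := by rw [cat1_39, List.length_append, cat0_78_len, cat0_79_len]

theorem cat1_39_ok : cert.stepsOK 39936 cat1_39 = true ∧ ruleBound spec.length cat1_39 = true :=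
  stepsOK_cat cat0_78_ok cat0_79_ok (by rw [cat0_78_len])

def cat1_40 : List (ℕ × ℕ) := cat0_80 ++ cat0_81

theorem cat1_40_len : cat1_40.length = 1024 := by rw [cat1_40, List.length_append, cat0_80_len, cat0_81_len]

theorem cat1_40_ok : cert.stepsOK 40960 cat1_40 = true ∧ ruleBound spec.length cat1_40 = true :=
  stepsOK_cat cat0_80_ok cat0_81_ok (by rw [cat0_80_len])

def cat1_41 : List (ℕ × ℕ) := cat0_82 ++ cat0_83

theorem cat1_41_len : cat1_41.length = 1024 := by rw [cat1_41, List.length_append, cat0_82_len, cat0_83_len]

theorem cat1_41_ok : cert.stepsOK 41984 cat1_41 = true ∧ ruleBound spec.length cat1_41 = true :=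
  stepsOK_cat cat0_82_ok cat0_83_ok (by rw [cat0_82_len])

def cat1_42 : List (ℕ × ℕ) := cat0_84 ++ cat0_85

theorem cat1_42_len : cat1_42.length = 1024 := by rw [cat1_42, List.length_append, cat0_84_len, cat0_85_len]

theorem cat1_42_ok : cert.stepsOK 43008 cat1_42 = true ∧ ruleBound spec.length cat1_42 = true :=
  stepsOK_cat cat0_84_ok cat0_85_ok (by rw [cat0_84_len])

def cat1_43 : List (ℕ × ℕ) := cat0_86 ++ cat0_87

theorem cat1_43_len : cat1_43.length = 1024 := by rw [cat1_43, List.length_append, cat0_86_len, cat0_87_len]

theorem cat1_43_ok : cert.stepsOK 44032 cat1_43 = true ∧ ruleBound spec.length cat1_43 = true :=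
  stepsOK_cat cat0_86_ok cat0_87_ok (by rw [cat0_86_len])

def cat1_44 : List (ℕ × ℕ) := cat0_88 ++ cat0_89

theorem cat1_44_len : cat1_44.length = 1024 := by rw [cat1_44, List.length_append, cat0_88_len, cat0_89_len]

theorem cat1_44_ok : cert.stepsOK 45056 cat1_44 = true ∧ ruleBound spec.length cat1_44 = true :=
  stepsOK_cat cat0_88_ok cat0_89_ok (by rw [cat0_88_len])

def cat1_45 : List (ℕ × ℕ) := cat0_90 ++ cat0_91

theorem cat1_45_len : cat1_45.length = 1024 := by rw [cat1_45, List.length_append, cat0_90_len, cat0_91_len]

theorem cat1_45_ok : cert.stepsOK 46080 cat1_45 = true ∧ ruleBound spec.length cat1_45 = true :=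
  stepsOK_cat cat0_90_ok cat0_91_ok (by rw [cat0_90_len])

def cat1_46 : List (ℕ × ℕ) := cat0_92 ++ cat0_93

theorem cat1_46_len : cat1_46.length = 1024 := by rw [cat1_46, List.length_append, cat0_92_len, cat0_93_len]

theorem cat1_46_ok : cert.stepsOK 47104 cat1_46 = true ∧ ruleBound spec.length cat1_46 = true :=
  stepsOK_cat cat0_92_ok cat0_93_ok (by rw [cat0_92_len])

def cat1_47 : List (ℕ × ℕ) := cat0_94 ++ cat0_95

theorem cat1_47_len : cat1_47.length = 1024 := by rw [cat1_47, List.length_append, cat0_94_len, cat0_95_len]

theorem cat1_47_ok : cert.stepsOK 48128 cat1_47 = true ∧ ruleBound spec.length cat1_47 = true :=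
  stepsOK_cat cat0_94_ok cat0_95_ok (by rw [cat0_94_len])

def cat1_48 : List (ℕ × ℕ) := cat0_96 ++ cat0_97

theorem cat1_48_len : cat1_48.length = 1024 := by rw [cat1_48, List.length_append, cat0_96_len, cat0_97_len]

theorem cat1_48_ok : cert.stepsOK 49152 cat1_48 = true ∧ ruleBound spec.length cat1_48 = true :=
  stepsOK_cat cat0_96_ok cat0_97_ok (by rw [cat0_96_len])

def cat1_49 : List (ℕ × ℕ) := cat0_98 ++ cat0_99

theorem cat1_49_len : cat1_49.length = 1024 := by rw [cat1_49, List.length_append, cat0_98_len, cat0_99_len]

theorem cat1_49_ok : cert.stepsOK 50176 cat1_49 = true ∧ ruleBound spec.length cat1_49 = true :=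
  stepsOK_cat cat0_98_ok cat0_99_ok (by rw [cat0_98_len])

def cat1_50 : List (ℕ × ℕ) := cat0_100 ++ cat0_101

theorem cat1_50_len : cat1_50.length = 1024 := by rw [cat1_50, List.length_append, cat0_100_len, cat0_101_len]

theorem cat1_50_ok : cert.stepsOK 51200 cat1_50 = true ∧ ruleBound spec.length cat1_50 = true :=
  stepsOK_cat cat0_100_ok cat0_101_ok (by rw [cat0_100_len])

def cat1_51 : List (ℕ × ℕ) := cat0_102 ++ cat0_103

theorem cat1_51_len : cat1_51.length = 1024 := by rw [cat1_51, List.length_append, cat0_102_len, cat0_103_len]

theorem cat1_51_ok : cert.stepsOK 52224 cat1_51 = true ∧ ruleBound spec.length cat1_51 = true :=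
  stepsOK_cat cat0_102_ok cat0_103_ok (by rw [cat0_102_len])

def cat1_52 : List (ℕ × ℕ) := cat0_104 ++ cat0_105

theorem cat1_52_len : cat1_52.length = 1024 := by rw [cat1_52, List.length_append, cat0_104_len, cat0_105_len]

theorem cat1_52_ok : cert.stepsOK 53248 cat1_52 = true ∧ ruleBound spec.length cat1_52 = true :=
  stepsOK_cat cat0_104_ok cat0_105_ok (by rw [cat0_104_len])

def cat1_53 : List (ℕ × ℕ) := cat0_106 ++ cat0_107

theorem cat1_53_len : cat1_53.length = 1024 := by rw [cat1_53, List.length_append, cat0_106_len, cat0_107_len]

theorem cat1_53_ok : cert.stepsOK 54272 cat1_53 = true ∧ ruleBound spec.length cat1_53 = true :=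
  stepsOK_cat cat0_106_ok cat0_107_ok (by rw [cat0_106_len])

def cat1_54 : List (ℕ × ℕ) := cat0_108 ++ cat0_109

theorem cat1_54_len : cat1_54.length = 1024 := by rw [cat1_54, List.length_append, cat0_108_len, cat0_109_len]

theorem cat1_54_ok : cert.stepsOK 55296 cat1_54 = true ∧ ruleBound spec.length cat1_54 = true :=
  stepsOK_cat cat0_108_ok cat0_109_ok (by rw [cat0_108_len])

def cat1_55 : List (ℕ × ℕ) := cat0_110 ++ cat0_111

theorem cat1_55_len : cat1_55.length = 1024 := by rw [cat1_55, List.length_append, cat0_110_len, cat0_111_len]

theorem cat1_55_ok : cert.stepsOK 56320 cat1_55 = true ∧ ruleBound spec.length cat1_55 = true :=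
  stepsOK_cat cat0_110_ok cat0_111_ok (by rw [cat0_110_len])

def cat1_56 : List (ℕ × ℕ) := cat0_112 ++ cat0_113

theorem cat1_56_len : cat1_56.length = 1024 := by rw [cat1_56, List.length_append, cat0_112_len, cat0_113_len]

theorem cat1_56_ok : cert.stepsOK 57344 cat1_56 = true ∧ ruleBound spec.length cat1_56 = true :=
  stepsOK_cat cat0_112_ok cat0_113_ok (by rw [cat0_112_len])

def cat1_57 : List (ℕ × ℕ) := cat0_114 ++ cat0_115

theorem cat1_57_len : cat1_57.length = 1024 := by rw [cat1_57, List.length_append, cat0_114_len, cat0_115_len]

theorem cat1_57_ok : cert.stepsOK 58368 cat1_57 = true ∧ ruleBound spec.length cat1_57 = true :=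
  stepsOK_cat cat0_114_ok cat0_115_ok (by rw [cat0_114_len])

def cat1_58 : List (ℕ × ℕ) := cat0_116 ++ cat0_117

theorem cat1_58_len : cat1_58.length = 1024 := by rw [cat1_58, List.length_append, cat0_116_len, cat0_117_len]

theorem cat1_58_ok : cert.stepsOK 59392 cat1_58 = true ∧ ruleBound spec.length cat1_58 = true :=
  stepsOK_cat cat0_116_ok cat0_117_ok (by rw [cat0_116_len])

def cat1_59 : List (ℕ × ℕ) := cat0_118 ++ cat0_119

theorem cat1_59_len : cat1_59.length = 1024 := by rw [cat1_59, List.length_append, cat0_118_len, cat0_119_len]

theorem cat1_59_ok : cert.stepsOK 60416 cat1_59 = true ∧ ruleBound spec.length cat1_59 = true :=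
  stepsOK_cat cat0_118_ok cat0_119_ok (by rw [cat0_118_len])

def cat1_60 : List (ℕ × ℕ) := cat0_120 ++ cat0_121

theorem cat1_60_len : cat1_60.length = 1024 := by rw [cat1_60, List.length_append, cat0_120_len, cat0_121_len]

theorem cat1_60_ok : cert.stepsOK 61440 cat1_60 = true ∧ ruleBound spec.length cat1_60 = true :=
  stepsOK_cat cat0_120_ok cat0_121_ok (by rw [cat0_120_len])

def cat1_61 : List (ℕ × ℕ) := cat0_122 ++ cat0_123

theorem cat1_61_len : cat1_61.length = 1024 := by rw [cat1_61, List.length_append, cat0_122_len, cat0_123_len]

theorem cat1_61_ok : cert.stepsOK 62464 cat1_61 = true ∧ ruleBound spec.length cat1_61 = true :=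
  stepsOK_cat cat0_122_ok cat0_123_ok (by rw [cat0_122_len])

def cat1_62 : List (ℕ × ℕ) := cat0_124 ++ cat0_125

theorem cat1_62_len : cat1_62.length = 1024 := by rw [cat1_62, List.length_append, cat0_124_len, cat0_125_len]

theorem cat1_62_ok : cert.stepsOK 63488 cat1_62 = true ∧ ruleBound spec.length cat1_62 = true :=
  stepsOK_cat cat0_124_ok cat0_125_ok (by rw [cat0_124_len])

def cat1_63 : List (ℕ × ℕ) := cat0_126 ++ cat0_127

theorem cat1_63_len : cat1_63.length = 1024 := by rw [cat1_63, List.length_append, cat0_126_len, cat0_127_len]

theorem cat1_63_ok : cert.stepsOK 64512 cat1_63 = true ∧ ruleBound spec.length cat1_63 = true :=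
  stepsOK_cat cat0_126_ok cat0_127_ok (by rw [cat0_126_len])

def cat1_64 : List (ℕ × ℕ) := cat0_128 ++ cat0_129

theorem cat1_64_len : cat1_64.length = 1024 := by rw [cat1_64, List.length_append, cat0_128_len, cat0_129_len]

theorem cat1_64_ok : cert.stepsOK 65536 cat1_64 = true ∧ ruleBound spec.length cat1_64 = true :=
  stepsOK_cat cat0_128_ok cat0_129_ok (by rw [cat0_128_len])

def cat1_65 : List (ℕ × ℕ) := cat0_130 ++ cat0_131

theorem cat1_65_len : cat1_65.length = 1024 := by rw [cat1_65, List.length_append, cat0_130_len, cat0_131_len]

theorem cat1_65_ok : cert.stepsOK 66560 cat1_65 = true ∧ ruleBound spec.length cat1_65 = true :=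
  stepsOK_cat cat0_130_ok cat0_131_ok (by rw [cat0_130_len])

def cat1_66 : List (ℕ × ℕ) := cat0_132 ++ cat0_133

theorem cat1_66_len : cat1_66.length = 1024 := by rw [cat1_66, List.length_append, cat0_132_len, cat0_133_len]

theorem cat1_66_ok : cert.stepsOK 67584 cat1_66 = true ∧ ruleBound spec.length cat1_66 = true :=
  stepsOK_cat cat0_132_ok cat0_133_ok (by rw [cat0_132_len])

def cat1_67 : List (ℕ × ℕ) := cat0_134 ++ cat0_135

theorem cat1_67_len : cat1_67.length = 1024 := by rw [cat1_67, List.length_append, cat0_134_len, cat0_135_len]

theorem cat1_67_ok : cert.stepsOK 68608 cat1_67 = true ∧ ruleBound spec.length cat1_67 = true :=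
  stepsOK_cat cat0_134_ok cat0_135_ok (by rw [cat0_134_len])

def cat1_68 : List (ℕ × ℕ) := cat0_136 ++ cat0_137

theorem cat1_68_len : cat1_68.length = 1024 := by rw [cat1_68, List.length_append, cat0_136_len, cat0_137_len]

theorem cat1_68_ok : cert.stepsOK 69632 cat1_68 = true ∧ ruleBound spec.length cat1_68 = true :=
  stepsOK_cat cat0_136_ok cat0_137_ok (by rw [cat0_136_len])

def cat1_69 : List (ℕ × ℕ) := cat0_138 ++ cat0_139

theorem cat1_69_len : cat1_69.length = 1024 := by rw [cat1_69, List.length_append, cat0_138_len, cat0_139_len]

theorem cat1_69_ok : cert.stepsOK 70656 cat1_69 = true ∧ ruleBound spec.length cat1_69 = true :=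
  stepsOK_cat cat0_138_ok cat0_139_ok (by rw [cat0_138_len])

def cat1_70 : List (ℕ × ℕ) := cat0_140 ++ cat0_141

theorem cat1_70_len : cat1_70.length = 1024 := by rw [cat1_70, List.length_append, cat0_140_len, cat0_141_len]

theorem cat1_70_ok : cert.stepsOK 71680 cat1_70 = true ∧ ruleBound spec.length cat1_70 = true :=
  stepsOK_cat cat0_140_ok cat0_141_ok (by rw [cat0_140_len])

def cat1_71 : List (ℕ × ℕ) := cat0_142 ++ cat0_143

theorem cat1_71_len : cat1_71.length = 1024 := by rw [cat1_71, List.length_append, cat0_142_len, cat0_143_len]

theorem cat1_71_ok : cert.stepsOK 72704 cat1_71 = true ∧ ruleBound spec.length cat1_71 = true :=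
  stepsOK_cat cat0_142_ok cat0_143_ok (by rw [cat0_142_len])

def cat1_72 : List (ℕ × ℕ) := cat0_144 ++ cat0_145

theorem cat1_72_len : cat1_72.length = 1024 := by rw [cat1_72, List.length_append, cat0_144_len, cat0_145_len]

theorem cat1_72_ok : cert.stepsOK 73728 cat1_72 = true ∧ ruleBound spec.length cat1_72 = true :=
  stepsOK_cat cat0_144_ok cat0_145_ok (by rw [cat0_144_len])

def cat1_73 : List (ℕ × ℕ) := cat0_146 ++ cat0_147

theorem cat1_73_len : cat1_73.length = 1024 := by rw [cat1_73, List.length_append, cat0_146_len, cat0_147_len]

theorem cat1_73_ok : cert.stepsOK 74752 cat1_73 = true ∧ ruleBound spec.length cat1_73 = true :=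
  stepsOK_cat cat0_146_ok cat0_147_ok (by rw [cat0_146_len])

def cat1_74 : List (ℕ × ℕ) := cat0_148 ++ cat0_149

theorem cat1_74_len : cat1_74.length = 1024 := by rw [cat1_74, List.length_append, cat0_148_len, cat0_149_len]

theorem cat1_74_ok : cert.stepsOK 75776 cat1_74 = true ∧ ruleBound spec.length cat1_74 = true :=
  stepsOK_cat cat0_148_ok cat0_149_ok (by rw [cat0_148_len])

def cat1_75 : List (ℕ × ℕ) := cat0_150 ++ cat0_151

theorem cat1_75_len : cat1_75.length = 1024 := by rw [cat1_75, List.length_append, cat0_150_len, cat0_151_len]

theorem cat1_75_ok : cert.stepsOK 76800 cat1_75 = true ∧ ruleBound spec.length cat1_75 = true :=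
  stepsOK_cat cat0_150_ok cat0_151_ok (by rw [cat0_150_len])

def cat1_76 : List (ℕ × ℕ) := cat0_152 ++ cat0_153

theorem cat1_76_len : cat1_76.length = 1024 := by rw [cat1_76, List.length_append, cat0_152_len, cat0_153_len]

theorem cat1_76_ok : cert.stepsOK 77824 cat1_76 = true ∧ ruleBound spec.length cat1_76 = true :=
  stepsOK_cat cat0_152_ok cat0_153_ok (by rw [cat0_152_len])

def cat1_77 : List (ℕ × ℕ) := cat0_154 ++ cat0_155

theorem cat1_77_len : cat1_77.length = 1024 := by rw [cat1_77, List.length_append, cat0_154_len, cat0_155_len]

theorem cat1_77_ok : cert.stepsOK 78848 cat1_77 = true ∧ ruleBound spec.length cat1_77 = true :=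
  stepsOK_cat cat0_154_ok cat0_155_ok (by rw [cat0_154_len])

def cat1_78 : List (ℕ × ℕ) := cat0_156 ++ cat0_157

theorem cat1_78_len : cat1_78.length = 1024 := by rw [cat1_78, List.length_append, cat0_156_len, cat0_157_len]

theorem cat1_78_ok : cert.stepsOK 79872 cat1_78 = true ∧ ruleBound spec.length cat1_78 = true :=
  stepsOK_cat cat0_156_ok cat0_157_ok (by rw [cat0_156_len])

def cat1_79 : List (ℕ × ℕ) := cat0_158 ++ cat0_159

theorem cat1_79_len : cat1_79.length = 1024 := by rw [cat1_79, List.length_append, cat0_158_len, cat0_159_len]

theorem cat1_79_ok : cert.stepsOK 80896 cat1_79 = true ∧ ruleBound spec.length cat1_79 = true :=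
  stepsOK_cat cat0_158_ok cat0_159_ok (by rw [cat0_158_len])

def cat1_80 : List (ℕ × ℕ) := cat0_160 ++ cat0_161

theorem cat1_80_len : cat1_80.length = 1024 := by rw [cat1_80, List.length_append, cat0_160_len, cat0_161_len]

theorem cat1_80_ok : cert.stepsOK 81920 cat1_80 = true ∧ ruleBound spec.length cat1_80 = true :=
  stepsOK_cat cat0_160_ok cat0_161_ok (by rw [cat0_160_len])

def cat1_81 : List (ℕ × ℕ) := cat0_162 ++ cat0_163

theorem cat1_81_len : cat1_81.length = 1024 := by rw [cat1_81, List.length_append, cat0_162_len, cat0_163_len]

theorem cat1_81_ok : cert.stepsOK 82944 cat1_81 = true ∧ ruleBound spec.length cat1_81 = true :=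
  stepsOK_cat cat0_162_ok cat0_163_ok (by rw [cat0_162_len])

def cat1_82 : List (ℕ × ℕ) := cat0_164 ++ cat0_165

theorem cat1_82_len : cat1_82.length = 1024 := by rw [cat1_82, List.length_append, cat0_164_len, cat0_165_len]

theorem cat1_82_ok : cert.stepsOK 83968 cat1_82 = true ∧ ruleBound spec.length cat1_82 = true :=
  stepsOK_cat cat0_164_ok cat0_165_ok (by rw [cat0_164_len])

def cat1_83 : List (ℕ × ℕ) := cat0_166 ++ cat0_167

theorem cat1_83_len : cat1_83.length = 1024 := by rw [cat1_83, List.length_append, cat0_166_len, cat0_167_len]

theorem cat1_83_ok : cert.stepsOK 84992 cat1_83 = true ∧ ruleBound spec.length cat1_83 = true :=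
  stepsOK_cat cat0_166_ok cat0_167_ok (by rw [cat0_166_len])

def cat1_84 : List (ℕ × ℕ) := cat0_168 ++ cat0_169

theorem cat1_84_len : cat1_84.length = 1024 := by rw [cat1_84, List.length_append, cat0_168_len, cat0_169_len]

theorem cat1_84_ok : cert.stepsOK 86016 cat1_84 = true ∧ ruleBound spec.length cat1_84 = true :=
  stepsOK_cat cat0_168_ok cat0_169_ok (by rw [cat0_168_len])

def cat1_85 : List (ℕ × ℕ) := cat0_170 ++ cat0_171

theorem cat1_85_len : cat1_85.length = 1024 := by rw [cat1_85, List.length_append, cat0_170_len, cat0_171_len]

theorem cat1_85_ok : cert.stepsOK 87040 cat1_85 = true ∧ ruleBound spec.length cat1_85 = true :=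
  stepsOK_cat cat0_170_ok cat0_171_ok (by rw [cat0_170_len])

def cat1_86 : List (ℕ × ℕ) := cat0_172 ++ cat0_173

theorem cat1_86_len : cat1_86.length = 1024 := by rw [cat1_86, List.length_append, cat0_172_len, cat0_173_len]

theorem cat1_86_ok : cert.stepsOK 88064 cat1_86 = true ∧ ruleBound spec.length cat1_86 = true :=
  stepsOK_cat cat0_172_ok cat0_173_ok (by rw [cat0_172_len])

def cat1_87 : List (ℕ × ℕ) := cat0_174 ++ cat0_175

theorem cat1_87_len : cat1_87.length = 1024 := by rw [cat1_87, List.length_append, cat0_174_len, cat0_175_len]

theorem cat1_87_ok : cert.stepsOK 89088 cat1_87 = true ∧ ruleBound spec.length cat1_87 = true :=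
  stepsOK_cat cat0_174_ok cat0_175_ok (by rw [cat0_174_len])

def cat1_88 : List (ℕ × ℕ) := cat0_176 ++ cat0_177

theorem cat1_88_len : cat1_88.length = 1024 := by rw [cat1_88, List.length_append, cat0_176_len, cat0_177_len]

theorem cat1_88_ok : cert.stepsOK 90112 cat1_88 = true ∧ ruleBound spec.length cat1_88 = true :=
  stepsOK_cat cat0_176_ok cat0_177_ok (by rw [cat0_176_len])

def cat1_89 : List (ℕ × ℕ) := cat0_178 ++ cat0_179

theorem cat1_89_len : cat1_89.length = 1024 := by rw [cat1_89, List.length_append, cat0_178_len, cat0_179_len]

theorem cat1_89_ok : cert.stepsOK 91136 cat1_89 = true ∧ ruleBound spec.length cat1_89 = true :=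
  stepsOK_cat cat0_178_ok cat0_179_ok (by rw [cat0_178_len])

def cat1_90 : List (ℕ × ℕ) := cat0_180 ++ cat0_181

theorem cat1_90_len : cat1_90.length = 1024 := by rw [cat1_90, List.length_append, cat0_180_len, cat0_181_len]

theorem cat1_90_ok : cert.stepsOK 92160 cat1_90 = true ∧ ruleBound spec.length cat1_90 = true :=
  stepsOK_cat cat0_180_ok cat0_181_ok (by rw [cat0_180_len])

def cat1_91 : List (ℕ × ℕ) := cat0_182 ++ cat0_183

theorem cat1_91_len : cat1_91.length = 1024 := by rw [cat1_91, List.length_append, cat0_182_len, cat0_183_len]

theorem cat1_91_ok : cert.stepsOK 93184 cat1_91 = true ∧ ruleBound spec.length cat1_91 = true :=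
  stepsOK_cat cat0_182_ok cat0_183_ok (by rw [cat0_182_len])

def cat1_92 : List (ℕ × ℕ) := cat0_184 ++ cat0_185

theorem cat1_92_len : cat1_92.length = 1024 := by rw [cat1_92, List.length_append, cat0_184_len, cat0_185_len]

theorem cat1_92_ok : cert.stepsOK 94208 cat1_92 = true ∧ ruleBound spec.length cat1_92 = true :=
  stepsOK_cat cat0_184_ok cat0_185_ok (by rw [cat0_184_len])

def cat1_93 : List (ℕ × ℕ) := cat0_186 ++ cat0_187

theorem cat1_93_len : cat1_93.length = 1024 := by rw [cat1_93, List.length_append, cat0_186_len, cat0_187_len]

theorem cat1_93_ok : cert.stepsOK 95232 cat1_93 = true ∧ ruleBound spec.length cat1_93 = true :=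
  stepsOK_cat cat0_186_ok cat0_187_ok (by rw [cat0_186_len])

def cat1_94 : List (ℕ × ℕ) := cat0_188 ++ cat0_189

theorem cat1_94_len : cat1_94.length = 1024 := by rw [cat1_94, List.length_append, cat0_188_len, cat0_189_len]

theorem cat1_94_ok : cert.stepsOK 96256 cat1_94 = true ∧ ruleBound spec.length cat1_94 = true :=
  stepsOK_cat cat0_188_ok cat0_189_ok (by rw [cat0_188_len])

def cat1_95 : List (ℕ × ℕ) := cat0_190 ++ cat0_191

theorem cat1_95_len : cat1_95.length = 1024 := by rw [cat1_95, List.length_append, cat0_190_len, cat0_191_len]

theorem cat1_95_ok : cert.stepsOK 97280 cat1_95 = true ∧ ruleBound spec.length cat1_95 = true :=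
  stepsOK_cat cat0_190_ok cat0_191_ok (by rw [cat0_190_len])

def cat1_96 : List (ℕ × ℕ) := cat0_192 ++ cat0_193

theorem cat1_96_len : cat1_96.length = 1024 := by rw [cat1_96, List.length_append, cat0_192_len, cat0_193_len]

theorem cat1_96_ok : cert.stepsOK 98304 cat1_96 = true ∧ ruleBound spec.length cat1_96 = true :=
  stepsOK_cat cat0_192_ok cat0_193_ok (by rw [cat0_192_len])

def cat1_97 : List (ℕ × ℕ) := cat0_194 ++ cat0_195

theorem cat1_97_len : cat1_97.length = 1024 := by rw [cat1_97, List.length_append, cat0_194_len, cat0_195_len]

theorem cat1_97_ok : cert.stepsOK 99328 cat1_97 = true ∧ ruleBound spec.length cat1_97 = true :=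
  stepsOK_cat cat0_194_ok cat0_195_ok (by rw [cat0_194_len])

def cat1_98 : List (ℕ × ℕ) := cat0_196 ++ cat0_197

theorem cat1_98_len : cat1_98.length = 1024 := by rw [cat1_98, List.length_append, cat0_196_len, cat0_197_len]

theorem cat1_98_ok : cert.stepsOK 100352 cat1_98 = true ∧ ruleBound spec.length cat1_98 = true :=
  stepsOK_cat cat0_196_ok cat0_197_ok (by rw [cat0_196_len])

def cat1_99 : List (ℕ × ℕ) := cat0_198 ++ cat0_199

theorem cat1_99_len : cat1_99.length = 1024 := by rw [cat1_99, List.length_append, cat0_198_len, cat0_199_len]

theorem cat1_99_ok : cert.stepsOK 101376 cat1_99 = true ∧ ruleBound spec.length cat1_99 = true :=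
  stepsOK_cat cat0_198_ok cat0_199_ok (by rw [cat0_198_len])

def cat1_100 : List (ℕ × ℕ) := cat0_200 ++ cat0_201

theorem cat1_100_len : cat1_100.length = 1024 := by rw [cat1_100, List.length_append, cat0_200_len, cat0_201_len]

theorem cat1_100_ok : cert.stepsOK 102400 cat1_100 = true ∧ ruleBound spec.length cat1_100 = true :=
  stepsOK_cat cat0_200_ok cat0_201_ok (by rw [cat0_200_len])

def cat1_101 : List (ℕ × ℕ) := cat0_202 ++ cat0_203

theorem cat1_101_len : cat1_101.length = 1024 := by rw [cat1_101, List.length_append, cat0_202_len, cat0_203_len]

theorem cat1_101_ok : cert.stepsOK 103424 cat1_101 = true ∧ ruleBound spec.length cat1_101 = true :=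
  stepsOK_cat cat0_202_ok cat0_203_ok (by rw [cat0_202_len])

def cat1_102 : List (ℕ × ℕ) := cat0_204 ++ cat0_205

theorem cat1_102_len : cat1_102.length = 1024 := by rw [cat1_102, List.length_append, cat0_204_len, cat0_205_len]

theorem cat1_102_ok : cert.stepsOK 104448 cat1_102 = true ∧ ruleBound spec.length cat1_102 = true :=
  stepsOK_cat cat0_204_ok cat0_205_ok (by rw [cat0_204_len])

def cat1_103 : List (ℕ × ℕ) := cat0_206 ++ cat0_207

theorem cat1_103_len : cat1_103.length = 1024 := by rw [cat1_103, List.length_append, cat0_206_len, cat0_207_len]

theorem cat1_103_ok : cert.stepsOK 105472 cat1_103 = true ∧ ruleBound spec.length cat1_103 = true :=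
  stepsOK_cat cat0_206_ok cat0_207_ok (by rw [cat0_206_len])

def cat1_104 : List (ℕ × ℕ) := cat0_208 ++ cat0_209

theorem cat1_104_len : cat1_104.length = 1024 := by rw [cat1_104, List.length_append, cat0_208_len, cat0_209_len]

theorem cat1_104_ok : cert.stepsOK 106496 cat1_104 = true ∧ ruleBound spec.length cat1_104 = true :=
  stepsOK_cat cat0_208_ok cat0_209_ok (by rw [cat0_208_len])

def cat1_105 : List (ℕ × ℕ) := cat0_210 ++ cat0_211

theorem cat1_105_len : cat1_105.length = 1024 := by rw [cat1_105, List.length_append, cat0_210_len, cat0_211_len]

theorem cat1_105_ok : cert.stepsOK 107520 cat1_105 = true ∧ ruleBound spec.length cat1_105 = true :=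
  stepsOK_cat cat0_210_ok cat0_211_ok (by rw [cat0_210_len])

def cat1_106 : List (ℕ × ℕ) := cat0_212 ++ cat0_213

theorem cat1_106_len : cat1_106.length = 1024 := by rw [cat1_106, List.length_append, cat0_212_len, cat0_213_len]

theorem cat1_106_ok : cert.stepsOK 108544 cat1_106 = true ∧ ruleBound spec.length cat1_106 = true :=
  stepsOK_cat cat0_212_ok cat0_213_ok (by rw [cat0_212_len])

def cat1_107 : List (ℕ × ℕ) := cat0_214 ++ cat0_215

theorem cat1_107_len : cat1_107.length = 1024 := by rw [cat1_107, List.length_append, cat0_214_len, cat0_215_len]

theorem cat1_107_ok : cert.stepsOK 109568 cat1_107 = true ∧ ruleBound spec.length cat1_107 = true :=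
  stepsOK_cat cat0_214_ok cat0_215_ok (by rw [cat0_214_len])

def cat1_108 : List (ℕ × ℕ) := cat0_216 ++ cat0_217

theorem cat1_108_len : cat1_108.length = 1024 := by rw [cat1_108, List.length_append, cat0_216_len, cat0_217_len]

theorem cat1_108_ok : cert.stepsOK 110592 cat1_108 = true ∧ ruleBound spec.length cat1_108 = true :=
  stepsOK_cat cat0_216_ok cat0_217_ok (by rw [cat0_216_len])

def cat1_109 : List (ℕ × ℕ) := cat0_218 ++ cat0_219

theorem cat1_109_len : cat1_109.length = 1024 := by rw [cat1_109, List.length_append, cat0_218_len, cat0_219_len]

theorem cat1_109_ok : cert.stepsOK 111616 cat1_109 = true ∧ ruleBound spec.length cat1_109 = true :=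
  stepsOK_cat cat0_218_ok cat0_219_ok (by rw [cat0_218_len])

def cat1_110 : List (ℕ × ℕ) := cat0_220 ++ cat0_221

theorem cat1_110_len : cat1_110.length = 1024 := by rw [cat1_110, List.length_append, cat0_220_len, cat0_221_len]

theorem cat1_110_ok : cert.stepsOK 112640 cat1_110 = true ∧ ruleBound spec.length cat1_110 = true :=
  stepsOK_cat cat0_220_ok cat0_221_ok (by rw [cat0_220_len])

def cat1_111 : List (ℕ × ℕ) := cat0_222 ++ cat0_223

theorem cat1_111_len : cat1_111.length = 1024 := by rw [cat1_111, List.length_append, cat0_222_len, cat0_223_len]

theorem cat1_111_ok : cert.stepsOK 113664 cat1_111 = true ∧ ruleBound spec.length cat1_111 = true :=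
  stepsOK_cat cat0_222_ok cat0_223_ok (by rw [cat0_222_len])

def cat1_112 : List (ℕ × ℕ) := cat0_224 ++ cat0_225

theorem cat1_112_len : cat1_112.length = 1024 := by rw [cat1_112, List.length_append, cat0_224_len, cat0_225_len]

theorem cat1_112_ok : cert.stepsOK 114688 cat1_112 = true ∧ ruleBound spec.length cat1_112 = true :=
  stepsOK_cat cat0_224_ok cat0_225_ok (by rw [cat0_224_len])

def cat1_113 : List (ℕ × ℕ) := cat0_226 ++ cat0_227

theorem cat1_113_len : cat1_113.length = 1024 := by rw [cat1_113, List.length_append, cat0_226_len, cat0_227_len]

theorem cat1_113_ok : cert.stepsOK 115712 cat1_113 = true ∧ ruleBound spec.length cat1_113 = true :=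
  stepsOK_cat cat0_226_ok cat0_227_ok (by rw [cat0_226_len])

def cat1_114 : List (ℕ × ℕ) := cat0_228 ++ cat0_229

theorem cat1_114_len : cat1_114.length = 1024 := by rw [cat1_114, List.length_append, cat0_228_len, cat0_229_len]

theorem cat1_114_ok : cert.stepsOK 116736 cat1_114 = true ∧ ruleBound spec.length cat1_114 = true :=
  stepsOK_cat cat0_228_ok cat0_229_ok (by rw [cat0_228_len])

def cat1_115 : List (ℕ × ℕ) := cat0_230 ++ cat0_231

theorem cat1_115_len : cat1_115.length = 1024 := by rw [cat1_115, List.length_append, cat0_230_len, cat0_231_len]

theorem cat1_115_ok : cert.stepsOK 117760 cat1_115 = true ∧ ruleBound spec.length cat1_115 = true :=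
  stepsOK_cat cat0_230_ok cat0_231_ok (by rw [cat0_230_len])

def cat1_116 : List (ℕ × ℕ) := cat0_232 ++ cat0_233

theorem cat1_116_len : cat1_116.length = 1024 := by rw [cat1_116, List.length_append, cat0_232_len, cat0_233_len]

theorem cat1_116_ok : cert.stepsOK 118784 cat1_116 = true ∧ ruleBound spec.length cat1_116 = true :=
  stepsOK_cat cat0_232_ok cat0_233_ok (by rw [cat0_232_len])

def cat1_117 : List (ℕ × ℕ) := cat0_234 ++ cat0_235

theorem cat1_117_len : cat1_117.length = 1024 := by rw [cat1_117, List.length_append, cat0_234_len, cat0_235_len]

theorem cat1_117_ok : cert.stepsOK 119808 cat1_117 = true ∧ ruleBound spec.length cat1_117 = true :=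
  stepsOK_cat cat0_234_ok cat0_235_ok (by rw [cat0_234_len])

def cat1_118 : List (ℕ × ℕ) := cat0_236 ++ cat0_237

theorem cat1_118_len : cat1_118.length = 1024 := by rw [cat1_118, List.length_append, cat0_236_len, cat0_237_len]

theorem cat1_118_ok : cert.stepsOK 120832 cat1_118 = true ∧ ruleBound spec.length cat1_118 = true :=
  stepsOK_cat cat0_236_ok cat0_237_ok (by rw [cat0_236_len])

def cat1_119 : List (ℕ × ℕ) := cat0_238 ++ cat0_239

theorem cat1_119_len : cat1_119.length = 1024 := by rw [cat1_119, List.length_append, cat0_238_len, cat0_239_len]

theorem cat1_119_ok : cert.stepsOK 121856 cat1_119 = true ∧ ruleBound spec.length cat1_119 = true :=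
  stepsOK_cat cat0_238_ok cat0_239_ok (by rw [cat0_238_len])

def cat1_120 : List (ℕ × ℕ) := cat0_240 ++ cat0_241

theorem cat1_120_len : cat1_120.length = 1024 := by rw [cat1_120, List.length_append, cat0_240_len, cat0_241_len]

theorem cat1_120_ok : cert.stepsOK 122880 cat1_120 = true ∧ ruleBound spec.length cat1_120 = true :=
  stepsOK_cat cat0_240_ok cat0_241_ok (by rw [cat0_240_len])

def cat1_121 : List (ℕ × ℕ) := cat0_242 ++ cat0_243

theorem cat1_121_len : cat1_121.length = 1024 := by rw [cat1_121, List.length_append, cat0_242_len, cat0_243_len]

theorem cat1_121_ok : cert.stepsOK 123904 cat1_121 = true ∧ ruleBound spec.length cat1_121 = true :=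
  stepsOK_cat cat0_242_ok cat0_243_ok (by rw [cat0_242_len])

def cat1_122 : List (ℕ × ℕ) := cat0_244 ++ cat0_245

theorem cat1_122_len : cat1_122.length = 1024 := by rw [cat1_122, List.length_append, cat0_244_len, cat0_245_len]

theorem cat1_122_ok : cert.stepsOK 124928 cat1_122 = true ∧ ruleBound spec.length cat1_122 = true :=
  stepsOK_cat cat0_244_ok cat0_245_ok (by rw [cat0_244_len])

def cat1_123 : List (ℕ × ℕ) := cat0_246 ++ cat0_247

theorem cat1_123_len : cat1_123.length = 1024 := by rw [cat1_123, List.length_append, cat0_246_len, cat0_247_len]

theorem cat1_123_ok : cert.stepsOK 125952 cat1_123 = true ∧ ruleBound spec.length cat1_123 = true :=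
  stepsOK_cat cat0_246_ok cat0_247_ok (by rw [cat0_246_len])

def cat1_124 : List (ℕ × ℕ) := cat0_248 ++ cat0_249

theorem cat1_124_len : cat1_124.length = 1024 := by rw [cat1_124, List.length_append, cat0_248_len, cat0_249_len]

theorem cat1_124_ok : cert.stepsOK 126976 cat1_124 = true ∧ ruleBound spec.length cat1_124 = true :=
  stepsOK_cat cat0_248_ok cat0_249_ok (by rw [cat0_248_len])

def cat1_125 : List (ℕ × ℕ) := cat0_250 ++ cat0_251

theorem cat1_125_len : cat1_125.length = 1024 := by rw [cat1_125, List.length_append, cat0_250_len, cat0_251_len]

theorem cat1_125_ok : cert.stepsOK 128000 cat1_125 = true ∧ ruleBound spec.length cat1_125 = true :=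
  stepsOK_cat cat0_250_ok cat0_251_ok (by rw [cat0_250_len])

def cat1_126 : List (ℕ × ℕ) := cat0_252 ++ cat0_253

theorem cat1_126_len : cat1_126.length = 1024 := by rw [cat1_126, List.length_append, cat0_252_len, cat0_253_len]

theorem cat1_126_ok : cert.stepsOK 129024 cat1_126 = true ∧ ruleBound spec.length cat1_126 = true :=
  stepsOK_cat cat0_252_ok cat0_253_ok (by rw [cat0_252_len])

def cat1_127 : List (ℕ × ℕ) := cat0_254 ++ cat0_255

theorem cat1_127_len : cat1_127.length = 1024 := by rw [cat1_127, List.length_append, cat0_254_len, cat0_255_len]

theorem cat1_127_ok : cert.stepsOK 130048 cat1_127 = true ∧ ruleBound spec.length cat1_127 = true :=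
  stepsOK_cat cat0_254_ok cat0_255_ok (by rw [cat0_254_len])

def cat1_128 : List (ℕ × ℕ) := cat0_256 ++ cat0_257

theorem cat1_128_len : cat1_128.length = 1024 := by rw [cat1_128, List.length_append, cat0_256_len, cat0_257_len]

theorem cat1_128_ok : cert.stepsOK 131072 cat1_128 = true ∧ ruleBound spec.length cat1_128 = true :=
  stepsOK_cat cat0_256_ok cat0_257_ok (by rw [cat0_256_len])

def cat1_129 : List (ℕ × ℕ) := cat0_258 ++ cat0_259

theorem cat1_129_len : cat1_129.length = 1024 := by rw [cat1_129, List.length_append, cat0_258_len, cat0_259_len]

theorem cat1_129_ok : cert.stepsOK 132096 cat1_129 = true ∧ ruleBound spec.length cat1_129 = true :=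
  stepsOK_cat cat0_258_ok cat0_259_ok (by rw [cat0_258_len])

def cat1_130 : List (ℕ × ℕ) := cat0_260 ++ cat0_261

theorem cat1_130_len : cat1_130.length = 1024 := by rw [cat1_130, List.length_append, cat0_260_len, cat0_261_len]

theorem cat1_130_ok : cert.stepsOK 133120 cat1_130 = true ∧ ruleBound spec.length cat1_130 = true :=
  stepsOK_cat cat0_260_ok cat0_261_ok (by rw [cat0_260_len])

def cat1_131 : List (ℕ × ℕ) := cat0_262 ++ cat0_263

theorem cat1_131_len : cat1_131.length = 1024 := by rw [cat1_131, List.length_append, cat0_262_len, cat0_263_len]

theorem cat1_131_ok : cert.stepsOK 134144 cat1_131 = true ∧ ruleBound spec.length cat1_131 = true :=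
  stepsOK_cat cat0_262_ok cat0_263_ok (by rw [cat0_262_len])

def cat1_132 : List (ℕ × ℕ) := cat0_264 ++ cat0_265

theorem cat1_132_len : cat1_132.length = 1024 := by rw [cat1_132, List.length_append, cat0_264_len, cat0_265_len]

theorem cat1_132_ok : cert.stepsOK 135168 cat1_132 = true ∧ ruleBound spec.length cat1_132 = true :=
  stepsOK_cat cat0_264_ok cat0_265_ok (by rw [cat0_264_len])

def cat1_133 : List (ℕ × ℕ) := cat0_266 ++ cat0_267

theorem cat1_133_len : cat1_133.length = 1024 := by rw [cat1_133, List.length_append, cat0_266_len, cat0_267_len]

theorem cat1_133_ok : cert.stepsOK 136192 cat1_133 = true ∧ ruleBound spec.length cat1_133 = true :=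
  stepsOK_cat cat0_266_ok cat0_267_ok (by rw [cat0_266_len])

def cat1_134 : List (ℕ × ℕ) := cat0_268 ++ cat0_269

theorem cat1_134_len : cat1_134.length = 1024 := by rw [cat1_134, List.length_append, cat0_268_len, cat0_269_len]

theorem cat1_134_ok : cert.stepsOK 137216 cat1_134 = true ∧ ruleBound spec.length cat1_134 = true :=
  stepsOK_cat cat0_268_ok cat0_269_ok (by rw [cat0_268_len])

def cat1_135 : List (ℕ × ℕ) := cat0_270 ++ cat0_271

theorem cat1_135_len : cat1_135.length = 1024 := by rw [cat1_135, List.length_append, cat0_270_len, cat0_271_len]

theorem cat1_135_ok : cert.stepsOK 138240 cat1_135 = true ∧ ruleBound spec.length cat1_135 = true :=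
  stepsOK_cat cat0_270_ok cat0_271_ok (by rw [cat0_270_len])

def cat1_136 : List (ℕ × ℕ) := cat0_272 ++ cat0_273

theorem cat1_136_len : cat1_136.length = 1024 := by rw [cat1_136, List.length_append, cat0_272_len, cat0_273_len]

theorem cat1_136_ok : cert.stepsOK 139264 cat1_136 = true ∧ ruleBound spec.length cat1_136 = true :=
  stepsOK_cat cat0_272_ok cat0_273_ok (by rw [cat0_272_len])

def cat1_137 : List (ℕ × ℕ) := cat0_274 ++ cat0_275

theorem cat1_137_len : cat1_137.length = 1024 := by rw [cat1_137, List.length_append, cat0_274_len, cat0_275_len]

theorem cat1_137_ok : cert.stepsOK 140288 cat1_137 = true ∧ ruleBound spec.length cat1_137 = true :=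
  stepsOK_cat cat0_274_ok cat0_275_ok (by rw [cat0_274_len])

def cat1_138 : List (ℕ × ℕ) := cat0_276 ++ cat0_277

theorem cat1_138_len : cat1_138.length = 1024 := by rw [cat1_138, List.length_append, cat0_276_len, cat0_277_len]

theorem cat1_138_ok : cert.stepsOK 141312 cat1_138 = true ∧ ruleBound spec.length cat1_138 = true :=
  stepsOK_cat cat0_276_ok cat0_277_ok (by rw [cat0_276_len])

def cat1_139 : List (ℕ × ℕ) := cat0_278 ++ cat0_279

theorem cat1_139_len : cat1_139.length = 1024 := by rw [cat1_139, List.length_append, cat0_278_len, cat0_279_len]

theorem cat1_139_ok : cert.stepsOK 142336 cat1_139 = true ∧ ruleBound spec.length cat1_139 = true :=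
  stepsOK_cat cat0_278_ok cat0_279_ok (by rw [cat0_278_len])

def cat1_140 : List (ℕ × ℕ) := cat0_280 ++ cat0_281

theorem cat1_140_len : cat1_140.length = 1024 := by rw [cat1_140, List.length_append, cat0_280_len, cat0_281_len]

theorem cat1_140_ok : cert.stepsOK 143360 cat1_140 = true ∧ ruleBound spec.length cat1_140 = true :=
  stepsOK_cat cat0_280_ok cat0_281_ok (by rw [cat0_280_len])

def cat1_141 : List (ℕ × ℕ) := cat0_282 ++ cat0_283

theorem cat1_141_len : cat1_141.length = 1024 := by rw [cat1_141, List.length_append, cat0_282_len, cat0_283_len]

theorem cat1_141_ok : cert.stepsOK 144384 cat1_141 = true ∧ ruleBound spec.length cat1_141 = true :=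
  stepsOK_cat cat0_282_ok cat0_283_ok (by rw [cat0_282_len])

def cat1_142 : List (ℕ × ℕ) := cat0_284 ++ cat0_285

theorem cat1_142_len : cat1_142.length = 1024 := by rw [cat1_142, List.length_append, cat0_284_len, cat0_285_len]

theorem cat1_142_ok : cert.stepsOK 145408 cat1_142 = true ∧ ruleBound spec.length cat1_142 = true :=
  stepsOK_cat cat0_284_ok cat0_285_ok (by rw [cat0_284_len])

def cat1_143 : List (ℕ × ℕ) := cat0_286 ++ cat0_287

theorem cat1_143_len : cat1_143.length = 1024 := by rw [cat1_143, List.length_append, cat0_286_len, cat0_287_len]

theorem cat1_143_ok : cert.stepsOK 146432 cat1_143 = true ∧ ruleBound spec.length cat1_143 = true :=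
  stepsOK_cat cat0_286_ok cat0_287_ok (by rw [cat0_286_len])

def cat1_144 : List (ℕ × ℕ) := cat0_288 ++ cat0_289

theorem cat1_144_len : cat1_144.length = 1024 := by rw [cat1_144, List.length_append, cat0_288_len, cat0_289_len]

theorem cat1_144_ok : cert.stepsOK 147456 cat1_144 = true ∧ ruleBound spec.length cat1_144 = true :=
  stepsOK_cat cat0_288_ok cat0_289_ok (by rw [cat0_288_len])

def cat1_145 : List (ℕ × ℕ) := cat0_290 ++ cat0_291

theorem cat1_145_len : cat1_145.length = 1024 := by rw [cat1_145, List.length_append, cat0_290_len, cat0_291_len]

theorem cat1_145_ok : cert.stepsOK 148480 cat1_145 = true ∧ ruleBound spec.length cat1_145 = true :=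
  stepsOK_cat cat0_290_ok cat0_291_ok (by rw [cat0_290_len])

def cat1_146 : List (ℕ × ℕ) := cat0_292 ++ cat0_293

theorem cat1_146_len : cat1_146.length = 1024 := by rw [cat1_146, List.length_append, cat0_292_len, cat0_293_len]

theorem cat1_146_ok : cert.stepsOK 149504 cat1_146 = true ∧ ruleBound spec.length cat1_146 = true :=
  stepsOK_cat cat0_292_ok cat0_293_ok (by rw [cat0_292_len])

def cat1_147 : List (ℕ × ℕ) := cat0_294 ++ cat0_295

theorem cat1_147_len : cat1_147.length = 1024 := by rw [cat1_147, List.length_append, cat0_294_len, cat0_295_len]

theorem cat1_147_ok : cert.stepsOK 150528 cat1_147 = true ∧ ruleBound spec.length cat1_147 = true :=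
  stepsOK_cat cat0_294_ok cat0_295_ok (by rw [cat0_294_len])

def cat1_148 : List (ℕ × ℕ) := cat0_296 ++ cat0_297

theorem cat1_148_len : cat1_148.length = 1024 := by rw [cat1_148, List.length_append, cat0_296_len, cat0_297_len]

theorem cat1_148_ok : cert.stepsOK 151552 cat1_148 = true ∧ ruleBound spec.length cat1_148 = true :=
  stepsOK_cat cat0_296_ok cat0_297_ok (by rw [cat0_296_len])

def cat1_149 : List (ℕ × ℕ) := cat0_298 ++ cat0_299

theorem cat1_149_len : cat1_149.length = 1024 := by rw [cat1_149, List.length_append, cat0_298_len, cat0_299_len]

theorem cat1_149_ok : cert.stepsOK 152576 cat1_149 = true ∧ ruleBound spec.length cat1_149 = true :=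
  stepsOK_cat cat0_298_ok cat0_299_ok (by rw [cat0_298_len])

def cat1_150 : List (ℕ × ℕ) := cat0_300 ++ cat0_301

theorem cat1_150_len : cat1_150.length = 1024 := by rw [cat1_150, List.length_append, cat0_300_len, cat0_301_len]

theorem cat1_150_ok : cert.stepsOK 153600 cat1_150 = true ∧ ruleBound spec.length cat1_150 = true :=
  stepsOK_cat cat0_300_ok cat0_301_ok (by rw [cat0_300_len])

def cat1_151 : List (ℕ × ℕ) := cat0_302 ++ cat0_303

theorem cat1_151_len : cat1_151.length = 1024 := by rw [cat1_151, List.length_append, cat0_302_len, cat0_303_len]

theorem cat1_151_ok : cert.stepsOK 154624 cat1_151 = true ∧ ruleBound spec.length cat1_151 = true :=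
  stepsOK_cat cat0_302_ok cat0_303_ok (by rw [cat0_302_len])

def cat1_152 : List (ℕ × ℕ) := cat0_304 ++ cat0_305

theorem cat1_152_len : cat1_152.length = 1024 := by rw [cat1_152, List.length_append, cat0_304_len, cat0_305_len]

theorem cat1_152_ok : cert.stepsOK 155648 cat1_152 = true ∧ ruleBound spec.length cat1_152 = true :=
  stepsOK_cat cat0_304_ok cat0_305_ok (by rw [cat0_304_len])

def cat1_153 : List (ℕ × ℕ) := cat0_306 ++ cat0_307

theorem cat1_153_len : cat1_153.length = 1024 := by rw [cat1_153, List.length_append, cat0_306_len, cat0_307_len]

theorem cat1_153_ok : cert.stepsOK 156672 cat1_153 = true ∧ ruleBound spec.length cat1_153 = true :=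
  stepsOK_cat cat0_306_ok cat0_307_ok (by rw [cat0_306_len])

def cat1_154 : List (ℕ × ℕ) := cat0_308 ++ cat0_309

theorem cat1_154_len : cat1_154.length = 1024 := by rw [cat1_154, List.length_append, cat0_308_len, cat0_309_len]

theorem cat1_154_ok : cert.stepsOK 157696 cat1_154 = true ∧ ruleBound spec.length cat1_154 = true :=
  stepsOK_cat cat0_308_ok cat0_309_ok (by rw [cat0_308_len])

def cat1_155 : List (ℕ × ℕ) := cat0_310 ++ cat0_311

theorem cat1_155_len : cat1_155.length = 1024 := by rw [cat1_155, List.length_append, cat0_310_len, cat0_311_len]

theorem cat1_155_ok : cert.stepsOK 158720 cat1_155 = true ∧ ruleBound spec.length cat1_155 = true :=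
  stepsOK_cat cat0_310_ok cat0_311_ok (by rw [cat0_310_len])

def cat1_156 : List (ℕ × ℕ) := cat0_312 ++ cat0_313

theorem cat1_156_len : cat1_156.length = 1024 := by rw [cat1_156, List.length_append, cat0_312_len, cat0_313_len]

theorem cat1_156_ok : cert.stepsOK 159744 cat1_156 = true ∧ ruleBound spec.length cat1_156 = true :=
  stepsOK_cat cat0_312_ok cat0_313_ok (by rw [cat0_312_len])

def cat1_157 : List (ℕ × ℕ) := cat0_314 ++ cat0_315

theorem cat1_157_len : cat1_157.length = 1024 := by rw [cat1_157, List.length_append, cat0_314_len, cat0_315_len]

theorem cat1_157_ok : cert.stepsOK 160768 cat1_157 = true ∧ ruleBound spec.length cat1_157 = true :=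
  stepsOK_cat cat0_314_ok cat0_315_ok (by rw [cat0_314_len])

def cat1_158 : List (ℕ × ℕ) := cat0_316 ++ cat0_317

theorem cat1_158_len : cat1_158.length = 1024 := by rw [cat1_158, List.length_append, cat0_316_len, cat0_317_len]

theorem cat1_158_ok : cert.stepsOK 161792 cat1_158 = true ∧ ruleBound spec.length cat1_158 = true :=
  stepsOK_cat cat0_316_ok cat0_317_ok (by rw [cat0_316_len])

def cat1_159 : List (ℕ × ℕ) := cat0_318 ++ cat0_319

theorem cat1_159_len : cat1_159.length = 1024 := by rw [cat1_159, List.length_append, cat0_318_len, cat0_319_len]

theorem cat1_159_ok : cert.stepsOK 162816 cat1_159 = true ∧ ruleBound spec.length cat1_159 = true :=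
  stepsOK_cat cat0_318_ok cat0_319_ok (by rw [cat0_318_len])

def cat1_160 : List (ℕ × ℕ) := cat0_320 ++ cat0_321

theorem cat1_160_len : cat1_160.length = 1024 := by rw [cat1_160, List.length_append, cat0_320_len, cat0_321_len]

theorem cat1_160_ok : cert.stepsOK 163840 cat1_160 = true ∧ ruleBound spec.length cat1_160 = true :=
  stepsOK_cat cat0_320_ok cat0_321_ok (by rw [cat0_320_len])

def cat1_161 : List (ℕ × ℕ) := cat0_322 ++ cat0_323

theorem cat1_161_len : cat1_161.length = 1024 := by rw [cat1_161, List.length_append, cat0_322_len, cat0_323_len]

theorem cat1_161_ok : cert.stepsOK 164864 cat1_161 = true ∧ ruleBound spec.length cat1_161 = true :=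
  stepsOK_cat cat0_322_ok cat0_323_ok (by rw [cat0_322_len])

def cat1_162 : List (ℕ × ℕ) := cat0_324 ++ cat0_325

theorem cat1_162_len : cat1_162.length = 1024 := by rw [cat1_162, List.length_append, cat0_324_len, cat0_325_len]

theorem cat1_162_ok : cert.stepsOK 165888 cat1_162 = true ∧ ruleBound spec.length cat1_162 = true :=
  stepsOK_cat cat0_324_ok cat0_325_ok (by rw [cat0_324_len])

def cat1_163 : List (ℕ × ℕ) := cat0_326 ++ cat0_327

theorem cat1_163_len : cat1_163.length = 1024 := by rw [cat1_163, List.length_append, cat0_326_len, cat0_327_len]

theorem cat1_163_ok : cert.stepsOK 166912 cat1_163 = true ∧ ruleBound spec.length cat1_163 = true :=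
  stepsOK_cat cat0_326_ok cat0_327_ok (by rw [cat0_326_len])

def cat1_164 : List (ℕ × ℕ) := cat0_328 ++ cat0_329

theorem cat1_164_len : cat1_164.length = 1024 := by rw [cat1_164, List.length_append, cat0_328_len, cat0_329_len]

theorem cat1_164_ok : cert.stepsOK 167936 cat1_164 = true ∧ ruleBound spec.length cat1_164 = true :=
  stepsOK_cat cat0_328_ok cat0_329_ok (by rw [cat0_328_len])

def cat1_165 : List (ℕ × ℕ) := cat0_330 ++ cat0_331

theorem cat1_165_len : cat1_165.length = 1024 := by rw [cat1_165, List.length_append, cat0_330_len, cat0_331_len]

theorem cat1_165_ok : cert.stepsOK 168960 cat1_165 = true ∧ ruleBound spec.length cat1_165 = true :=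
  stepsOK_cat cat0_330_ok cat0_331_ok (by rw [cat0_330_len])

def cat1_166 : List (ℕ × ℕ) := cat0_332 ++ cat0_333

theorem cat1_166_len : cat1_166.length = 1024 := by rw [cat1_166, List.length_append, cat0_332_len, cat0_333_len]

theorem cat1_166_ok : cert.stepsOK 169984 cat1_166 = true ∧ ruleBound spec.length cat1_166 = true :=
  stepsOK_cat cat0_332_ok cat0_333_ok (by rw [cat0_332_len])

def cat1_167 : List (ℕ × ℕ) := cat0_334 ++ cat0_335

theorem cat1_167_len : cat1_167.length = 1024 := by rw [cat1_167, List.length_append, cat0_334_len, cat0_335_len]

theorem cat1_167_ok : cert.stepsOK 171008 cat1_167 = true ∧ ruleBound spec.length cat1_167 = true :=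
  stepsOK_cat cat0_334_ok cat0_335_ok (by rw [cat0_334_len])

def cat1_168 : List (ℕ × ℕ) := cat0_336 ++ cat0_337

theorem cat1_168_len : cat1_168.length = 1024 := by rw [cat1_168, List.length_append, cat0_336_len, cat0_337_len]

theorem cat1_168_ok : cert.stepsOK 172032 cat1_168 = true ∧ ruleBound spec.length cat1_168 = true :=
  stepsOK_cat cat0_336_ok cat0_337_ok (by rw [cat0_336_len])

def cat1_169 : List (ℕ × ℕ) := cat0_338 ++ cat0_339

theorem cat1_169_len : cat1_169.length = 1024 := by rw [cat1_169, List.length_append, cat0_338_len, cat0_339_len]

theorem cat1_169_ok : cert.stepsOK 173056 cat1_169 = true ∧ ruleBound spec.length cat1_169 = true :=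
  stepsOK_cat cat0_338_ok cat0_339_ok (by rw [cat0_338_len])

def cat1_170 : List (ℕ × ℕ) := cat0_340 ++ cat0_341

theorem cat1_170_len : cat1_170.length = 1024 := by rw [cat1_170, List.length_append, cat0_340_len, cat0_341_len]

theorem cat1_170_ok : cert.stepsOK 174080 cat1_170 = true ∧ ruleBound spec.length cat1_170 = true :=
  stepsOK_cat cat0_340_ok cat0_341_ok (by rw [cat0_340_len])

def cat1_171 : List (ℕ × ℕ) := cat0_342 ++ cat0_343

theorem cat1_171_len : cat1_171.length = 1024 := by rw [cat1_171, List.length_append, cat0_342_len, cat0_343_len]

theorem cat1_171_ok : cert.stepsOK 175104 cat1_171 = true ∧ ruleBound spec.length cat1_171 = true :=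
  stepsOK_cat cat0_342_ok cat0_343_ok (by rw [cat0_342_len])

def cat1_172 : List (ℕ × ℕ) := cat0_344 ++ cat0_345

theorem cat1_172_len : cat1_172.length = 1024 := by rw [cat1_172, List.length_append, cat0_344_len, cat0_345_len]

theorem cat1_172_ok : cert.stepsOK 176128 cat1_172 = true ∧ ruleBound spec.length cat1_172 = true :=
  stepsOK_cat cat0_344_ok cat0_345_ok (by rw [cat0_344_len])

def cat1_173 : List (ℕ × ℕ) := cat0_346 ++ cat0_347

theorem cat1_173_len : cat1_173.length = 1024 := by rw [cat1_173, List.length_append, cat0_346_len, cat0_347_len]

theorem cat1_173_ok : cert.stepsOK 177152 cat1_173 = true ∧ ruleBound spec.length cat1_173 = true :=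
  stepsOK_cat cat0_346_ok cat0_347_ok (by rw [cat0_346_len])

def cat1_174 : List (ℕ × ℕ) := cat0_348 ++ cat0_349

theorem cat1_174_len : cat1_174.length = 1024 := by rw [cat1_174, List.length_append, cat0_348_len, cat0_349_len]

theorem cat1_174_ok : cert.stepsOK 178176 cat1_174 = true ∧ ruleBound spec.length cat1_174 = true :=
  stepsOK_cat cat0_348_ok cat0_349_ok (by rw [cat0_348_len])

def cat1_175 : List (ℕ × ℕ) := cat0_350 ++ cat0_351

theorem cat1_175_len : cat1_175.length = 1024 := by rw [cat1_175, List.length_append, cat0_350_len, cat0_351_len]

theorem cat1_175_ok : cert.stepsOK 179200 cat1_175 = true ∧ ruleBound spec.length cat1_175 = true :=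
  stepsOK_cat cat0_350_ok cat0_351_ok (by rw [cat0_350_len])

def cat1_176 : List (ℕ × ℕ) := cat0_352 ++ cat0_353

theorem cat1_176_len : cat1_176.length = 1024 := by rw [cat1_176, List.length_append, cat0_352_len, cat0_353_len]

theorem cat1_176_ok : cert.stepsOK 180224 cat1_176 = true ∧ ruleBound spec.length cat1_176 = true :=
  stepsOK_cat cat0_352_ok cat0_353_ok (by rw [cat0_352_len])

def cat1_177 : List (ℕ × ℕ) := cat0_354 ++ cat0_355

theorem cat1_177_len : cat1_177.length = 1024 := by rw [cat1_177, List.length_append, cat0_354_len, cat0_355_len]

theorem cat1_177_ok : cert.stepsOK 181248 cat1_177 = true ∧ ruleBound spec.length cat1_177 = true :=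
  stepsOK_cat cat0_354_ok cat0_355_ok (by rw [cat0_354_len])

def cat1_178 : List (ℕ × ℕ) := cat0_356 ++ cat0_357

theorem cat1_178_len : cat1_178.length = 1024 := by rw [cat1_178, List.length_append, cat0_356_len, cat0_357_len]

theorem cat1_178_ok : cert.stepsOK 182272 cat1_178 = true ∧ ruleBound spec.length cat1_178 = true :=
  stepsOK_cat cat0_356_ok cat0_357_ok (by rw [cat0_356_len])

def cat1_179 : List (ℕ × ℕ) := cat0_358 ++ cat0_359

theorem cat1_179_len : cat1_179.length = 1024 := by rw [cat1_179, List.length_append, cat0_358_len, cat0_359_len]

theorem cat1_179_ok : cert.stepsOK 183296 cat1_179 = true ∧ ruleBound spec.length cat1_179 = true :=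
  stepsOK_cat cat0_358_ok cat0_359_ok (by rw [cat0_358_len])

def cat1_180 : List (ℕ × ℕ) := cat0_360 ++ cat0_361

theorem cat1_180_len : cat1_180.length = 1024 := by rw [cat1_180, List.length_append, cat0_360_len, cat0_361_len]

theorem cat1_180_ok : cert.stepsOK 184320 cat1_180 = true ∧ ruleBound spec.length cat1_180 = true :=
  stepsOK_cat cat0_360_ok cat0_361_ok (by rw [cat0_360_len])

def cat1_181 : List (ℕ × ℕ) := cat0_362 ++ cat0_363

theorem cat1_181_len : cat1_181.length = 1024 := by rw [cat1_181, List.length_append, cat0_362_len, cat0_363_len]

theorem cat1_181_ok : cert.stepsOK 185344 cat1_181 = true ∧ ruleBound spec.length cat1_181 = true :=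
  stepsOK_cat cat0_362_ok cat0_363_ok (by rw [cat0_362_len])

def cat1_182 : List (ℕ × ℕ) := cat0_364 ++ cat0_365

theorem cat1_182_len : cat1_182.length = 1024 := by rw [cat1_182, List.length_append, cat0_364_len, cat0_365_len]

theorem cat1_182_ok : cert.stepsOK 186368 cat1_182 = true ∧ ruleBound spec.length cat1_182 = true :=
  stepsOK_cat cat0_364_ok cat0_365_ok (by rw [cat0_364_len])

def cat1_183 : List (ℕ × ℕ) := cat0_366 ++ cat0_367

theorem cat1_183_len : cat1_183.length = 1024 := by rw [cat1_183, List.length_append, cat0_366_len, cat0_367_len]

theorem cat1_183_ok : cert.stepsOK 187392 cat1_183 = true ∧ ruleBound spec.length cat1_183 = true :=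
  stepsOK_cat cat0_366_ok cat0_367_ok (by rw [cat0_366_len])

def cat1_184 : List (ℕ × ℕ) := cat0_368 ++ cat0_369

theorem cat1_184_len : cat1_184.length = 1024 := by rw [cat1_184, List.length_append, cat0_368_len, cat0_369_len]

theorem cat1_184_ok : cert.stepsOK 188416 cat1_184 = true ∧ ruleBound spec.length cat1_184 = true :=
  stepsOK_cat cat0_368_ok cat0_369_ok (by rw [cat0_368_len])

def cat1_185 : List (ℕ × ℕ) := cat0_370 ++ cat0_371

theorem cat1_185_len : cat1_185.length = 1024 := by rw [cat1_185, List.length_append, cat0_370_len, cat0_371_len]

theorem cat1_185_ok : cert.stepsOK 189440 cat1_185 = true ∧ ruleBound spec.length cat1_185 = true :=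
  stepsOK_cat cat0_370_ok cat0_371_ok (by rw [cat0_370_len])

def cat1_186 : List (ℕ × ℕ) := cat0_372 ++ cat0_373

theorem cat1_186_len : cat1_186.length = 1024 := by rw [cat1_186, List.length_append, cat0_372_len, cat0_373_len]

theorem cat1_186_ok : cert.stepsOK 190464 cat1_186 = true ∧ ruleBound spec.length cat1_186 = true :=
  stepsOK_cat cat0_372_ok cat0_373_ok (by rw [cat0_372_len])

def cat1_187 : List (ℕ × ℕ) := cat0_374 ++ cat0_375

theorem cat1_187_len : cat1_187.length = 1024 := by rw [cat1_187, List.length_append, cat0_374_len, cat0_375_len]

theorem cat1_187_ok : cert.stepsOK 191488 cat1_187 = true ∧ ruleBound spec.length cat1_187 = true :=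
  stepsOK_cat cat0_374_ok cat0_375_ok (by rw [cat0_374_len])

def cat1_188 : List (ℕ × ℕ) := cat0_376 ++ cat0_377

theorem cat1_188_len : cat1_188.length = 1024 := by rw [cat1_188, List.length_append, cat0_376_len, cat0_377_len]

theorem cat1_188_ok : cert.stepsOK 192512 cat1_188 = true ∧ ruleBound spec.length cat1_188 = true :=
  stepsOK_cat cat0_376_ok cat0_377_ok (by rw [cat0_376_len])

def cat1_189 : List (ℕ × ℕ) := cat0_378 ++ cat0_379

theorem cat1_189_len : cat1_189.length = 1024 := by rw [cat1_189, List.length_append, cat0_378_len, cat0_379_len]

theorem cat1_189_ok : cert.stepsOK 193536 cat1_189 = true ∧ ruleBound spec.length cat1_189 = true :=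
  stepsOK_cat cat0_378_ok cat0_379_ok (by rw [cat0_378_len])

def cat1_190 : List (ℕ × ℕ) := cat0_380 ++ cat0_381

theorem cat1_190_len : cat1_190.length = 1024 := by rw [cat1_190, List.length_append, cat0_380_len, cat0_381_len]

theorem cat1_190_ok : cert.stepsOK 194560 cat1_190 = true ∧ ruleBound spec.length cat1_190 = true :=
  stepsOK_cat cat0_380_ok cat0_381_ok (by rw [cat0_380_len])

def cat1_191 : List (ℕ × ℕ) := cat0_382 ++ cat0_383

theorem cat1_191_len : cat1_191.length = 1024 := by rw [cat1_191, List.length_append, cat0_382_len, cat0_383_len]

theorem cat1_191_ok : cert.stepsOK 195584 cat1_191 = true ∧ ruleBound spec.length cat1_191 = true :=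
  stepsOK_cat cat0_382_ok cat0_383_ok (by rw [cat0_382_len])

def cat1_192 : List (ℕ × ℕ) := cat0_384 ++ cat0_385

theorem cat1_192_len : cat1_192.length = 1024 := by rw [cat1_192, List.length_append, cat0_384_len, cat0_385_len]

theorem cat1_192_ok : cert.stepsOK 196608 cat1_192 = true ∧ ruleBound spec.length cat1_192 = true :=
  stepsOK_cat cat0_384_ok cat0_385_ok (by rw [cat0_384_len])

def cat1_193 : List (ℕ × ℕ) := cat0_386 ++ cat0_387

theorem cat1_193_len : cat1_193.length = 1024 := by rw [cat1_193, List.length_append, cat0_386_len, cat0_387_len]

theorem cat1_193_ok : cert.stepsOK 197632 cat1_193 = true ∧ ruleBound spec.length cat1_193 = true :=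
  stepsOK_cat cat0_386_ok cat0_387_ok (by rw [cat0_386_len])

def cat1_194 : List (ℕ × ℕ) := cat0_388 ++ cat0_389

theorem cat1_194_len : cat1_194.length = 1024 := by rw [cat1_194, List.length_append, cat0_388_len, cat0_389_len]

theorem cat1_194_ok : cert.stepsOK 198656 cat1_194 = true ∧ ruleBound spec.length cat1_194 = true :=
  stepsOK_cat cat0_388_ok cat0_389_ok (by rw [cat0_388_len])

def cat1_195 : List (ℕ × ℕ) := cat0_390 ++ cat0_391

theorem cat1_195_len : cat1_195.length = 1024 := by rw [cat1_195, List.length_append, cat0_390_len, cat0_391_len]

theorem cat1_195_ok : cert.stepsOK 199680 cat1_195 = true ∧ ruleBound spec.length cat1_195 = true :=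
  stepsOK_cat cat0_390_ok cat0_391_ok (by rw [cat0_390_len])

def cat1_196 : List (ℕ × ℕ) := cat0_392 ++ cat0_393

theorem cat1_196_len : cat1_196.length = 1024 := by rw [cat1_196, List.length_append, cat0_392_len, cat0_393_len]

theorem cat1_196_ok : cert.stepsOK 200704 cat1_196 = true ∧ ruleBound spec.length cat1_196 = true :=
  stepsOK_cat cat0_392_ok cat0_393_ok (by rw [cat0_392_len])

def cat1_197 : List (ℕ × ℕ) := cat0_394 ++ cat0_395

theorem cat1_197_len : cat1_197.length = 1024 := by rw [cat1_197, List.length_append, cat0_394_len, cat0_395_len]

theorem cat1_197_ok : cert.stepsOK 201728 cat1_197 = true ∧ ruleBound spec.length cat1_197 = true :=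
  stepsOK_cat cat0_394_ok cat0_395_ok (by rw [cat0_394_len])

def cat1_198 : List (ℕ × ℕ) := cat0_396 ++ cat0_397

theorem cat1_198_len : cat1_198.length = 1024 := by rw [cat1_198, List.length_append, cat0_396_len, cat0_397_len]

theorem cat1_198_ok : cert.stepsOK 202752 cat1_198 = true ∧ ruleBound spec.length cat1_198 = true :=
  stepsOK_cat cat0_396_ok cat0_397_ok (by rw [cat0_396_len])

def cat1_199 : List (ℕ × ℕ) := cat0_398 ++ cat0_399

theorem cat1_199_len : cat1_199.length = 1024 := by rw [cat1_199, List.length_append, cat0_398_len, cat0_399_len]

theorem cat1_199_ok : cert.stepsOK 203776 cat1_199 = true ∧ ruleBound spec.length cat1_199 = true :=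
  stepsOK_cat cat0_398_ok cat0_399_ok (by rw [cat0_398_len])

def cat1_200 : List (ℕ × ℕ) := cat0_400 ++ cat0_401

theorem cat1_200_len : cat1_200.length = 1024 := by rw [cat1_200, List.length_append, cat0_400_len, cat0_401_len]

theorem cat1_200_ok : cert.stepsOK 204800 cat1_200 = true ∧ ruleBound spec.length cat1_200 = true :=
  stepsOK_cat cat0_400_ok cat0_401_ok (by rw [cat0_400_len])

def cat1_201 : List (ℕ × ℕ) := cat0_402 ++ cat0_403

theorem cat1_201_len : cat1_201.length = 1024 := by rw [cat1_201, List.length_append, cat0_402_len, cat0_403_len]

theorem cat1_201_ok : cert.stepsOK 205824 cat1_201 = true ∧ ruleBound spec.length cat1_201 = true :=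
  stepsOK_cat cat0_402_ok cat0_403_ok (by rw [cat0_402_len])

def cat1_202 : List (ℕ × ℕ) := cat0_404 ++ cat0_405

theorem cat1_202_len : cat1_202.length = 1024 := by rw [cat1_202, List.length_append, cat0_404_len, cat0_405_len]

theorem cat1_202_ok : cert.stepsOK 206848 cat1_202 = true ∧ ruleBound spec.length cat1_202 = true :=
  stepsOK_cat cat0_404_ok cat0_405_ok (by rw [cat0_404_len])

def cat1_203 : List (ℕ × ℕ) := cat0_406 ++ cat0_407

theorem cat1_203_len : cat1_203.length = 1024 := by rw [cat1_203, List.length_append, cat0_406_len, cat0_407_len]

theorem cat1_203_ok : cert.stepsOK 207872 cat1_203 = true ∧ ruleBound spec.length cat1_203 = true :=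
  stepsOK_cat cat0_406_ok cat0_407_ok (by rw [cat0_406_len])

def cat1_204 : List (ℕ × ℕ) := cat0_408 ++ steps818

theorem cat1_204_len : cat1_204.length = 587 := by rw [cat1_204, List.length_append, cat0_408_len, steps818_len]

theorem cat1_204_ok : cert.stepsOK 208896 cat1_204 = true ∧ ruleBound spec.length cat1_204 = true :=
  stepsOK_cat cat0_408_ok steps818_ok (by rw [cat0_408_len])

def cat2_0 : List (ℕ × ℕ) := cat1_0 ++ cat1_1

theorem cat2_0_len : cat2_0.length = 2048 := by rw [cat2_0, List.length_append, cat1_0_len, cat1_1_len]

theorem cat2_0_ok : cert.stepsOK 0 cat2_0 = true ∧ ruleBound spec.length cat2_0 = true :=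
  stepsOK_cat cat1_0_ok cat1_1_ok (by rw [cat1_0_len])

def cat2_1 : List (ℕ × ℕ) := cat1_2 ++ cat1_3

theorem cat2_1_len : cat2_1.length = 2048 := by rw [cat2_1, List.length_append, cat1_2_len, cat1_3_len]

theorem cat2_1_ok : cert.stepsOK 2048 cat2_1 = true ∧ ruleBound spec.length cat2_1 = true :=
  stepsOK_cat cat1_2_ok cat1_3_ok (by rw [cat1_2_len])

def cat2_2 : List (ℕ × ℕ) := cat1_4 ++ cat1_5

theorem cat2_2_len : cat2_2.length = 2048 := by rw [cat2_2, List.length_append, cat1_4_len, cat1_5_len]

theorem cat2_2_ok : cert.stepsOK 4096 cat2_2 = true ∧ ruleBound spec.length cat2_2 = true :=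
  stepsOK_cat cat1_4_ok cat1_5_ok (by rw [cat1_4_len])

def cat2_3 : List (ℕ × ℕ) := cat1_6 ++ cat1_7

theorem cat2_3_len : cat2_3.length = 2048 := by rw [cat2_3, List.length_append, cat1_6_len, cat1_7_len]

theorem cat2_3_ok : cert.stepsOK 6144 cat2_3 = true ∧ ruleBound spec.length cat2_3 = true :=
  stepsOK_cat cat1_6_ok cat1_7_ok (by rw [cat1_6_len])

def cat2_4 : List (ℕ × ℕ) := cat1_8 ++ cat1_9

theorem cat2_4_len : cat2_4.length = 2048 := by rw [cat2_4, List.length_append, cat1_8_len, cat1_9_len]

theorem cat2_4_ok : cert.stepsOK 8192 cat2_4 = true ∧ ruleBound spec.length cat2_4 = true :=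
  stepsOK_cat cat1_8_ok cat1_9_ok (by rw [cat1_8_len])

def cat2_5 : List (ℕ × ℕ) := cat1_10 ++ cat1_11

theorem cat2_5_len : cat2_5.length = 2048 := by rw [cat2_5, List.length_append, cat1_10_len, cat1_11_len]

theorem cat2_5_ok : cert.stepsOK 10240 cat2_5 = true ∧ ruleBound spec.length cat2_5 = true :=
  stepsOK_cat cat1_10_ok cat1_11_ok (by rw [cat1_10_len])

def cat2_6 : List (ℕ × ℕ) := cat1_12 ++ cat1_13

theorem cat2_6_len : cat2_6.length = 2048 := by rw [cat2_6, List.length_append, cat1_12_len, cat1_13_len]

theorem cat2_6_ok : cert.stepsOK 12288 cat2_6 = true ∧ ruleBound spec.length cat2_6 = true :=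
  stepsOK_cat cat1_12_ok cat1_13_ok (by rw [cat1_12_len])

def cat2_7 : List (ℕ × ℕ) := cat1_14 ++ cat1_15

theorem cat2_7_len : cat2_7.length = 2048 := by rw [cat2_7, List.length_append, cat1_14_len, cat1_15_len]

theorem cat2_7_ok : cert.stepsOK 14336 cat2_7 = true ∧ ruleBound spec.length cat2_7 = true :=
  stepsOK_cat cat1_14_ok cat1_15_ok (by rw [cat1_14_len])

def cat2_8 : List (ℕ × ℕ) := cat1_16 ++ cat1_17

theorem cat2_8_len : cat2_8.length = 2048 := by rw [cat2_8, List.length_append, cat1_16_len, cat1_17_len]

theorem cat2_8_ok : cert.stepsOK 16384 cat2_8 = true ∧ ruleBound spec.length cat2_8 = true :=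
  stepsOK_cat cat1_16_ok cat1_17_ok (by rw [cat1_16_len])

def cat2_9 : List (ℕ × ℕ) := cat1_18 ++ cat1_19

theorem cat2_9_len : cat2_9.length = 2048 := by rw [cat2_9, List.length_append, cat1_18_len, cat1_19_len]

theorem cat2_9_ok : cert.stepsOK 18432 cat2_9 = true ∧ ruleBound spec.length cat2_9 = true :=
  stepsOK_cat cat1_18_ok cat1_19_ok (by rw [cat1_18_len])

def cat2_10 : List (ℕ × ℕ) := cat1_20 ++ cat1_21

theorem cat2_10_len : cat2_10.length = 2048 := by rw [cat2_10, List.length_append, cat1_20_len, cat1_21_len]

theorem cat2_10_ok : cert.stepsOK 20480 cat2_10 = true ∧ ruleBound spec.length cat2_10 = true :=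
  stepsOK_cat cat1_20_ok cat1_21_ok (by rw [cat1_20_len])

def cat2_11 : List (ℕ × ℕ) := cat1_22 ++ cat1_23

theorem cat2_11_len : cat2_11.length = 2048 := by rw [cat2_11, List.length_append, cat1_22_len, cat1_23_len]

theorem cat2_11_ok : cert.stepsOK 22528 cat2_11 = true ∧ ruleBound spec.length cat2_11 = true :=
  stepsOK_cat cat1_22_ok cat1_23_ok (by rw [cat1_22_len])

def cat2_12 : List (ℕ × ℕ) := cat1_24 ++ cat1_25

theorem cat2_12_len : cat2_12.length = 2048 := by rw [cat2_12, List.length_append, cat1_24_len, cat1_25_len]

theorem cat2_12_ok : cert.stepsOK 24576 cat2_12 = true ∧ ruleBound spec.length cat2_12 = true :=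
  stepsOK_cat cat1_24_ok cat1_25_ok (by rw [cat1_24_len])

def cat2_13 : List (ℕ × ℕ) := cat1_26 ++ cat1_27

theorem cat2_13_len : cat2_13.length = 2048 := by rw [cat2_13, List.length_append, cat1_26_len, cat1_27_len]

theorem cat2_13_ok : cert.stepsOK 26624 cat2_13 = true ∧ ruleBound spec.length cat2_13 = true :=
  stepsOK_cat cat1_26_ok cat1_27_ok (by rw [cat1_26_len])

def cat2_14 : List (ℕ × ℕ) := cat1_28 ++ cat1_29

theorem cat2_14_len : cat2_14.length = 2048 := by rw [cat2_14, List.length_append, cat1_28_len, cat1_29_len]

theorem cat2_14_ok : cert.stepsOK 28672 cat2_14 = true ∧ ruleBound spec.length cat2_14 = true :=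
  stepsOK_cat cat1_28_ok cat1_29_ok (by rw [cat1_28_len])

def cat2_15 : List (ℕ × ℕ) := cat1_30 ++ cat1_31

theorem cat2_15_len : cat2_15.length = 2048 := by rw [cat2_15, List.length_append, cat1_30_len, cat1_31_len]

theorem cat2_15_ok : cert.stepsOK 30720 cat2_15 = true ∧ ruleBound spec.length cat2_15 = true :=
  stepsOK_cat cat1_30_ok cat1_31_ok (by rw [cat1_30_len])

def cat2_16 : List (ℕ × ℕ) := cat1_32 ++ cat1_33

theorem cat2_16_len : cat2_16.length = 2048 := by rw [cat2_16, List.length_append, cat1_32_len, cat1_33_len]

theorem cat2_16_ok : cert.stepsOK 32768 cat2_16 = true ∧ ruleBound spec.length cat2_16 = true :=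
  stepsOK_cat cat1_32_ok cat1_33_ok (by rw [cat1_32_len])

def cat2_17 : List (ℕ × ℕ) := cat1_34 ++ cat1_35

theorem cat2_17_len : cat2_17.length = 2048 := by rw [cat2_17, List.length_append, cat1_34_len, cat1_35_len]

theorem cat2_17_ok : cert.stepsOK 34816 cat2_17 = true ∧ ruleBound spec.length cat2_17 = true :=
  stepsOK_cat cat1_34_ok cat1_35_ok (by rw [cat1_34_len])

def cat2_18 : List (ℕ × ℕ) := cat1_36 ++ cat1_37

theorem cat2_18_len : cat2_18.length = 2048 := by rw [cat2_18, List.length_append, cat1_36_len, cat1_37_len]

theorem cat2_18_ok : cert.stepsOK 36864 cat2_18 = true ∧ ruleBound spec.length cat2_18 = true :=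
  stepsOK_cat cat1_36_ok cat1_37_ok (by rw [cat1_36_len])

def cat2_19 : List (ℕ × ℕ) := cat1_38 ++ cat1_39

theorem cat2_19_len : cat2_19.length = 2048 := by rw [cat2_19, List.length_append, cat1_38_len, cat1_39_len]

theorem cat2_19_ok : cert.stepsOK 38912 cat2_19 = true ∧ ruleBound spec.length cat2_19 = true :=
  stepsOK_cat cat1_38_ok cat1_39_ok (by rw [cat1_38_len])

def cat2_20 : List (ℕ × ℕ) := cat1_40 ++ cat1_41

theorem cat2_20_len : cat2_20.length = 2048 := by rw [cat2_20, List.length_append, cat1_40_len, cat1_41_len]

theorem cat2_20_ok : cert.stepsOK 40960 cat2_20 = true ∧ ruleBound spec.length cat2_20 = true :=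
  stepsOK_cat cat1_40_ok cat1_41_ok (by rw [cat1_40_len])

def cat2_21 : List (ℕ × ℕ) := cat1_42 ++ cat1_43

theorem cat2_21_len : cat2_21.length = 2048 := by rw [cat2_21, List.length_append, cat1_42_len, cat1_43_len]

theorem cat2_21_ok : cert.stepsOK 43008 cat2_21 = true ∧ ruleBound spec.length cat2_21 = true :=
  stepsOK_cat cat1_42_ok cat1_43_ok (by rw [cat1_42_len])

def cat2_22 : List (ℕ × ℕ) := cat1_44 ++ cat1_45

theorem cat2_22_len : cat2_22.length = 2048 := by rw [cat2_22, List.length_append, cat1_44_len, cat1_45_len]

theorem cat2_22_ok : cert.stepsOK 45056 cat2_22 = true ∧ ruleBound spec.length cat2_22 = true :=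
  stepsOK_cat cat1_44_ok cat1_45_ok (by rw [cat1_44_len])

def cat2_23 : List (ℕ × ℕ) := cat1_46 ++ cat1_47

theorem cat2_23_len : cat2_23.length = 2048 := by rw [cat2_23, List.length_append, cat1_46_len, cat1_47_len]

theorem cat2_23_ok : cert.stepsOK 47104 cat2_23 = true ∧ ruleBound spec.length cat2_23 = true :=
  stepsOK_cat cat1_46_ok cat1_47_ok (by rw [cat1_46_len])

def cat2_24 : List (ℕ × ℕ) := cat1_48 ++ cat1_49

theorem cat2_24_len : cat2_24.length = 2048 := by rw [cat2_24, List.length_append, cat1_48_len, cat1_49_len]

theorem cat2_24_ok : cert.stepsOK 49152 cat2_24 = true ∧ ruleBound spec.length cat2_24 = true :=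
  stepsOK_cat cat1_48_ok cat1_49_ok (by rw [cat1_48_len])

def cat2_25 : List (ℕ × ℕ) := cat1_50 ++ cat1_51

theorem cat2_25_len : cat2_25.length = 2048 := by rw [cat2_25, List.length_append, cat1_50_len, cat1_51_len]

theorem cat2_25_ok : cert.stepsOK 51200 cat2_25 = true ∧ ruleBound spec.length cat2_25 = true :=
  stepsOK_cat cat1_50_ok cat1_51_ok (by rw [cat1_50_len])

def cat2_26 : List (ℕ × ℕ) := cat1_52 ++ cat1_53

theorem cat2_26_len : cat2_26.length = 2048 := by rw [cat2_26, List.length_append, cat1_52_len, cat1_53_len]

theorem cat2_26_ok : cert.stepsOK 53248 cat2_26 = true ∧ ruleBound spec.length cat2_26 = true :=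
  stepsOK_cat cat1_52_ok cat1_53_ok (by rw [cat1_52_len])

def cat2_27 : List (ℕ × ℕ) := cat1_54 ++ cat1_55

theorem cat2_27_len : cat2_27.length = 2048 := by rw [cat2_27, List.length_append, cat1_54_len, cat1_55_len]

theorem cat2_27_ok : cert.stepsOK 55296 cat2_27 = true ∧ ruleBound spec.length cat2_27 = true :=
  stepsOK_cat cat1_54_ok cat1_55_ok (by rw [cat1_54_len])

def cat2_28 : List (ℕ × ℕ) := cat1_56 ++ cat1_57

theorem cat2_28_len : cat2_28.length = 2048 := by rw [cat2_28, List.length_append, cat1_56_len, cat1_57_len]

theorem cat2_28_ok : cert.stepsOK 57344 cat2_28 = true ∧ ruleBound spec.length cat2_28 = true :=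
  stepsOK_cat cat1_56_ok cat1_57_ok (by rw [cat1_56_len])

def cat2_29 : List (ℕ × ℕ) := cat1_58 ++ cat1_59

theorem cat2_29_len : cat2_29.length = 2048 := by rw [cat2_29, List.length_append, cat1_58_len, cat1_59_len]

theorem cat2_29_ok : cert.stepsOK 59392 cat2_29 = true ∧ ruleBound spec.length cat2_29 = true :=
  stepsOK_cat cat1_58_ok cat1_59_ok (by rw [cat1_58_len])

def cat2_30 : List (ℕ × ℕ) := cat1_60 ++ cat1_61

theorem cat2_30_len : cat2_30.length = 2048 := by rw [cat2_30, List.length_append, cat1_60_len, cat1_61_len]

theorem cat2_30_ok : cert.stepsOK 61440 cat2_30 = true ∧ ruleBound spec.length cat2_30 = true :=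
  stepsOK_cat cat1_60_ok cat1_61_ok (by rw [cat1_60_len])

def cat2_31 : List (ℕ × ℕ) := cat1_62 ++ cat1_63

theorem cat2_31_len : cat2_31.length = 2048 := by rw [cat2_31, List.length_append, cat1_62_len, cat1_63_len]

theorem cat2_31_ok : cert.stepsOK 63488 cat2_31 = true ∧ ruleBound spec.length cat2_31 = true :=
  stepsOK_cat cat1_62_ok cat1_63_ok (by rw [cat1_62_len])

def cat2_32 : List (ℕ × ℕ) := cat1_64 ++ cat1_65

theorem cat2_32_len : cat2_32.length = 2048 := by rw [cat2_32, List.length_append, cat1_64_len, cat1_65_len]

theorem cat2_32_ok : cert.stepsOK 65536 cat2_32 = true ∧ ruleBound spec.length cat2_32 = true :=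
  stepsOK_cat cat1_64_ok cat1_65_ok (by rw [cat1_64_len])

def cat2_33 : List (ℕ × ℕ) := cat1_66 ++ cat1_67

theorem cat2_33_len : cat2_33.length = 2048 := by rw [cat2_33, List.length_append, cat1_66_len, cat1_67_len]

theorem cat2_33_ok : cert.stepsOK 67584 cat2_33 = true ∧ ruleBound spec.length cat2_33 = true :=
  stepsOK_cat cat1_66_ok cat1_67_ok (by rw [cat1_66_len])

def cat2_34 : List (ℕ × ℕ) := cat1_68 ++ cat1_69

theorem cat2_34_len : cat2_34.length = 2048 := by rw [cat2_34, List.length_append, cat1_68_len, cat1_69_len]

theorem cat2_34_ok : cert.stepsOK 69632 cat2_34 = true ∧ ruleBound spec.length cat2_34 = true :=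
  stepsOK_cat cat1_68_ok cat1_69_ok (by rw [cat1_68_len])

def cat2_35 : List (ℕ × ℕ) := cat1_70 ++ cat1_71

theorem cat2_35_len : cat2_35.length = 2048 := by rw [cat2_35, List.length_append, cat1_70_len, cat1_71_len]

theorem cat2_35_ok : cert.stepsOK 71680 cat2_35 = true ∧ ruleBound spec.length cat2_35 = true :=
  stepsOK_cat cat1_70_ok cat1_71_ok (by rw [cat1_70_len])

def cat2_36 : List (ℕ × ℕ) := cat1_72 ++ cat1_73

theorem cat2_36_len : cat2_36.length = 2048 := by rw [cat2_36, List.length_append, cat1_72_len, cat1_73_len]

theorem cat2_36_ok : cert.stepsOK 73728 cat2_36 = true ∧ ruleBound spec.length cat2_36 = true :=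
  stepsOK_cat cat1_72_ok cat1_73_ok (by rw [cat1_72_len])

def cat2_37 : List (ℕ × ℕ) := cat1_74 ++ cat1_75

theorem cat2_37_len : cat2_37.length = 2048 := by rw [cat2_37, List.length_append, cat1_74_len, cat1_75_len]

theorem cat2_37_ok : cert.stepsOK 75776 cat2_37 = true ∧ ruleBound spec.length cat2_37 = true :=
  stepsOK_cat cat1_74_ok cat1_75_ok (by rw [cat1_74_len])

def cat2_38 : List (ℕ × ℕ) := cat1_76 ++ cat1_77

theorem cat2_38_len : cat2_38.length = 2048 := by rw [cat2_38, List.length_append, cat1_76_len, cat1_77_len]

theorem cat2_38_ok : cert.stepsOK 77824 cat2_38 = true ∧ ruleBound spec.length cat2_38 = true :=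
  stepsOK_cat cat1_76_ok cat1_77_ok (by rw [cat1_76_len])

def cat2_39 : List (ℕ × ℕ) := cat1_78 ++ cat1_79

theorem cat2_39_len : cat2_39.length = 2048 := by rw [cat2_39, List.length_append, cat1_78_len, cat1_79_len]

theorem cat2_39_ok : cert.stepsOK 79872 cat2_39 = true ∧ ruleBound spec.length cat2_39 = true :=
  stepsOK_cat cat1_78_ok cat1_79_ok (by rw [cat1_78_len])

def cat2_40 : List (ℕ × ℕ) := cat1_80 ++ cat1_81

theorem cat2_40_len : cat2_40.length = 2048 := by rw [cat2_40, List.length_append, cat1_80_len, cat1_81_len]

theorem cat2_40_ok : cert.stepsOK 81920 cat2_40 = true ∧ ruleBound spec.length cat2_40 = true :=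
  stepsOK_cat cat1_80_ok cat1_81_ok (by rw [cat1_80_len])

def cat2_41 : List (ℕ × ℕ) := cat1_82 ++ cat1_83

theorem cat2_41_len : cat2_41.length = 2048 := by rw [cat2_41, List.length_append, cat1_82_len, cat1_83_len]

theorem cat2_41_ok : cert.stepsOK 83968 cat2_41 = true ∧ ruleBound spec.length cat2_41 = true :=
  stepsOK_cat cat1_82_ok cat1_83_ok (by rw [cat1_82_len])

def cat2_42 : List (ℕ × ℕ) := cat1_84 ++ cat1_85

theorem cat2_42_len : cat2_42.length = 2048 := by rw [cat2_42, List.length_append, cat1_84_len, cat1_85_len]

theorem cat2_42_ok : cert.stepsOK 86016 cat2_42 = true ∧ ruleBound spec.length cat2_42 = true :=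
  stepsOK_cat cat1_84_ok cat1_85_ok (by rw [cat1_84_len])

def cat2_43 : List (ℕ × ℕ) := cat1_86 ++ cat1_87

theorem cat2_43_len : cat2_43.length = 2048 := by rw [cat2_43, List.length_append, cat1_86_len, cat1_87_len]

theorem cat2_43_ok : cert.stepsOK 88064 cat2_43 = true ∧ ruleBound spec.length cat2_43 = true :=
  stepsOK_cat cat1_86_ok cat1_87_ok (by rw [cat1_86_len])

def cat2_44 : List (ℕ × ℕ) := cat1_88 ++ cat1_89

theorem cat2_44_len : cat2_44.length = 2048 := by rw [cat2_44, List.length_append, cat1_88_len, cat1_89_len]

theorem cat2_44_ok : cert.stepsOK 90112 cat2_44 = true ∧ ruleBound spec.length cat2_44 = true :=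
  stepsOK_cat cat1_88_ok cat1_89_ok (by rw [cat1_88_len])

def cat2_45 : List (ℕ × ℕ) := cat1_90 ++ cat1_91

theorem cat2_45_len : cat2_45.length = 2048 := by rw [cat2_45, List.length_append, cat1_90_len, cat1_91_len]

theorem cat2_45_ok : cert.stepsOK 92160 cat2_45 = true ∧ ruleBound spec.length cat2_45 = true :=
  stepsOK_cat cat1_90_ok cat1_91_ok (by rw [cat1_90_len])

def cat2_46 : List (ℕ × ℕ) := cat1_92 ++ cat1_93

theorem cat2_46_len : cat2_46.length = 2048 := by rw [cat2_46, List.length_append, cat1_92_len, cat1_93_len]

theorem cat2_46_ok : cert.stepsOK 94208 cat2_46 = true ∧ ruleBound spec.length cat2_46 = true :=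
  stepsOK_cat cat1_92_ok cat1_93_ok (by rw [cat1_92_len])

def cat2_47 : List (ℕ × ℕ) := cat1_94 ++ cat1_95

theorem cat2_47_len : cat2_47.length = 2048 := by rw [cat2_47, List.length_append, cat1_94_len, cat1_95_len]

theorem cat2_47_ok : cert.stepsOK 96256 cat2_47 = true ∧ ruleBound spec.length cat2_47 = true :=
  stepsOK_cat cat1_94_ok cat1_95_ok (by rw [cat1_94_len])

def cat2_48 : List (ℕ × ℕ) := cat1_96 ++ cat1_97

theorem cat2_48_len : cat2_48.length = 2048 := by rw [cat2_48, List.length_append, cat1_96_len, cat1_97_len]

theorem cat2_48_ok : cert.stepsOK 98304 cat2_48 = true ∧ ruleBound spec.length cat2_48 = true :=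
  stepsOK_cat cat1_96_ok cat1_97_ok (by rw [cat1_96_len])

def cat2_49 : List (ℕ × ℕ) := cat1_98 ++ cat1_99

theorem cat2_49_len : cat2_49.length = 2048 := by rw [cat2_49, List.length_append, cat1_98_len, cat1_99_len]

theorem cat2_49_ok : cert.stepsOK 100352 cat2_49 = true ∧ ruleBound spec.length cat2_49 = true :=
  stepsOK_cat cat1_98_ok cat1_99_ok (by rw [cat1_98_len])

def cat2_50 : List (ℕ × ℕ) := cat1_100 ++ cat1_101

theorem cat2_50_len : cat2_50.length = 2048 := by rw [cat2_50, List.length_append, cat1_100_len, cat1_101_len]

theorem cat2_50_ok : cert.stepsOK 102400 cat2_50 = true ∧ ruleBound spec.length cat2_50 = true :=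
  stepsOK_cat cat1_100_ok cat1_101_ok (by rw [cat1_100_len])

def cat2_51 : List (ℕ × ℕ) := cat1_102 ++ cat1_103

theorem cat2_51_len : cat2_51.length = 2048 := by rw [cat2_51, List.length_append, cat1_102_len, cat1_103_len]

theorem cat2_51_ok : cert.stepsOK 104448 cat2_51 = true ∧ ruleBound spec.length cat2_51 = true :=
  stepsOK_cat cat1_102_ok cat1_103_ok (by rw [cat1_102_len])

def cat2_52 : List (ℕ × ℕ) := cat1_104 ++ cat1_105

theorem cat2_52_len : cat2_52.length = 2048 := by rw [cat2_52, List.length_append, cat1_104_len, cat1_105_len]

theorem cat2_52_ok : cert.stepsOK 106496 cat2_52 = true ∧ ruleBound spec.length cat2_52 = true :=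
  stepsOK_cat cat1_104_ok cat1_105_ok (by rw [cat1_104_len])

def cat2_53 : List (ℕ × ℕ) := cat1_106 ++ cat1_107

theorem cat2_53_len : cat2_53.length = 2048 := by rw [cat2_53, List.length_append, cat1_106_len, cat1_107_len]

theorem cat2_53_ok : cert.stepsOK 108544 cat2_53 = true ∧ ruleBound spec.length cat2_53 = true :=
  stepsOK_cat cat1_106_ok cat1_107_ok (by rw [cat1_106_len])

def cat2_54 : List (ℕ × ℕ) := cat1_108 ++ cat1_109

theorem cat2_54_len : cat2_54.length = 2048 := by rw [cat2_54, List.length_append, cat1_108_len, cat1_109_len]

theorem cat2_54_ok : cert.stepsOK 110592 cat2_54 = true ∧ ruleBound spec.length cat2_54 = true :=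
  stepsOK_cat cat1_108_ok cat1_109_ok (by rw [cat1_108_len])

def cat2_55 : List (ℕ × ℕ) := cat1_110 ++ cat1_111

theorem cat2_55_len : cat2_55.length = 2048 := by rw [cat2_55, List.length_append, cat1_110_len, cat1_111_len]

theorem cat2_55_ok : cert.stepsOK 112640 cat2_55 = true ∧ ruleBound spec.length cat2_55 = true :=
  stepsOK_cat cat1_110_ok cat1_111_ok (by rw [cat1_110_len])

def cat2_56 : List (ℕ × ℕ) := cat1_112 ++ cat1_113

theorem cat2_56_len : cat2_56.length = 2048 := by rw [cat2_56, List.length_append, cat1_112_len, cat1_113_len]

theorem cat2_56_ok : cert.stepsOK 114688 cat2_56 = true ∧ ruleBound spec.length cat2_56 = true :=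
  stepsOK_cat cat1_112_ok cat1_113_ok (by rw [cat1_112_len])

def cat2_57 : List (ℕ × ℕ) := cat1_114 ++ cat1_115

theorem cat2_57_len : cat2_57.length = 2048 := by rw [cat2_57, List.length_append, cat1_114_len, cat1_115_len]

theorem cat2_57_ok : cert.stepsOK 116736 cat2_57 = true ∧ ruleBound spec.length cat2_57 = true :=
  stepsOK_cat cat1_114_ok cat1_115_ok (by rw [cat1_114_len])

def cat2_58 : List (ℕ × ℕ) := cat1_116 ++ cat1_117

theorem cat2_58_len : cat2_58.length = 2048 := by rw [cat2_58, List.length_append, cat1_116_len, cat1_117_len]

theorem cat2_58_ok : cert.stepsOK 118784 cat2_58 = true ∧ ruleBound spec.length cat2_58 = true :=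
  stepsOK_cat cat1_116_ok cat1_117_ok (by rw [cat1_116_len])

def cat2_59 : List (ℕ × ℕ) := cat1_118 ++ cat1_119

theorem cat2_59_len : cat2_59.length = 2048 := by rw [cat2_59, List.length_append, cat1_118_len, cat1_119_len]

theorem cat2_59_ok : cert.stepsOK 120832 cat2_59 = true ∧ ruleBound spec.length cat2_59 = true :=
  stepsOK_cat cat1_118_ok cat1_119_ok (by rw [cat1_118_len])

def cat2_60 : List (ℕ × ℕ) := cat1_120 ++ cat1_121

theorem cat2_60_len : cat2_60.length = 2048 := by rw [cat2_60, List.length_append, cat1_120_len, cat1_121_len]

theorem cat2_60_ok : cert.stepsOK 122880 cat2_60 = true ∧ ruleBound spec.length cat2_60 = true :=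
  stepsOK_cat cat1_120_ok cat1_121_ok (by rw [cat1_120_len])

def cat2_61 : List (ℕ × ℕ) := cat1_122 ++ cat1_123

theorem cat2_61_len : cat2_61.length = 2048 := by rw [cat2_61, List.length_append, cat1_122_len, cat1_123_len]

theorem cat2_61_ok : cert.stepsOK 124928 cat2_61 = true ∧ ruleBound spec.length cat2_61 = true :=
  stepsOK_cat cat1_122_ok cat1_123_ok (by rw [cat1_122_len])

def cat2_62 : List (ℕ × ℕ) := cat1_124 ++ cat1_125

theorem cat2_62_len : cat2_62.length = 2048 := by rw [cat2_62, List.length_append, cat1_124_len, cat1_125_len]

theorem cat2_62_ok : cert.stepsOK 126976 cat2_62 = true ∧ ruleBound spec.length cat2_62 = true :=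
  stepsOK_cat cat1_124_ok cat1_125_ok (by rw [cat1_124_len])

def cat2_63 : List (ℕ × ℕ) := cat1_126 ++ cat1_127

theorem cat2_63_len : cat2_63.length = 2048 := by rw [cat2_63, List.length_append, cat1_126_len, cat1_127_len]

theorem cat2_63_ok : cert.stepsOK 129024 cat2_63 = true ∧ ruleBound spec.length cat2_63 = true :=
  stepsOK_cat cat1_126_ok cat1_127_ok (by rw [cat1_126_len])

def cat2_64 : List (ℕ × ℕ) := cat1_128 ++ cat1_129

theorem cat2_64_len : cat2_64.length = 2048 := by rw [cat2_64, List.length_append, cat1_128_len, cat1_129_len]

theorem cat2_64_ok : cert.stepsOK 131072 cat2_64 = true ∧ ruleBound spec.length cat2_64 = true :=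
  stepsOK_cat cat1_128_ok cat1_129_ok (by rw [cat1_128_len])

def cat2_65 : List (ℕ × ℕ) := cat1_130 ++ cat1_131

theorem cat2_65_len : cat2_65.length = 2048 := by rw [cat2_65, List.length_append, cat1_130_len, cat1_131_len]

theorem cat2_65_ok : cert.stepsOK 133120 cat2_65 = true ∧ ruleBound spec.length cat2_65 = true :=
  stepsOK_cat cat1_130_ok cat1_131_ok (by rw [cat1_130_len])

def cat2_66 : List (ℕ × ℕ) := cat1_132 ++ cat1_133

theorem cat2_66_len : cat2_66.length = 2048 := by rw [cat2_66, List.length_append, cat1_132_len, cat1_133_len]

theorem cat2_66_ok : cert.stepsOK 135168 cat2_66 = true ∧ ruleBound spec.length cat2_66 = true :=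
  stepsOK_cat cat1_132_ok cat1_133_ok (by rw [cat1_132_len])

def cat2_67 : List (ℕ × ℕ) := cat1_134 ++ cat1_135

theorem cat2_67_len : cat2_67.length = 2048 := by rw [cat2_67, List.length_append, cat1_134_len, cat1_135_len]

theorem cat2_67_ok : cert.stepsOK 137216 cat2_67 = true ∧ ruleBound spec.length cat2_67 = true :=
  stepsOK_cat cat1_134_ok cat1_135_ok (by rw [cat1_134_len])

def cat2_68 : List (ℕ × ℕ) := cat1_136 ++ cat1_137

theorem cat2_68_len : cat2_68.length = 2048 := by rw [cat2_68, List.length_append, cat1_136_len, cat1_137_len]

theorem cat2_68_ok : cert.stepsOK 139264 cat2_68 = true ∧ ruleBound spec.length cat2_68 = true :=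
  stepsOK_cat cat1_136_ok cat1_137_ok (by rw [cat1_136_len])

def cat2_69 : List (ℕ × ℕ) := cat1_138 ++ cat1_139

theorem cat2_69_len : cat2_69.length = 2048 := by rw [cat2_69, List.length_append, cat1_138_len, cat1_139_len]

theorem cat2_69_ok : cert.stepsOK 141312 cat2_69 = true ∧ ruleBound spec.length cat2_69 = true :=
  stepsOK_cat cat1_138_ok cat1_139_ok (by rw [cat1_138_len])

def cat2_70 : List (ℕ × ℕ) := cat1_140 ++ cat1_141

theorem cat2_70_len : cat2_70.length = 2048 := by rw [cat2_70, List.length_append, cat1_140_len, cat1_141_len]

theorem cat2_70_ok : cert.stepsOK 143360 cat2_70 = true ∧ ruleBound spec.length cat2_70 = true :=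
  stepsOK_cat cat1_140_ok cat1_141_ok (by rw [cat1_140_len])

def cat2_71 : List (ℕ × ℕ) := cat1_142 ++ cat1_143

theorem cat2_71_len : cat2_71.length = 2048 := by rw [cat2_71, List.length_append, cat1_142_len, cat1_143_len]

theorem cat2_71_ok : cert.stepsOK 145408 cat2_71 = true ∧ ruleBound spec.length cat2_71 = true :=
  stepsOK_cat cat1_142_ok cat1_143_ok (by rw [cat1_142_len])

def cat2_72 : List (ℕ × ℕ) := cat1_144 ++ cat1_145

theorem cat2_72_len : cat2_72.length = 2048 := by rw [cat2_72, List.length_append, cat1_144_len, cat1_145_len]

theorem cat2_72_ok : cert.stepsOK 147456 cat2_72 = true ∧ ruleBound spec.length cat2_72 = true :=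
  stepsOK_cat cat1_144_ok cat1_145_ok (by rw [cat1_144_len])

def cat2_73 : List (ℕ × ℕ) := cat1_146 ++ cat1_147

theorem cat2_73_len : cat2_73.length = 2048 := by rw [cat2_73, List.length_append, cat1_146_len, cat1_147_len]

theorem cat2_73_ok : cert.stepsOK 149504 cat2_73 = true ∧ ruleBound spec.length cat2_73 = true :=
  stepsOK_cat cat1_146_ok cat1_147_ok (by rw [cat1_146_len])

def cat2_74 : List (ℕ × ℕ) := cat1_148 ++ cat1_149

theorem cat2_74_len : cat2_74.length = 2048 := by rw [cat2_74, List.length_append, cat1_148_len, cat1_149_len]

theorem cat2_74_ok : cert.stepsOK 151552 cat2_74 = true ∧ ruleBound spec.length cat2_74 = true :=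
  stepsOK_cat cat1_148_ok cat1_149_ok (by rw [cat1_148_len])

def cat2_75 : List (ℕ × ℕ) := cat1_150 ++ cat1_151

theorem cat2_75_len : cat2_75.length = 2048 := by rw [cat2_75, List.length_append, cat1_150_len, cat1_151_len]

theorem cat2_75_ok : cert.stepsOK 153600 cat2_75 = true ∧ ruleBound spec.length cat2_75 = true :=
  stepsOK_cat cat1_150_ok cat1_151_ok (by rw [cat1_150_len])

def cat2_76 : List (ℕ × ℕ) := cat1_152 ++ cat1_153

theorem cat2_76_len : cat2_76.length = 2048 := by rw [cat2_76, List.length_append, cat1_152_len, cat1_153_len]

theorem cat2_76_ok : cert.stepsOK 155648 cat2_76 = true ∧ ruleBound spec.length cat2_76 = true :=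
  stepsOK_cat cat1_152_ok cat1_153_ok (by rw [cat1_152_len])

def cat2_77 : List (ℕ × ℕ) := cat1_154 ++ cat1_155

theorem cat2_77_len : cat2_77.length = 2048 := by rw [cat2_77, List.length_append, cat1_154_len, cat1_155_len]

theorem cat2_77_ok : cert.stepsOK 157696 cat2_77 = true ∧ ruleBound spec.length cat2_77 = true :=
  stepsOK_cat cat1_154_ok cat1_155_ok (by rw [cat1_154_len])

def cat2_78 : List (ℕ × ℕ) := cat1_156 ++ cat1_157

theorem cat2_78_len : cat2_78.length = 2048 := by rw [cat2_78, List.length_append, cat1_156_len, cat1_157_len]

theorem cat2_78_ok : cert.stepsOK 159744 cat2_78 = true ∧ ruleBound spec.length cat2_78 = true :=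
  stepsOK_cat cat1_156_ok cat1_157_ok (by rw [cat1_156_len])

def cat2_79 : List (ℕ × ℕ) := cat1_158 ++ cat1_159

theorem cat2_79_len : cat2_79.length = 2048 := by rw [cat2_79, List.length_append, cat1_158_len, cat1_159_len]

theorem cat2_79_ok : cert.stepsOK 161792 cat2_79 = true ∧ ruleBound spec.length cat2_79 = true :=
  stepsOK_cat cat1_158_ok cat1_159_ok (by rw [cat1_158_len])

def cat2_80 : List (ℕ × ℕ) := cat1_160 ++ cat1_161

theorem cat2_80_len : cat2_80.length = 2048 := by rw [cat2_80, List.length_append, cat1_160_len, cat1_161_len]

theorem cat2_80_ok : cert.stepsOK 163840 cat2_80 = true ∧ ruleBound spec.length cat2_80 = true :=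
  stepsOK_cat cat1_160_ok cat1_161_ok (by rw [cat1_160_len])

def cat2_81 : List (ℕ × ℕ) := cat1_162 ++ cat1_163

theorem cat2_81_len : cat2_81.length = 2048 := by rw [cat2_81, List.length_append, cat1_162_len, cat1_163_len]

theorem cat2_81_ok : cert.stepsOK 165888 cat2_81 = true ∧ ruleBound spec.length cat2_81 = true :=
  stepsOK_cat cat1_162_ok cat1_163_ok (by rw [cat1_162_len])

def cat2_82 : List (ℕ × ℕ) := cat1_164 ++ cat1_165

theorem cat2_82_len : cat2_82.length = 2048 := by rw [cat2_82, List.length_append, cat1_164_len, cat1_165_len]

theorem cat2_82_ok : cert.stepsOK 167936 cat2_82 = true ∧ ruleBound spec.length cat2_82 = true :=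
  stepsOK_cat cat1_164_ok cat1_165_ok (by rw [cat1_164_len])

def cat2_83 : List (ℕ × ℕ) := cat1_166 ++ cat1_167

theorem cat2_83_len : cat2_83.length = 2048 := by rw [cat2_83, List.length_append, cat1_166_len, cat1_167_len]

theorem cat2_83_ok : cert.stepsOK 169984 cat2_83 = true ∧ ruleBound spec.length cat2_83 = true :=
  stepsOK_cat cat1_166_ok cat1_167_ok (by rw [cat1_166_len])

def cat2_84 : List (ℕ × ℕ) := cat1_168 ++ cat1_169

theorem cat2_84_len : cat2_84.length = 2048 := by rw [cat2_84, List.length_append, cat1_168_len, cat1_169_len]

theorem cat2_84_ok : cert.stepsOK 172032 cat2_84 = true ∧ ruleBound spec.length cat2_84 = true :=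
  stepsOK_cat cat1_168_ok cat1_169_ok (by rw [cat1_168_len])

def cat2_85 : List (ℕ × ℕ) := cat1_170 ++ cat1_171

theorem cat2_85_len : cat2_85.length = 2048 := by rw [cat2_85, List.length_append, cat1_170_len, cat1_171_len]

theorem cat2_85_ok : cert.stepsOK 174080 cat2_85 = true ∧ ruleBound spec.length cat2_85 = true :=
  stepsOK_cat cat1_170_ok cat1_171_ok (by rw [cat1_170_len])

def cat2_86 : List (ℕ × ℕ) := cat1_172 ++ cat1_173

theorem cat2_86_len : cat2_86.length = 2048 := by rw [cat2_86, List.length_append, cat1_172_len, cat1_173_len]

theorem cat2_86_ok : cert.stepsOK 176128 cat2_86 = true ∧ ruleBound spec.length cat2_86 = true :=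
  stepsOK_cat cat1_172_ok cat1_173_ok (by rw [cat1_172_len])

def cat2_87 : List (ℕ × ℕ) := cat1_174 ++ cat1_175

theorem cat2_87_len : cat2_87.length = 2048 := by rw [cat2_87, List.length_append, cat1_174_len, cat1_175_len]

theorem cat2_87_ok : cert.stepsOK 178176 cat2_87 = true ∧ ruleBound spec.length cat2_87 = true :=
  stepsOK_cat cat1_174_ok cat1_175_ok (by rw [cat1_174_len])

def cat2_88 : List (ℕ × ℕ) := cat1_176 ++ cat1_177

theorem cat2_88_len : cat2_88.length = 2048 := by rw [cat2_88, List.length_append, cat1_176_len, cat1_177_len]

theorem cat2_88_ok : cert.stepsOK 180224 cat2_88 = true ∧ ruleBound spec.length cat2_88 = true :=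
  stepsOK_cat cat1_176_ok cat1_177_ok (by rw [cat1_176_len])

def cat2_89 : List (ℕ × ℕ) := cat1_178 ++ cat1_179

theorem cat2_89_len : cat2_89.length = 2048 := by rw [cat2_89, List.length_append, cat1_178_len, cat1_179_len]

theorem cat2_89_ok : cert.stepsOK 182272 cat2_89 = true ∧ ruleBound spec.length cat2_89 = true :=
  stepsOK_cat cat1_178_ok cat1_179_ok (by rw [cat1_178_len])

def cat2_90 : List (ℕ × ℕ) := cat1_180 ++ cat1_181

theorem cat2_90_len : cat2_90.length = 2048 := by rw [cat2_90, List.length_append, cat1_180_len, cat1_181_len]

theorem cat2_90_ok : cert.stepsOK 184320 cat2_90 = true ∧ ruleBound spec.length cat2_90 = true :=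
  stepsOK_cat cat1_180_ok cat1_181_ok (by rw [cat1_180_len])

def cat2_91 : List (ℕ × ℕ) := cat1_182 ++ cat1_183

theorem cat2_91_len : cat2_91.length = 2048 := by rw [cat2_91, List.length_append, cat1_182_len, cat1_183_len]

theorem cat2_91_ok : cert.stepsOK 186368 cat2_91 = true ∧ ruleBound spec.length cat2_91 = true :=
  stepsOK_cat cat1_182_ok cat1_183_ok (by rw [cat1_182_len])

def cat2_92 : List (ℕ × ℕ) := cat1_184 ++ cat1_185

theorem cat2_92_len : cat2_92.length = 2048 := by rw [cat2_92, List.length_append, cat1_184_len, cat1_185_len]

theorem cat2_92_ok : cert.stepsOK 188416 cat2_92 = true ∧ ruleBound spec.length cat2_92 = true :=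
  stepsOK_cat cat1_184_ok cat1_185_ok (by rw [cat1_184_len])

def cat2_93 : List (ℕ × ℕ) := cat1_186 ++ cat1_187

theorem cat2_93_len : cat2_93.length = 2048 := by rw [cat2_93, List.length_append, cat1_186_len, cat1_187_len]

theorem cat2_93_ok : cert.stepsOK 190464 cat2_93 = true ∧ ruleBound spec.length cat2_93 = true :=
  stepsOK_cat cat1_186_ok cat1_187_ok (by rw [cat1_186_len])

def cat2_94 : List (ℕ × ℕ) := cat1_188 ++ cat1_189

theorem cat2_94_len : cat2_94.length = 2048 := by rw [cat2_94, List.length_append, cat1_188_len, cat1_189_len]

theorem cat2_94_ok : cert.stepsOK 192512 cat2_94 = true ∧ ruleBound spec.length cat2_94 = true :=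
  stepsOK_cat cat1_188_ok cat1_189_ok (by rw [cat1_188_len])

def cat2_95 : List (ℕ × ℕ) := cat1_190 ++ cat1_191

theorem cat2_95_len : cat2_95.length = 2048 := by rw [cat2_95, List.length_append, cat1_190_len, cat1_191_len]

theorem cat2_95_ok : cert.stepsOK 194560 cat2_95 = true ∧ ruleBound spec.length cat2_95 = true :=
  stepsOK_cat cat1_190_ok cat1_191_ok (by rw [cat1_190_len])

def cat2_96 : List (ℕ × ℕ) := cat1_192 ++ cat1_193

theorem cat2_96_len : cat2_96.length = 2048 := by rw [cat2_96, List.length_append, cat1_192_len, cat1_193_len]

theorem cat2_96_ok : cert.stepsOK 196608 cat2_96 = true ∧ ruleBound spec.length cat2_96 = true :=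
  stepsOK_cat cat1_192_ok cat1_193_ok (by rw [cat1_192_len])

def cat2_97 : List (ℕ × ℕ) := cat1_194 ++ cat1_195

theorem cat2_97_len : cat2_97.length = 2048 := by rw [cat2_97, List.length_append, cat1_194_len, cat1_195_len]

theorem cat2_97_ok : cert.stepsOK 198656 cat2_97 = true ∧ ruleBound spec.length cat2_97 = true :=
  stepsOK_cat cat1_194_ok cat1_195_ok (by rw [cat1_194_len])

def cat2_98 : List (ℕ × ℕ) := cat1_196 ++ cat1_197

theorem cat2_98_len : cat2_98.length = 2048 := by rw [cat2_98, List.length_append, cat1_196_len, cat1_197_len]

theorem cat2_98_ok : cert.stepsOK 200704 cat2_98 = true ∧ ruleBound spec.length cat2_98 = true :=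
  stepsOK_cat cat1_196_ok cat1_197_ok (by rw [cat1_196_len])

def cat2_99 : List (ℕ × ℕ) := cat1_198 ++ cat1_199

theorem cat2_99_len : cat2_99.length = 2048 := by rw [cat2_99, List.length_append, cat1_198_len, cat1_199_len]

theorem cat2_99_ok : cert.stepsOK 202752 cat2_99 = true ∧ ruleBound spec.length cat2_99 = true :=
  stepsOK_cat cat1_198_ok cat1_199_ok (by rw [cat1_198_len])

def cat2_100 : List (ℕ × ℕ) := cat1_200 ++ cat1_201

theorem cat2_100_len : cat2_100.length = 2048 := by rw [cat2_100, List.length_append, cat1_200_len, cat1_201_len]

theorem cat2_100_ok : cert.stepsOK 204800 cat2_100 = true ∧ ruleBound spec.length cat2_100 = true :=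
  stepsOK_cat cat1_200_ok cat1_201_ok (by rw [cat1_200_len])

def cat2_101 : List (ℕ × ℕ) := cat1_202 ++ cat1_203

theorem cat2_101_len : cat2_101.length = 2048 := by rw [cat2_101, List.length_append, cat1_202_len, cat1_203_len]

theorem cat2_101_ok : cert.stepsOK 206848 cat2_101 = true ∧ ruleBound spec.length cat2_101 = true :=
  stepsOK_cat cat1_202_ok cat1_203_ok (by rw [cat1_202_len])

def cat3_0 : List (ℕ × ℕ) := cat2_0 ++ cat2_1

theorem cat3_0_len : cat3_0.length = 4096 := by rw [cat3_0, List.length_append, cat2_0_len, cat2_1_len]

theorem cat3_0_ok : cert.stepsOK 0 cat3_0 = true ∧ ruleBound spec.length cat3_0 = true :=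
  stepsOK_cat cat2_0_ok cat2_1_ok (by rw [cat2_0_len])

def cat3_1 : List (ℕ × ℕ) := cat2_2 ++ cat2_3

theorem cat3_1_len : cat3_1.length = 4096 := by rw [cat3_1, List.length_append, cat2_2_len, cat2_3_len]

theorem cat3_1_ok : cert.stepsOK 4096 cat3_1 = true ∧ ruleBound spec.length cat3_1 = true :=
  stepsOK_cat cat2_2_ok cat2_3_ok (by rw [cat2_2_len])

def cat3_2 : List (ℕ × ℕ) := cat2_4 ++ cat2_5

theorem cat3_2_len : cat3_2.length = 4096 := by rw [cat3_2, List.length_append, cat2_4_len, cat2_5_len]

theorem cat3_2_ok : cert.stepsOK 8192 cat3_2 = true ∧ ruleBound spec.length cat3_2 = true :=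
  stepsOK_cat cat2_4_ok cat2_5_ok (by rw [cat2_4_len])

def cat3_3 : List (ℕ × ℕ) := cat2_6 ++ cat2_7

theorem cat3_3_len : cat3_3.length = 4096 := by rw [cat3_3, List.length_append, cat2_6_len, cat2_7_len]

theorem cat3_3_ok : cert.stepsOK 12288 cat3_3 = true ∧ ruleBound spec.length cat3_3 = true :=
  stepsOK_cat cat2_6_ok cat2_7_ok (by rw [cat2_6_len])

def cat3_4 : List (ℕ × ℕ) := cat2_8 ++ cat2_9

theorem cat3_4_len : cat3_4.length = 4096 := by rw [cat3_4, List.length_append, cat2_8_len, cat2_9_len]

theorem cat3_4_ok : cert.stepsOK 16384 cat3_4 = true ∧ ruleBound spec.length cat3_4 = true :=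
  stepsOK_cat cat2_8_ok cat2_9_ok (by rw [cat2_8_len])

def cat3_5 : List (ℕ × ℕ) := cat2_10 ++ cat2_11

theorem cat3_5_len : cat3_5.length = 4096 := by rw [cat3_5, List.length_append, cat2_10_len, cat2_11_len]

theorem cat3_5_ok : cert.stepsOK 20480 cat3_5 = true ∧ ruleBound spec.length cat3_5 = true :=
  stepsOK_cat cat2_10_ok cat2_11_ok (by rw [cat2_10_len])

def cat3_6 : List (ℕ × ℕ) := cat2_12 ++ cat2_13

theorem cat3_6_len : cat3_6.length = 4096 := by rw [cat3_6, List.length_append, cat2_12_len, cat2_13_len]

theorem cat3_6_ok : cert.stepsOK 24576 cat3_6 = true ∧ ruleBound spec.length cat3_6 = true :=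
  stepsOK_cat cat2_12_ok cat2_13_ok (by rw [cat2_12_len])

def cat3_7 : List (ℕ × ℕ) := cat2_14 ++ cat2_15

theorem cat3_7_len : cat3_7.length = 4096 := by rw [cat3_7, List.length_append, cat2_14_len, cat2_15_len]

theorem cat3_7_ok : cert.stepsOK 28672 cat3_7 = true ∧ ruleBound spec.length cat3_7 = true :=
  stepsOK_cat cat2_14_ok cat2_15_ok (by rw [cat2_14_len])

def cat3_8 : List (ℕ × ℕ) := cat2_16 ++ cat2_17

theorem cat3_8_len : cat3_8.length = 4096 := by rw [cat3_8, List.length_append, cat2_16_len, cat2_17_len]

theorem cat3_8_ok : cert.stepsOK 32768 cat3_8 = true ∧ ruleBound spec.length cat3_8 = true :=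
  stepsOK_cat cat2_16_ok cat2_17_ok (by rw [cat2_16_len])

def cat3_9 : List (ℕ × ℕ) := cat2_18 ++ cat2_19

theorem cat3_9_len : cat3_9.length = 4096 := by rw [cat3_9, List.length_append, cat2_18_len, cat2_19_len]

theorem cat3_9_ok : cert.stepsOK 36864 cat3_9 = true ∧ ruleBound spec.length cat3_9 = true :=
  stepsOK_cat cat2_18_ok cat2_19_ok (by rw [cat2_18_len])

def cat3_10 : List (ℕ × ℕ) := cat2_20 ++ cat2_21

theorem cat3_10_len : cat3_10.length = 4096 := by rw [cat3_10, List.length_append, cat2_20_len, cat2_21_len]

theorem cat3_10_ok : cert.stepsOK 40960 cat3_10 = true ∧ ruleBound spec.length cat3_10 = true :=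
  stepsOK_cat cat2_20_ok cat2_21_ok (by rw [cat2_20_len])

def cat3_11 : List (ℕ × ℕ) := cat2_22 ++ cat2_23

theorem cat3_11_len : cat3_11.length = 4096 := by rw [cat3_11, List.length_append, cat2_22_len, cat2_23_len]

theorem cat3_11_ok : cert.stepsOK 45056 cat3_11 = true ∧ ruleBound spec.length cat3_11 = true :=
  stepsOK_cat cat2_22_ok cat2_23_ok (by rw [cat2_22_len])

def cat3_12 : List (ℕ × ℕ) := cat2_24 ++ cat2_25

theorem cat3_12_len : cat3_12.length = 4096 := by rw [cat3_12, List.length_append, cat2_24_len, cat2_25_len]

theorem cat3_12_ok : cert.stepsOK 49152 cat3_12 = true ∧ ruleBound spec.length cat3_12 = true :=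
  stepsOK_cat cat2_24_ok cat2_25_ok (by rw [cat2_24_len])

def cat3_13 : List (ℕ × ℕ) := cat2_26 ++ cat2_27

theorem cat3_13_len : cat3_13.length = 4096 := by rw [cat3_13, List.length_append, cat2_26_len, cat2_27_len]

theorem cat3_13_ok : cert.stepsOK 53248 cat3_13 = true ∧ ruleBound spec.length cat3_13 = true :=
  stepsOK_cat cat2_26_ok cat2_27_ok (by rw [cat2_26_len])

def cat3_14 : List (ℕ × ℕ) := cat2_28 ++ cat2_29

theorem cat3_14_len : cat3_14.length = 4096 := by rw [cat3_14, List.length_append, cat2_28_len, cat2_29_len]

theorem cat3_14_ok : cert.stepsOK 57344 cat3_14 = true ∧ ruleBound spec.length cat3_14 = true :=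
  stepsOK_cat cat2_28_ok cat2_29_ok (by rw [cat2_28_len])

def cat3_15 : List (ℕ × ℕ) := cat2_30 ++ cat2_31

theorem cat3_15_len : cat3_15.length = 4096 := by rw [cat3_15, List.length_append, cat2_30_len, cat2_31_len]

theorem cat3_15_ok : cert.stepsOK 61440 cat3_15 = true ∧ ruleBound spec.length cat3_15 = true :=
  stepsOK_cat cat2_30_ok cat2_31_ok (by rw [cat2_30_len])

def cat3_16 : List (ℕ × ℕ) := cat2_32 ++ cat2_33

theorem cat3_16_len : cat3_16.length = 4096 := by rw [cat3_16, List.length_append, cat2_32_len, cat2_33_len]

theorem cat3_16_ok : cert.stepsOK 65536 cat3_16 = true ∧ ruleBound spec.length cat3_16 = true :=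
  stepsOK_cat cat2_32_ok cat2_33_ok (by rw [cat2_32_len])

def cat3_17 : List (ℕ × ℕ) := cat2_34 ++ cat2_35

theorem cat3_17_len : cat3_17.length = 4096 := by rw [cat3_17, List.length_append, cat2_34_len, cat2_35_len]

theorem cat3_17_ok : cert.stepsOK 69632 cat3_17 = true ∧ ruleBound spec.length cat3_17 = true :=
  stepsOK_cat cat2_34_ok cat2_35_ok (by rw [cat2_34_len])

def cat3_18 : List (ℕ × ℕ) := cat2_36 ++ cat2_37

theorem cat3_18_len : cat3_18.length = 4096 := by rw [cat3_18, List.length_append, cat2_36_len, cat2_37_len]

theorem cat3_18_ok : cert.stepsOK 73728 cat3_18 = true ∧ ruleBound spec.length cat3_18 = true :=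
  stepsOK_cat cat2_36_ok cat2_37_ok (by rw [cat2_36_len])

def cat3_19 : List (ℕ × ℕ) := cat2_38 ++ cat2_39

theorem cat3_19_len : cat3_19.length = 4096 := by rw [cat3_19, List.length_append, cat2_38_len, cat2_39_len]

theorem cat3_19_ok : cert.stepsOK 77824 cat3_19 = true ∧ ruleBound spec.length cat3_19 = true :=
  stepsOK_cat cat2_38_ok cat2_39_ok (by rw [cat2_38_len])

def cat3_20 : List (ℕ × ℕ) := cat2_40 ++ cat2_41

theorem cat3_20_len : cat3_20.length = 4096 := by rw [cat3_20, List.length_append, cat2_40_len, cat2_41_len]

theorem cat3_20_ok : cert.stepsOK 81920 cat3_20 = true ∧ ruleBound spec.length cat3_20 = true :=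
  stepsOK_cat cat2_40_ok cat2_41_ok (by rw [cat2_40_len])

def cat3_21 : List (ℕ × ℕ) := cat2_42 ++ cat2_43

theorem cat3_21_len : cat3_21.length = 4096 := by rw [cat3_21, List.length_append, cat2_42_len, cat2_43_len]

theorem cat3_21_ok : cert.stepsOK 86016 cat3_21 = true ∧ ruleBound spec.length cat3_21 = true :=
  stepsOK_cat cat2_42_ok cat2_43_ok (by rw [cat2_42_len])

def cat3_22 : List (ℕ × ℕ) := cat2_44 ++ cat2_45

theorem cat3_22_len : cat3_22.length = 4096 := by rw [cat3_22, List.length_append, cat2_44_len, cat2_45_len]

theorem cat3_22_ok : cert.stepsOK 90112 cat3_22 = true ∧ ruleBound spec.length cat3_22 = true :=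
  stepsOK_cat cat2_44_ok cat2_45_ok (by rw [cat2_44_len])

def cat3_23 : List (ℕ × ℕ) := cat2_46 ++ cat2_47

theorem cat3_23_len : cat3_23.length = 4096 := by rw [cat3_23, List.length_append, cat2_46_len, cat2_47_len]

theorem cat3_23_ok : cert.stepsOK 94208 cat3_23 = true ∧ ruleBound spec.length cat3_23 = true :=
  stepsOK_cat cat2_46_ok cat2_47_ok (by rw [cat2_46_len])

def cat3_24 : List (ℕ × ℕ) := cat2_48 ++ cat2_49

theorem cat3_24_len : cat3_24.length = 4096 := by rw [cat3_24, List.length_append, cat2_48_len, cat2_49_len]

theorem cat3_24_ok : cert.stepsOK 98304 cat3_24 = true ∧ ruleBound spec.length cat3_24 = true :=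
  stepsOK_cat cat2_48_ok cat2_49_ok (by rw [cat2_48_len])

def cat3_25 : List (ℕ × ℕ) := cat2_50 ++ cat2_51

theorem cat3_25_len : cat3_25.length = 4096 := by rw [cat3_25, List.length_append, cat2_50_len, cat2_51_len]

theorem cat3_25_ok : cert.stepsOK 102400 cat3_25 = true ∧ ruleBound spec.length cat3_25 = true :=
  stepsOK_cat cat2_50_ok cat2_51_ok (by rw [cat2_50_len])

def cat3_26 : List (ℕ × ℕ) := cat2_52 ++ cat2_53

theorem cat3_26_len : cat3_26.length = 4096 := by rw [cat3_26, List.length_append, cat2_52_len, cat2_53_len]

theorem cat3_26_ok : cert.stepsOK 106496 cat3_26 = true ∧ ruleBound spec.length cat3_26 = true :=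
  stepsOK_cat cat2_52_ok cat2_53_ok (by rw [cat2_52_len])

def cat3_27 : List (ℕ × ℕ) := cat2_54 ++ cat2_55

theorem cat3_27_len : cat3_27.length = 4096 := by rw [cat3_27, List.length_append, cat2_54_len, cat2_55_len]

theorem cat3_27_ok : cert.stepsOK 110592 cat3_27 = true ∧ ruleBound spec.length cat3_27 = true :=
  stepsOK_cat cat2_54_ok cat2_55_ok (by rw [cat2_54_len])

def cat3_28 : List (ℕ × ℕ) := cat2_56 ++ cat2_57

theorem cat3_28_len : cat3_28.length = 4096 := by rw [cat3_28, List.length_append, cat2_56_len, cat2_57_len]

theorem cat3_28_ok : cert.stepsOK 114688 cat3_28 = true ∧ ruleBound spec.length cat3_28 = true :=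
  stepsOK_cat cat2_56_ok cat2_57_ok (by rw [cat2_56_len])

def cat3_29 : List (ℕ × ℕ) := cat2_58 ++ cat2_59

theorem cat3_29_len : cat3_29.length = 4096 := by rw [cat3_29, List.length_append, cat2_58_len, cat2_59_len]

theorem cat3_29_ok : cert.stepsOK 118784 cat3_29 = true ∧ ruleBound spec.length cat3_29 = true :=
  stepsOK_cat cat2_58_ok cat2_59_ok (by rw [cat2_58_len])

def cat3_30 : List (ℕ × ℕ) := cat2_60 ++ cat2_61

theorem cat3_30_len : cat3_30.length = 4096 := by rw [cat3_30, List.length_append, cat2_60_len, cat2_61_len]

theorem cat3_30_ok : cert.stepsOK 122880 cat3_30 = true ∧ ruleBound spec.length cat3_30 = true :=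
  stepsOK_cat cat2_60_ok cat2_61_ok (by rw [cat2_60_len])

def cat3_31 : List (ℕ × ℕ) := cat2_62 ++ cat2_63

theorem cat3_31_len : cat3_31.length = 4096 := by rw [cat3_31, List.length_append, cat2_62_len, cat2_63_len]

theorem cat3_31_ok : cert.stepsOK 126976 cat3_31 = true ∧ ruleBound spec.length cat3_31 = true :=
  stepsOK_cat cat2_62_ok cat2_63_ok (by rw [cat2_62_len])

def cat3_32 : List (ℕ × ℕ) := cat2_64 ++ cat2_65

theorem cat3_32_len : cat3_32.length = 4096 := by rw [cat3_32, List.length_append, cat2_64_len, cat2_65_len]

theorem cat3_32_ok : cert.stepsOK 131072 cat3_32 = true ∧ ruleBound spec.length cat3_32 = true :=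
  stepsOK_cat cat2_64_ok cat2_65_ok (by rw [cat2_64_len])

def cat3_33 : List (ℕ × ℕ) := cat2_66 ++ cat2_67

theorem cat3_33_len : cat3_33.length = 4096 := by rw [cat3_33, List.length_append, cat2_66_len, cat2_67_len]

theorem cat3_33_ok : cert.stepsOK 135168 cat3_33 = true ∧ ruleBound spec.length cat3_33 = true :=
  stepsOK_cat cat2_66_ok cat2_67_ok (by rw [cat2_66_len])

def cat3_34 : List (ℕ × ℕ) := cat2_68 ++ cat2_69

theorem cat3_34_len : cat3_34.length = 4096 := by rw [cat3_34, List.length_append, cat2_68_len, cat2_69_len]

theorem cat3_34_ok : cert.stepsOK 139264 cat3_34 = true ∧ ruleBound spec.length cat3_34 = true :=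
  stepsOK_cat cat2_68_ok cat2_69_ok (by rw [cat2_68_len])

def cat3_35 : List (ℕ × ℕ) := cat2_70 ++ cat2_71

theorem cat3_35_len : cat3_35.length = 4096 := by rw [cat3_35, List.length_append, cat2_70_len, cat2_71_len]

theorem cat3_35_ok : cert.stepsOK 143360 cat3_35 = true ∧ ruleBound spec.length cat3_35 = true :=
  stepsOK_cat cat2_70_ok cat2_71_ok (by rw [cat2_70_len])

def cat3_36 : List (ℕ × ℕ) := cat2_72 ++ cat2_73

theorem cat3_36_len : cat3_36.length = 4096 := by rw [cat3_36, List.length_append, cat2_72_len, cat2_73_len]

theorem cat3_36_ok : cert.stepsOK 147456 cat3_36 = true ∧ ruleBound spec.length cat3_36 = true :=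
  stepsOK_cat cat2_72_ok cat2_73_ok (by rw [cat2_72_len])

def cat3_37 : List (ℕ × ℕ) := cat2_74 ++ cat2_75

theorem cat3_37_len : cat3_37.length = 4096 := by rw [cat3_37, List.length_append, cat2_74_len, cat2_75_len]

theorem cat3_37_ok : cert.stepsOK 151552 cat3_37 = true ∧ ruleBound spec.length cat3_37 = true :=
  stepsOK_cat cat2_74_ok cat2_75_ok (by rw [cat2_74_len])

def cat3_38 : List (ℕ × ℕ) := cat2_76 ++ cat2_77

theorem cat3_38_len : cat3_38.length = 4096 := by rw [cat3_38, List.length_append, cat2_76_len, cat2_77_len]

theorem cat3_38_ok : cert.stepsOK 155648 cat3_38 = true ∧ ruleBound spec.length cat3_38 = true :=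
  stepsOK_cat cat2_76_ok cat2_77_ok (by rw [cat2_76_len])

def cat3_39 : List (ℕ × ℕ) := cat2_78 ++ cat2_79

theorem cat3_39_len : cat3_39.length = 4096 := by rw [cat3_39, List.length_append, cat2_78_len, cat2_79_len]

theorem cat3_39_ok : cert.stepsOK 159744 cat3_39 = true ∧ ruleBound spec.length cat3_39 = true :=
  stepsOK_cat cat2_78_ok cat2_79_ok (by rw [cat2_78_len])

def cat3_40 : List (ℕ × ℕ) := cat2_80 ++ cat2_81

theorem cat3_40_len : cat3_40.length = 4096 := by rw [cat3_40, List.length_append, cat2_80_len, cat2_81_len]

theorem cat3_40_ok : cert.stepsOK 163840 cat3_40 = true ∧ ruleBound spec.length cat3_40 = true :=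
  stepsOK_cat cat2_80_ok cat2_81_ok (by rw [cat2_80_len])

def cat3_41 : List (ℕ × ℕ) := cat2_82 ++ cat2_83

theorem cat3_41_len : cat3_41.length = 4096 := by rw [cat3_41, List.length_append, cat2_82_len, cat2_83_len]

theorem cat3_41_ok : cert.stepsOK 167936 cat3_41 = true ∧ ruleBound spec.length cat3_41 = true :=
  stepsOK_cat cat2_82_ok cat2_83_ok (by rw [cat2_82_len])

def cat3_42 : List (ℕ × ℕ) := cat2_84 ++ cat2_85

theorem cat3_42_len : cat3_42.length = 4096 := by rw [cat3_42, List.length_append, cat2_84_len, cat2_85_len]

theorem cat3_42_ok : cert.stepsOK 172032 cat3_42 = true ∧ ruleBound spec.length cat3_42 = true :=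
  stepsOK_cat cat2_84_ok cat2_85_ok (by rw [cat2_84_len])

def cat3_43 : List (ℕ × ℕ) := cat2_86 ++ cat2_87

theorem cat3_43_len : cat3_43.length = 4096 := by rw [cat3_43, List.length_append, cat2_86_len, cat2_87_len]

theorem cat3_43_ok : cert.stepsOK 176128 cat3_43 = true ∧ ruleBound spec.length cat3_43 = true :=
  stepsOK_cat cat2_86_ok cat2_87_ok (by rw [cat2_86_len])

def cat3_44 : List (ℕ × ℕ) := cat2_88 ++ cat2_89

theorem cat3_44_len : cat3_44.length = 4096 := by rw [cat3_44, List.length_append, cat2_88_len, cat2_89_len]

theorem cat3_44_ok : cert.stepsOK 180224 cat3_44 = true ∧ ruleBound spec.length cat3_44 = true :=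
  stepsOK_cat cat2_88_ok cat2_89_ok (by rw [cat2_88_len])

def cat3_45 : List (ℕ × ℕ) := cat2_90 ++ cat2_91

theorem cat3_45_len : cat3_45.length = 4096 := by rw [cat3_45, List.length_append, cat2_90_len, cat2_91_len]

theorem cat3_45_ok : cert.stepsOK 184320 cat3_45 = true ∧ ruleBound spec.length cat3_45 = true :=
  stepsOK_cat cat2_90_ok cat2_91_ok (by rw [cat2_90_len])

def cat3_46 : List (ℕ × ℕ) := cat2_92 ++ cat2_93

theorem cat3_46_len : cat3_46.length = 4096 := by rw [cat3_46, List.length_append, cat2_92_len, cat2_93_len]

theorem cat3_46_ok : cert.stepsOK 188416 cat3_46 = true ∧ ruleBound spec.length cat3_46 = true :=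
  stepsOK_cat cat2_92_ok cat2_93_ok (by rw [cat2_92_len])

def cat3_47 : List (ℕ × ℕ) := cat2_94 ++ cat2_95

theorem cat3_47_len : cat3_47.length = 4096 := by rw [cat3_47, List.length_append, cat2_94_len, cat2_95_len]

theorem cat3_47_ok : cert.stepsOK 192512 cat3_47 = true ∧ ruleBound spec.length cat3_47 = true :=
  stepsOK_cat cat2_94_ok cat2_95_ok (by rw [cat2_94_len])

def cat3_48 : List (ℕ × ℕ) := cat2_96 ++ cat2_97

theorem cat3_48_len : cat3_48.length = 4096 := by rw [cat3_48, List.length_append, cat2_96_len, cat2_97_len]

theorem cat3_48_ok : cert.stepsOK 196608 cat3_48 = true ∧ ruleBound spec.length cat3_48 = true :=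
  stepsOK_cat cat2_96_ok cat2_97_ok (by rw [cat2_96_len])

def cat3_49 : List (ℕ × ℕ) := cat2_98 ++ cat2_99

theorem cat3_49_len : cat3_49.length = 4096 := by rw [cat3_49, List.length_append, cat2_98_len, cat2_99_len]

theorem cat3_49_ok : cert.stepsOK 200704 cat3_49 = true ∧ ruleBound spec.length cat3_49 = true :=
  stepsOK_cat cat2_98_ok cat2_99_ok (by rw [cat2_98_len])

def cat3_50 : List (ℕ × ℕ) := cat2_100 ++ cat2_101

theorem cat3_50_len : cat3_50.length = 4096 := by rw [cat3_50, List.length_append, cat2_100_len, cat2_101_len]

theorem cat3_50_ok : cert.stepsOK 204800 cat3_50 = true ∧ ruleBound spec.length cat3_50 = true :=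
  stepsOK_cat cat2_100_ok cat2_101_ok (by rw [cat2_100_len])

def cat4_0 : List (ℕ × ℕ) := cat3_0 ++ cat3_1

theorem cat4_0_len : cat4_0.length = 8192 := by rw [cat4_0, List.length_append, cat3_0_len, cat3_1_len]

theorem cat4_0_ok : cert.stepsOK 0 cat4_0 = true ∧ ruleBound spec.length cat4_0 = true :=
  stepsOK_cat cat3_0_ok cat3_1_ok (by rw [cat3_0_len])

def cat4_1 : List (ℕ × ℕ) := cat3_2 ++ cat3_3

theorem cat4_1_len : cat4_1.length = 8192 := by rw [cat4_1, List.length_append, cat3_2_len, cat3_3_len]

theorem cat4_1_ok : cert.stepsOK 8192 cat4_1 = true ∧ ruleBound spec.length cat4_1 = true :=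
  stepsOK_cat cat3_2_ok cat3_3_ok (by rw [cat3_2_len])

def cat4_2 : List (ℕ × ℕ) := cat3_4 ++ cat3_5

theorem cat4_2_len : cat4_2.length = 8192 := by rw [cat4_2, List.length_append, cat3_4_len, cat3_5_len]

theorem cat4_2_ok : cert.stepsOK 16384 cat4_2 = true ∧ ruleBound spec.length cat4_2 = true :=
  stepsOK_cat cat3_4_ok cat3_5_ok (by rw [cat3_4_len])

def cat4_3 : List (ℕ × ℕ) := cat3_6 ++ cat3_7

theorem cat4_3_len : cat4_3.length = 8192 := by rw [cat4_3, List.length_append, cat3_6_len, cat3_7_len]

theorem cat4_3_ok : cert.stepsOK 24576 cat4_3 = true ∧ ruleBound spec.length cat4_3 = true :=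
  stepsOK_cat cat3_6_ok cat3_7_ok (by rw [cat3_6_len])

def cat4_4 : List (ℕ × ℕ) := cat3_8 ++ cat3_9

theorem cat4_4_len : cat4_4.length = 8192 := by rw [cat4_4, List.length_append, cat3_8_len, cat3_9_len]

theorem cat4_4_ok : cert.stepsOK 32768 cat4_4 = true ∧ ruleBound spec.length cat4_4 = true :=
  stepsOK_cat cat3_8_ok cat3_9_ok (by rw [cat3_8_len])

def cat4_5 : List (ℕ × ℕ) := cat3_10 ++ cat3_11

theorem cat4_5_len : cat4_5.length = 8192 := by rw [cat4_5, List.length_append, cat3_10_len, cat3_11_len]

theorem cat4_5_ok : cert.stepsOK 40960 cat4_5 = true ∧ ruleBound spec.length cat4_5 = true :=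
  stepsOK_cat cat3_10_ok cat3_11_ok (by rw [cat3_10_len])

def cat4_6 : List (ℕ × ℕ) := cat3_12 ++ cat3_13

theorem cat4_6_len : cat4_6.length = 8192 := by rw [cat4_6, List.length_append, cat3_12_len, cat3_13_len]

theorem cat4_6_ok : cert.stepsOK 49152 cat4_6 = true ∧ ruleBound spec.length cat4_6 = true :=
  stepsOK_cat cat3_12_ok cat3_13_ok (by rw [cat3_12_len])

def cat4_7 : List (ℕ × ℕ) := cat3_14 ++ cat3_15

theorem cat4_7_len : cat4_7.length = 8192 := by rw [cat4_7, List.length_append, cat3_14_len, cat3_15_len]

theorem cat4_7_ok : cert.stepsOK 57344 cat4_7 = true ∧ ruleBound spec.length cat4_7 = true :=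
  stepsOK_cat cat3_14_ok cat3_15_ok (by rw [cat3_14_len])

def cat4_8 : List (ℕ × ℕ) := cat3_16 ++ cat3_17

theorem cat4_8_len : cat4_8.length = 8192 := by rw [cat4_8, List.length_append, cat3_16_len, cat3_17_len]

theorem cat4_8_ok : cert.stepsOK 65536 cat4_8 = true ∧ ruleBound spec.length cat4_8 = true :=
  stepsOK_cat cat3_16_ok cat3_17_ok (by rw [cat3_16_len])

def cat4_9 : List (ℕ × ℕ) := cat3_18 ++ cat3_19

theorem cat4_9_len : cat4_9.length = 8192 := by rw [cat4_9, List.length_append, cat3_18_len, cat3_19_len]

theorem cat4_9_ok : cert.stepsOK 73728 cat4_9 = true ∧ ruleBound spec.length cat4_9 = true :=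
  stepsOK_cat cat3_18_ok cat3_19_ok (by rw [cat3_18_len])

def cat4_10 : List (ℕ × ℕ) := cat3_20 ++ cat3_21

theorem cat4_10_len : cat4_10.length = 8192 := by rw [cat4_10, List.length_append, cat3_20_len, cat3_21_len]

theorem cat4_10_ok : cert.stepsOK 81920 cat4_10 = true ∧ ruleBound spec.length cat4_10 = true :=
  stepsOK_cat cat3_20_ok cat3_21_ok (by rw [cat3_20_len])

def cat4_11 : List (ℕ × ℕ) := cat3_22 ++ cat3_23

theorem cat4_11_len : cat4_11.length = 8192 := by rw [cat4_11, List.length_append, cat3_22_len, cat3_23_len]

theorem cat4_11_ok : cert.stepsOK 90112 cat4_11 = true ∧ ruleBound spec.length cat4_11 = true :=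
  stepsOK_cat cat3_22_ok cat3_23_ok (by rw [cat3_22_len])

def cat4_12 : List (ℕ × ℕ) := cat3_24 ++ cat3_25

theorem cat4_12_len : cat4_12.length = 8192 := by rw [cat4_12, List.length_append, cat3_24_len, cat3_25_len]

theorem cat4_12_ok : cert.stepsOK 98304 cat4_12 = true ∧ ruleBound spec.length cat4_12 = true :=
  stepsOK_cat cat3_24_ok cat3_25_ok (by rw [cat3_24_len])

def cat4_13 : List (ℕ × ℕ) := cat3_26 ++ cat3_27

theorem cat4_13_len : cat4_13.length = 8192 := by rw [cat4_13, List.length_append, cat3_26_len, cat3_27_len]

theorem cat4_13_ok : cert.stepsOK 106496 cat4_13 = true ∧ ruleBound spec.length cat4_13 = true :=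
  stepsOK_cat cat3_26_ok cat3_27_ok (by rw [cat3_26_len])

def cat4_14 : List (ℕ × ℕ) := cat3_28 ++ cat3_29

theorem cat4_14_len : cat4_14.length = 8192 := by rw [cat4_14, List.length_append, cat3_28_len, cat3_29_len]

theorem cat4_14_ok : cert.stepsOK 114688 cat4_14 = true ∧ ruleBound spec.length cat4_14 = true :=
  stepsOK_cat cat3_28_ok cat3_29_ok (by rw [cat3_28_len])

def cat4_15 : List (ℕ × ℕ) := cat3_30 ++ cat3_31

theorem cat4_15_len : cat4_15.length = 8192 := by rw [cat4_15, List.length_append, cat3_30_len, cat3_31_len]

theorem cat4_15_ok : cert.stepsOK 122880 cat4_15 = true ∧ ruleBound spec.length cat4_15 = true :=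
  stepsOK_cat cat3_30_ok cat3_31_ok (by rw [cat3_30_len])

def cat4_16 : List (ℕ × ℕ) := cat3_32 ++ cat3_33

theorem cat4_16_len : cat4_16.length = 8192 := by rw [cat4_16, List.length_append, cat3_32_len, cat3_33_len]

theorem cat4_16_ok : cert.stepsOK 131072 cat4_16 = true ∧ ruleBound spec.length cat4_16 = true :=
  stepsOK_cat cat3_32_ok cat3_33_ok (by rw [cat3_32_len])

def cat4_17 : List (ℕ × ℕ) := cat3_34 ++ cat3_35

theorem cat4_17_len : cat4_17.length = 8192 := by rw [cat4_17, List.length_append, cat3_34_len, cat3_35_len]

theorem cat4_17_ok : cert.stepsOK 139264 cat4_17 = true ∧ ruleBound spec.length cat4_17 = true :=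
  stepsOK_cat cat3_34_ok cat3_35_ok (by rw [cat3_34_len])

def cat4_18 : List (ℕ × ℕ) := cat3_36 ++ cat3_37

theorem cat4_18_len : cat4_18.length = 8192 := by rw [cat4_18, List.length_append, cat3_36_len, cat3_37_len]

theorem cat4_18_ok : cert.stepsOK 147456 cat4_18 = true ∧ ruleBound spec.length cat4_18 = true :=
  stepsOK_cat cat3_36_ok cat3_37_ok (by rw [cat3_36_len])

def cat4_19 : List (ℕ × ℕ) := cat3_38 ++ cat3_39

theorem cat4_19_len : cat4_19.length = 8192 := by rw [cat4_19, List.length_append, cat3_38_len, cat3_39_len]

theorem cat4_19_ok : cert.stepsOK 155648 cat4_19 = true ∧ ruleBound spec.length cat4_19 = true :=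
  stepsOK_cat cat3_38_ok cat3_39_ok (by rw [cat3_38_len])

def cat4_20 : List (ℕ × ℕ) := cat3_40 ++ cat3_41

theorem cat4_20_len : cat4_20.length = 8192 := by rw [cat4_20, List.length_append, cat3_40_len, cat3_41_len]

theorem cat4_20_ok : cert.stepsOK 163840 cat4_20 = true ∧ ruleBound spec.length cat4_20 = true :=
  stepsOK_cat cat3_40_ok cat3_41_ok (by rw [cat3_40_len])

def cat4_21 : List (ℕ × ℕ) := cat3_42 ++ cat3_43

theorem cat4_21_len : cat4_21.length = 8192 := by rw [cat4_21, List.length_append, cat3_42_len, cat3_43_len]

theorem cat4_21_ok : cert.stepsOK 172032 cat4_21 = true ∧ ruleBound spec.length cat4_21 = true :=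
  stepsOK_cat cat3_42_ok cat3_43_ok (by rw [cat3_42_len])

def cat4_22 : List (ℕ × ℕ) := cat3_44 ++ cat3_45

theorem cat4_22_len : cat4_22.length = 8192 := by rw [cat4_22, List.length_append, cat3_44_len, cat3_45_len]

theorem cat4_22_ok : cert.stepsOK 180224 cat4_22 = true ∧ ruleBound spec.length cat4_22 = true :=
  stepsOK_cat cat3_44_ok cat3_45_ok (by rw [cat3_44_len])

def cat4_23 : List (ℕ × ℕ) := cat3_46 ++ cat3_47

theorem cat4_23_len : cat4_23.length = 8192 := by rw [cat4_23, List.length_append, cat3_46_len, cat3_47_len]

theorem cat4_23_ok : cert.stepsOK 188416 cat4_23 = true ∧ ruleBound spec.length cat4_23 = true :=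
  stepsOK_cat cat3_46_ok cat3_47_ok (by rw [cat3_46_len])

def cat4_24 : List (ℕ × ℕ) := cat3_48 ++ cat3_49

theorem cat4_24_len : cat4_24.length = 8192 := by rw [cat4_24, List.length_append, cat3_48_len, cat3_49_len]

theorem cat4_24_ok : cert.stepsOK 196608 cat4_24 = true ∧ ruleBound spec.length cat4_24 = true :=
  stepsOK_cat cat3_48_ok cat3_49_ok (by rw [cat3_48_len])

def cat4_25 : List (ℕ × ℕ) := cat3_50 ++ cat1_204

theorem cat4_25_len : cat4_25.length = 4683 := by rw [cat4_25, List.length_append, cat3_50_len, cat1_204_len]

theorem cat4_25_ok : cert.stepsOK 204800 cat4_25 = true ∧ ruleBound spec.length cat4_25 = true :=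
  stepsOK_cat cat3_50_ok cat1_204_ok (by rw [cat3_50_len])

def cat5_0 : List (ℕ × ℕ) := cat4_0 ++ cat4_1

theorem cat5_0_len : cat5_0.length = 16384 := by rw [cat5_0, List.length_append, cat4_0_len, cat4_1_len]

theorem cat5_0_ok : cert.stepsOK 0 cat5_0 = true ∧ ruleBound spec.length cat5_0 = true :=
  stepsOK_cat cat4_0_ok cat4_1_ok (by rw [cat4_0_len])

def cat5_1 : List (ℕ × ℕ) := cat4_2 ++ cat4_3

theorem cat5_1_len : cat5_1.length = 16384 := by rw [cat5_1, List.length_append, cat4_2_len, cat4_3_len]

theorem cat5_1_ok : cert.stepsOK 16384 cat5_1 = true ∧ ruleBound spec.length cat5_1 = true :=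
  stepsOK_cat cat4_2_ok cat4_3_ok (by rw [cat4_2_len])

def cat5_2 : List (ℕ × ℕ) := cat4_4 ++ cat4_5

theorem cat5_2_len : cat5_2.length = 16384 := by rw [cat5_2, List.length_append, cat4_4_len, cat4_5_len]

theorem cat5_2_ok : cert.stepsOK 32768 cat5_2 = true ∧ ruleBound spec.length cat5_2 = true :=
  stepsOK_cat cat4_4_ok cat4_5_ok (by rw [cat4_4_len])

def cat5_3 : List (ℕ × ℕ) := cat4_6 ++ cat4_7

theorem cat5_3_len : cat5_3.length = 16384 := by rw [cat5_3, List.length_append, cat4_6_len, cat4_7_len]

theorem cat5_3_ok : cert.stepsOK 49152 cat5_3 = true ∧ ruleBound spec.length cat5_3 = true :=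
  stepsOK_cat cat4_6_ok cat4_7_ok (by rw [cat4_6_len])

def cat5_4 : List (ℕ × ℕ) := cat4_8 ++ cat4_9

theorem cat5_4_len : cat5_4.length = 16384 := by rw [cat5_4, List.length_append, cat4_8_len, cat4_9_len]

theorem cat5_4_ok : cert.stepsOK 65536 cat5_4 = true ∧ ruleBound spec.length cat5_4 = true :=
  stepsOK_cat cat4_8_ok cat4_9_ok (by rw [cat4_8_len])

def cat5_5 : List (ℕ × ℕ) := cat4_10 ++ cat4_11

theorem cat5_5_len : cat5_5.length = 16384 := by rw [cat5_5, List.length_append, cat4_10_len, cat4_11_len]

theorem cat5_5_ok : cert.stepsOK 81920 cat5_5 = true ∧ ruleBound spec.length cat5_5 = true :=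
  stepsOK_cat cat4_10_ok cat4_11_ok (by rw [cat4_10_len])

def cat5_6 : List (ℕ × ℕ) := cat4_12 ++ cat4_13

theorem cat5_6_len : cat5_6.length = 16384 := by rw [cat5_6, List.length_append, cat4_12_len, cat4_13_len]

theorem cat5_6_ok : cert.stepsOK 98304 cat5_6 = true ∧ ruleBound spec.length cat5_6 = true :=
  stepsOK_cat cat4_12_ok cat4_13_ok (by rw [cat4_12_len])

def cat5_7 : List (ℕ × ℕ) := cat4_14 ++ cat4_15

theorem cat5_7_len : cat5_7.length = 16384 := by rw [cat5_7, List.length_append, cat4_14_len, cat4_15_len]

theorem cat5_7_ok : cert.stepsOK 114688 cat5_7 = true ∧ ruleBound spec.length cat5_7 = true :=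
  stepsOK_cat cat4_14_ok cat4_15_ok (by rw [cat4_14_len])

def cat5_8 : List (ℕ × ℕ) := cat4_16 ++ cat4_17

theorem cat5_8_len : cat5_8.length = 16384 := by rw [cat5_8, List.length_append, cat4_16_len, cat4_17_len]

theorem cat5_8_ok : cert.stepsOK 131072 cat5_8 = true ∧ ruleBound spec.length cat5_8 = true :=
  stepsOK_cat cat4_16_ok cat4_17_ok (by rw [cat4_16_len])

def cat5_9 : List (ℕ × ℕ) := cat4_18 ++ cat4_19

theorem cat5_9_len : cat5_9.length = 16384 := by rw [cat5_9, List.length_append, cat4_18_len, cat4_19_len]

theorem cat5_9_ok : cert.stepsOK 147456 cat5_9 = true ∧ ruleBound spec.length cat5_9 = true :=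
  stepsOK_cat cat4_18_ok cat4_19_ok (by rw [cat4_18_len])

def cat5_10 : List (ℕ × ℕ) := cat4_20 ++ cat4_21

theorem cat5_10_len : cat5_10.length = 16384 := by rw [cat5_10, List.length_append, cat4_20_len, cat4_21_len]

theorem cat5_10_ok : cert.stepsOK 163840 cat5_10 = true ∧ ruleBound spec.length cat5_10 = true :=
  stepsOK_cat cat4_20_ok cat4_21_ok (by rw [cat4_20_len])

def cat5_11 : List (ℕ × ℕ) := cat4_22 ++ cat4_23

theorem cat5_11_len : cat5_11.length = 16384 := by rw [cat5_11, List.length_append, cat4_22_len, cat4_23_len]

theorem cat5_11_ok : cert.stepsOK 180224 cat5_11 = true ∧ ruleBound spec.length cat5_11 = true :=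
  stepsOK_cat cat4_22_ok cat4_23_ok (by rw [cat4_22_len])

def cat5_12 : List (ℕ × ℕ) := cat4_24 ++ cat4_25

theorem cat5_12_len : cat5_12.length = 12875 := by rw [cat5_12, List.length_append, cat4_24_len, cat4_25_len]

theorem cat5_12_ok : cert.stepsOK 196608 cat5_12 = true ∧ ruleBound spec.length cat5_12 = true :=
  stepsOK_cat cat4_24_ok cat4_25_ok (by rw [cat4_24_len])

def cat6_0 : List (ℕ × ℕ) := cat5_0 ++ cat5_1

theorem cat6_0_len : cat6_0.length = 32768 := by rw [cat6_0, List.length_append, cat5_0_len, cat5_1_len]

theorem cat6_0_ok : cert.stepsOK 0 cat6_0 = true ∧ ruleBound spec.length cat6_0 = true :=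
  stepsOK_cat cat5_0_ok cat5_1_ok (by rw [cat5_0_len])

def cat6_1 : List (ℕ × ℕ) := cat5_2 ++ cat5_3

theorem cat6_1_len : cat6_1.length = 32768 := by rw [cat6_1, List.length_append, cat5_2_len, cat5_3_len]

theorem cat6_1_ok : cert.stepsOK 32768 cat6_1 = true ∧ ruleBound spec.length cat6_1 = true :=
  stepsOK_cat cat5_2_ok cat5_3_ok (by rw [cat5_2_len])

def cat6_2 : List (ℕ × ℕ) := cat5_4 ++ cat5_5

theorem cat6_2_len : cat6_2.length = 32768 := by rw [cat6_2, List.length_append, cat5_4_len, cat5_5_len]

theorem cat6_2_ok : cert.stepsOK 65536 cat6_2 = true ∧ ruleBound spec.length cat6_2 = true :=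
  stepsOK_cat cat5_4_ok cat5_5_ok (by rw [cat5_4_len])

def cat6_3 : List (ℕ × ℕ) := cat5_6 ++ cat5_7

theorem cat6_3_len : cat6_3.length = 32768 := by rw [cat6_3, List.length_append, cat5_6_len, cat5_7_len]

theorem cat6_3_ok : cert.stepsOK 98304 cat6_3 = true ∧ ruleBound spec.length cat6_3 = true :=
  stepsOK_cat cat5_6_ok cat5_7_ok (by rw [cat5_6_len])

def cat6_4 : List (ℕ × ℕ) := cat5_8 ++ cat5_9

theorem cat6_4_len : cat6_4.length = 32768 := by rw [cat6_4, List.length_append, cat5_8_len, cat5_9_len]

theorem cat6_4_ok : cert.stepsOK 131072 cat6_4 = true ∧ ruleBound spec.length cat6_4 = true :=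
  stepsOK_cat cat5_8_ok cat5_9_ok (by rw [cat5_8_len])

def cat6_5 : List (ℕ × ℕ) := cat5_10 ++ cat5_11

theorem cat6_5_len : cat6_5.length = 32768 := by rw [cat6_5, List.length_append, cat5_10_len, cat5_11_len]

theorem cat6_5_ok : cert.stepsOK 163840 cat6_5 = true ∧ ruleBound spec.length cat6_5 = true :=
  stepsOK_cat cat5_10_ok cat5_11_ok (by rw [cat5_10_len])

def cat7_0 : List (ℕ × ℕ) := cat6_0 ++ cat6_1

theorem cat7_0_len : cat7_0.length = 65536 := by rw [cat7_0, List.length_append, cat6_0_len, cat6_1_len]

theorem cat7_0_ok : cert.stepsOK 0 cat7_0 = true ∧ ruleBound spec.length cat7_0 = true :=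
  stepsOK_cat cat6_0_ok cat6_1_ok (by rw [cat6_0_len])

def cat7_1 : List (ℕ × ℕ) := cat6_2 ++ cat6_3

theorem cat7_1_len : cat7_1.length = 65536 := by rw [cat7_1, List.length_append, cat6_2_len, cat6_3_len]

theorem cat7_1_ok : cert.stepsOK 65536 cat7_1 = true ∧ ruleBound spec.length cat7_1 = true :=
  stepsOK_cat cat6_2_ok cat6_3_ok (by rw [cat6_2_len])

def cat7_2 : List (ℕ × ℕ) := cat6_4 ++ cat6_5

theorem cat7_2_len : cat7_2.length = 65536 := by rw [cat7_2, List.length_append, cat6_4_len, cat6_5_len]

theorem cat7_2_ok : cert.stepsOK 131072 cat7_2 = true ∧ ruleBound spec.length cat7_2 = true :=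
  stepsOK_cat cat6_4_ok cat6_5_ok (by rw [cat6_4_len])

def cat8_0 : List (ℕ × ℕ) := cat7_0 ++ cat7_1

theorem cat8_0_len : cat8_0.length = 131072 := by rw [cat8_0, List.length_append, cat7_0_len, cat7_1_len]

theorem cat8_0_ok : cert.stepsOK 0 cat8_0 = true ∧ ruleBound spec.length cat8_0 = true :=
  stepsOK_cat cat7_0_ok cat7_1_ok (by rw [cat7_0_len])

def cat8_1 : List (ℕ × ℕ) := cat7_2 ++ cat5_12

theorem cat8_1_len : cat8_1.length = 78411 := by rw [cat8_1, List.length_append, cat7_2_len, cat5_12_len]

theorem cat8_1_ok : cert.stepsOK 131072 cat8_1 = true ∧ ruleBound spec.length cat8_1 = true :=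
  stepsOK_cat cat7_2_ok cat5_12_ok (by rw [cat7_2_len])

def cat9_0 : List (ℕ × ℕ) := cat8_0 ++ cat8_1

theorem cat9_0_len : cat9_0.length = 209483 := by rw [cat9_0, List.length_append, cat8_0_len, cat8_1_len]

theorem cat9_0_ok : cert.stepsOK 0 cat9_0 = true ∧ ruleBound spec.length cat9_0 = true :=
  stepsOK_cat cat8_0_ok cat8_1_ok (by rw [cat8_0_len])

end Cfsg.Lib.J3Type.Main
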