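import Cfsg.Agent.J3Type.Cert.MainData
import Cfsg.Agent.CosetCert.TabSplit

/-!
Rows of the final table of the main enumeration, part 0.
-/

set_option autoImplicit false
set_option Elab.async false

namespace Cfsg.Lib.J3Type.Main

open Cfsg.Lib.CosetCert

theorem tab0_ok : cert.tabPart 209483 0 342 = true := by decide +kernel

theorem tab1_ok : cert.tabPart 209483 342 342 = true := by decide +kernel

theorem tab2_ok : cert.tabPart 209483 684 342 = true := by decide +kernel

theorem tab3_ok : cert.tabPart 209483 1026 342 = true := by decide +kernel

theorem tab4_ok : cert.tabPart 209483 1368 342 = true := by decide +kernel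

theorem tab5_ok : cert.tabPart 209483 1710 342 = true := by decide +kernel

theorem tab6_ok : cert.tabPart 209483 2052 342 = true := by decide +kernel

theorem tab7_ok : cert.tabPart 209483 2394 342 = true := by decide +kernel

theorem tab8_ok : cert.tabPart 209483 2736 342 = true := by decide +kernel

theorem tab9_ok : cert.tabPart 209483 3078 342 = true := by decide +kernel

theorem tab10_ok : cert.tabPart 209483 3420 342 = true := by decide +kernel

theorem tab11_ok : cert.tabPart 209483 3762 342 = true := by decide +kernel

theorem tab12_ok : cert.tabPart 209483 4104 342 = true := by decide +kernel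

theorem tab13_ok : cert.tabPart 209483 4446 342 = true := by decide +kernel

theorem tab14_ok : cert.tabPart 209483 4788 342 = true := by decide +kernel

theorem tab15_ok : cert.tabPart 209483 5130 342 = true := by decide +kernel

theorem tab16_ok : cert.tabPart 209483 5472 342 = true := by decide +kernel

theorem tab17_ok : cert.tabPart 209483 5814 342 = true := by decide +kernel

end Cfsg.Lib.J3Type.Main
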