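import Cfsg.Agent.J3Type.Cert.MainData
import Cfsg.Agent.CosetCert.TabSplit

/-!
Rows of the final table of the main enumeration, part 1.
-/

set_option autoImplicit false
set_option Elab.async false

namespace Cfsg.Lib.J3Type.Main

open Cfsg.Lib.CosetCert

theorem tab18_ok : cert.tabPart 209483 6156 342 = true := by decide +kernel

theorem tab19_ok : cert.tabPart 209483 6498 342 = true := by decide +kernel

theorem tab20_ok : cert.tabPart 209483 6840 342 = true := by decide +kernel

theorem tab21_ok : cert.tabPart 209483 7182 342 = true := by decide +kernel

theorem tab22_ok : cert.tabPart 209483 7524 342 = true := by decide +kernel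

theorem tab23_ok : cert.tabPart 209483 7866 342 = true := by decide +kernel

theorem tab24_ok : cert.tabPart 209483 8208 342 = true := by decide +kernel

theorem tab25_ok : cert.tabPart 209483 8550 342 = true := by decide +kernel

theorem tab26_ok : cert.tabPart 209483 8892 342 = true := by decide +kernel

theorem tab27_ok : cert.tabPart 209483 9234 342 = true := by decide +kernel

theorem tab28_ok : cert.tabPart 209483 9576 342 = true := by decide +kernel

theorem tab29_ok : cert.tabPart 209483 9918 342 = true := by decide +kernel

theorem tab30_ok : cert.tabPart 209483 10260 342 = true := by decide +kernel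

theorem tab31_ok : cert.tabPart 209483 10602 342 = true := by decide +kernel

theorem tab32_ok : cert.tabPart 209483 10944 342 = true := by decide +kernel

theorem tab33_ok : cert.tabPart 209483 11286 342 = true := by decide +kernel

theorem tab34_ok : cert.tabPart 209483 11628 342 = true := by decide +kernel

theorem tab35_ok : cert.tabPart 209483 11970 342 = true := by decide +kernel

end Cfsg.Lib.J3Type.Main
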