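import Cfsg.Agent.J3Type.Cert.MainData
import Cfsg.Agent.CosetCert.TabSplit

/-!
Rows of the final table of the main enumeration, part 2.
-/

set_option autoImplicit false
set_option Elab.async false

namespace Cfsg.Lib.J3Type.Main

open Cfsg.Lib.CosetCert

theorem tab36_ok : cert.tabPart 209483 12312 342 = true := by decide +kernel

theorem tab37_ok : cert.tabPart 209483 12654 342 = true := by decide +kernel

theorem tab38_ok : cert.tabPart 209483 12996 342 = true := by decide +kernel

theorem tab39_ok : cert.tabPart 209483 13338 342 = true := by decide +kernel

theorem tab40_ok : cert.tabPart 209483 13680 342 = true := by decide +kernel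

theorem tab41_ok : cert.tabPart 209483 14022 342 = true := by decide +kernel

theorem tab42_ok : cert.tabPart 209483 14364 342 = true := by decide +kernel

theorem tab43_ok : cert.tabPart 209483 14706 342 = true := by decide +kernel

theorem tab44_ok : cert.tabPart 209483 15048 342 = true := by decide +kernel

theorem tab45_ok : cert.tabPart 209483 15390 342 = true := by decide +kernel

theorem tab46_ok : cert.tabPart 209483 15732 342 = true := by decide +kernel

theorem tab47_ok : cert.tabPart 209483 16074 342 = true := by decide +kernel

theorem tab48_ok : cert.tabPart 209483 16416 342 = true := by decide +kernel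

theorem tab49_ok : cert.tabPart 209483 16758 342 = true := by decide +kernel

theorem tab50_ok : cert.tabPart 209483 17100 342 = true := by decide +kernel

theorem tab51_ok : cert.tabPart 209483 17442 342 = true := by decide +kernel

theorem tab52_ok : cert.tabPart 209483 17784 342 = true := by decide +kernel

theorem tab53_ok : cert.tabPart 209483 18126 342 = true := by decide +kernel

end Cfsg.Lib.J3Type.Main
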