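import Cfsg.Agent.J3Type.Cert.MainCat
import Cfsg.Agent.J3Type.Cert.MainTab0
import Cfsg.Agent.J3Type.Cert.MainTab1
import Cfsg.Agent.J3Type.Cert.MainTab2

/-!
The certificate of the main enumeration is valid.
-/

set_option autoImplicit false
set_option Elab.async false

namespace Cfsg.Lib.J3Type.Main

open Cfsg.Lib.CosetCert

theorem tabTo0_ok : cert.tabPart 209483 0 342 = true := tab0_ok

theorem tabTo1_ok : cert.tabPart 209483 0 684 = true :=
  Cert.tabPart_add (b := 342) (c := 342) tabTo0_ok (by rw [Nat.zero_add]; exact tab1_ok)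

theorem tabTo2_ok : cert.tabPart 209483 0 1026 = true :=
  Cert.tabPart_add (b := 684) (c := 342) tabTo1_ok (by rw [Nat.zero_add]; exact tab2_ok)

theorem tabTo3_ok : cert.tabPart 209483 0 1368 = true :=
  Cert.tabPart_add (b := 1026) (c := 342) tabTo2_ok (by rw [Nat.zero_add]; exact tab3_ok)

theorem tabTo4_ok : cert.tabPart 209483 0 1710 = true :=
  Cert.tabPart_add (b := 1368) (c := 342) tabTo3_ok (by rw [Nat.zero_add]; exact tab4_ok)

theorem tabTo5_ok : cert.tabPart 209483 0 2052 = true :=
  Cert.tabPart_add (b := 1710) (c := 342) tabTo4_ok (by rw [Nat.zero_add]; exact tab5_ok)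

theorem tabTo6_ok : cert.tabPart 209483 0 2394 = true :=
  Cert.tabPart_add (b := 2052) (c := 342) tabTo5_ok (by rw [Nat.zero_add]; exact tab6_ok)

theorem tabTo7_ok : cert.tabPart 209483 0 2736 = true :=
  Cert.tabPart_add (b := 2394) (c := 342) tabTo6_ok (by rw [Nat.zero_add]; exact tab7_ok)

theorem tabTo8_ok : cert.tabPart 209483 0 3078 = true :=
  Cert.tabPart_add (b := 2736) (c := 342) tabTo7_ok (by rw [Nat.zero_add]; exact tab8_ok)

theorem tabTo9_ok : cert.tabPart 209483 0 3420 = true :=
  Cert.tabPart_add (b := 3078) (c := 342) tabTo8_ok (by rw [Nat.zero_add]; exact tab9_ok)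

theorem tabTo10_ok : cert.tabPart 209483 0 3762 = true :=
  Cert.tabPart_add (b := 3420) (c := 342) tabTo9_ok (by rw [Nat.zero_add]; exact tab10_ok)

theorem tabTo11_ok : cert.tabPart 209483 0 4104 = true :=
  Cert.tabPart_add (b := 3762) (c := 342) tabTo10_ok (by rw [Nat.zero_add]; exact tab11_ok)

theorem tabTo12_ok : cert.tabPart 209483 0 4446 = true :=
  Cert.tabPart_add (b := 4104) (c := 342) tabTo11_ok (by rw [Nat.zero_add]; exact tab12_ok)

theorem tabTo13_ok : cert.tabPart 209483 0 4788 = true :=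
  Cert.tabPart_add (b := 4446) (c := 342) tabTo12_ok (by rw [Nat.zero_add]; exact tab13_ok)

theorem tabTo14_ok : cert.tabPart 209483 0 5130 = true :=
  Cert.tabPart_add (b := 4788) (c := 342) tabTo13_ok (by rw [Nat.zero_add]; exact tab14_ok)

theorem tabTo15_ok : cert.tabPart 209483 0 5472 = true :=
  Cert.tabPart_add (b := 5130) (c := 342) tabTo14_ok (by rw [Nat.zero_add]; exact tab15_ok)

theorem tabTo16_ok : cert.tabPart 209483 0 5814 = true :=
  Cert.tabPart_add (b := 5472) (c := 342) tabTo15_ok (by rw [Nat.zero_add]; exact tab16_ok)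

theorem tabTo17_ok : cert.tabPart 209483 0 6156 = true :=
  Cert.tabPart_add (b := 5814) (c := 342) tabTo16_ok (by rw [Nat.zero_add]; exact tab17_ok)

theorem tabTo18_ok : cert.tabPart 209483 0 6498 = true :=
  Cert.tabPart_add (b := 6156) (c := 342) tabTo17_ok (by rw [Nat.zero_add]; exact tab18_ok)

theorem tabTo19_ok : cert.tabPart 209483 0 6840 = true :=
  Cert.tabPart_add (b := 6498) (c := 342) tabTo18_ok (by rw [Nat.zero_add]; exact tab19_ok)

theorem tabTo20_ok : cert.tabPart 209483 0 7182 = true :=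
  Cert.tabPart_add (b := 6840) (c := 342) tabTo19_ok (by rw [Nat.zero_add]; exact tab20_ok)

theorem tabTo21_ok : cert.tabPart 209483 0 7524 = true :=
  Cert.tabPart_add (b := 7182) (c := 342) tabTo20_ok (by rw [Nat.zero_add]; exact tab21_ok)

theorem tabTo22_ok : cert.tabPart 209483 0 7866 = true :=
  Cert.tabPart_add (b := 7524) (c := 342) tabTo21_ok (by rw [Nat.zero_add]; exact tab22_ok)

theorem tabTo23_ok : cert.tabPart 209483 0 8208 = true :=
  Cert.tabPart_add (b := 7866) (c := 342) tabTo22_ok (by rw [Nat.zero_add]; exact tab23_ok)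

theorem tabTo24_ok : cert.tabPart 209483 0 8550 = true :=
  Cert.tabPart_add (b := 8208) (c := 342) tabTo23_ok (by rw [Nat.zero_add]; exact tab24_ok)

theorem tabTo25_ok : cert.tabPart 209483 0 8892 = true :=
  Cert.tabPart_add (b := 8550) (c := 342) tabTo24_ok (by rw [Nat.zero_add]; exact tab25_ok)

theorem tabTo26_ok : cert.tabPart 209483 0 9234 = true :=
  Cert.tabPart_add (b := 8892) (c := 342) tabTo25_ok (by rw [Nat.zero_add]; exact tab26_ok)

theorem tabTo27_ok : cert.tabPart 209483 0 9576 = true :=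
  Cert.tabPart_add (b := 9234) (c := 342) tabTo26_ok (by rw [Nat.zero_add]; exact tab27_ok)

theorem tabTo28_ok : cert.tabPart 209483 0 9918 = true :=
  Cert.tabPart_add (b := 9576) (c := 342) tabTo27_ok (by rw [Nat.zero_add]; exact tab28_ok)

theorem tabTo29_ok : cert.tabPart 209483 0 10260 = true :=
  Cert.tabPart_add (b := 9918) (c := 342) tabTo28_ok (by rw [Nat.zero_add]; exact tab29_ok)

theorem tabTo30_ok : cert.tabPart 209483 0 10602 = true :=
  Cert.tabPart_add (b := 10260) (c := 342) tabTo29_ok (by rw [Nat.zero_add]; exact tab30_ok)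

theorem tabTo31_ok : cert.tabPart 209483 0 10944 = true :=
  Cert.tabPart_add (b := 10602) (c := 342) tabTo30_ok (by rw [Nat.zero_add]; exact tab31_ok)

theorem tabTo32_ok : cert.tabPart 209483 0 11286 = true :=
  Cert.tabPart_add (b := 10944) (c := 342) tabTo31_ok (by rw [Nat.zero_add]; exact tab32_ok)

theorem tabTo33_ok : cert.tabPart 209483 0 11628 = true :=
  Cert.tabPart_add (b := 11286) (c := 342) tabTo32_ok (by rw [Nat.zero_add]; exact tab33_ok)

theorem tabTo34_ok : cert.tabPart 209483 0 11970 = true :=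
  Cert.tabPart_add (b := 11628) (c := 342) tabTo33_ok (by rw [Nat.zero_add]; exact tab34_ok)

theorem tabTo35_ok : cert.tabPart 209483 0 12312 = true :=
  Cert.tabPart_add (b := 11970) (c := 342) tabTo34_ok (by rw [Nat.zero_add]; exact tab35_ok)

theorem tabTo36_ok : cert.tabPart 209483 0 12654 = true :=
  Cert.tabPart_add (b := 12312) (c := 342) tabTo35_ok (by rw [Nat.zero_add]; exact tab36_ok)

theorem tabTo37_ok : cert.tabPart 209483 0 12996 = true :=
  Cert.tabPart_add (b := 12654) (c := 342) tabTo36_ok (by rw [Nat.zero_add]; exact tab37_ok)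

theorem tabTo38_ok : cert.tabPart 209483 0 13338 = true :=
  Cert.tabPart_add (b := 12996) (c := 342) tabTo37_ok (by rw [Nat.zero_add]; exact tab38_ok)

theorem tabTo39_ok : cert.tabPart 209483 0 13680 = true :=
  Cert.tabPart_add (b := 13338) (c := 342) tabTo38_ok (by rw [Nat.zero_add]; exact tab39_ok)

theorem tabTo40_ok : cert.tabPart 209483 0 14022 = true :=
  Cert.tabPart_add (b := 13680) (c := 342) tabTo39_ok (by rw [Nat.zero_add]; exact tab40_ok)

theorem tabTo41_ok : cert.tabPart 209483 0 14364 = true :=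
  Cert.tabPart_add (b := 14022) (c := 342) tabTo40_ok (by rw [Nat.zero_add]; exact tab41_ok)

theorem tabTo42_ok : cert.tabPart 209483 0 14706 = true :=
  Cert.tabPart_add (b := 14364) (c := 342) tabTo41_ok (by rw [Nat.zero_add]; exact tab42_ok)

theorem tabTo43_ok : cert.tabPart 209483 0 15048 = true :=
  Cert.tabPart_add (b := 14706) (c := 342) tabTo42_ok (by rw [Nat.zero_add]; exact tab43_ok)

theorem tabTo44_ok : cert.tabPart 209483 0 15390 = true :=
  Cert.tabPart_add (b := 15048) (c := 342) tabTo43_ok (by rw [Nat.zero_add]; exact tab44_ok)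

theorem tabTo45_ok : cert.tabPart 209483 0 15732 = true :=
  Cert.tabPart_add (b := 15390) (c := 342) tabTo44_ok (by rw [Nat.zero_add]; exact tab45_ok)

theorem tabTo46_ok : cert.tabPart 209483 0 16074 = true :=
  Cert.tabPart_add (b := 15732) (c := 342) tabTo45_ok (by rw [Nat.zero_add]; exact tab46_ok)

theorem tabTo47_ok : cert.tabPart 209483 0 16416 = true :=
  Cert.tabPart_add (b := 16074) (c := 342) tabTo46_ok (by rw [Nat.zero_add]; exact tab47_ok)

theorem tabTo48_ok : cert.tabPart 209483 0 16758 = true :=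
  Cert.tabPart_add (b := 16416) (c := 342) tabTo47_ok (by rw [Nat.zero_add]; exact tab48_ok)

theorem tabTo49_ok : cert.tabPart 209483 0 17100 = true :=
  Cert.tabPart_add (b := 16758) (c := 342) tabTo48_ok (by rw [Nat.zero_add]; exact tab49_ok)

theorem tabTo50_ok : cert.tabPart 209483 0 17442 = true :=
  Cert.tabPart_add (b := 17100) (c := 342) tabTo49_ok (by rw [Nat.zero_add]; exact tab50_ok)

theorem tabTo51_ok : cert.tabPart 209483 0 17784 = true :=
  Cert.tabPart_add (b := 17442) (c := 342) tabTo50_ok (by rw [Nat.zero_add]; exact tab51_ok)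

theorem tabTo52_ok : cert.tabPart 209483 0 18126 = true :=
  Cert.tabPart_add (b := 17784) (c := 342) tabTo51_ok (by rw [Nat.zero_add]; exact tab52_ok)

theorem tabTo53_ok : cert.tabPart 209483 0 18468 = true :=
  Cert.tabPart_add (b := 18126) (c := 342) tabTo52_ok (by rw [Nat.zero_add]; exact tab53_ok)

theorem spec_ok : cert.rotsOK rels spec = true := by decide +kernel

theorem tab_ok : cert.tabOK cat9_0.length = true := by
  rw [cat9_0_len]
  exact Cert.tabOK_of_part (by decide +kernel) tabTo53_ok

theorem valid : cert.Valid rels :=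
  ⟨by decide, spec, cat9_0, spec_ok, cat9_0_ok.1, cat9_0_ok.2, tab_ok⟩

theorem fins_length : cert.fin.length = 18468 := by rw [Cert.fin, List.length_map, List.length_range]; rfl

end Cfsg.Lib.J3Type.Main
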